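import Cfsg.Agent.H477.HC.Arith
import Cfsg.Agent.ClassicalGeometry.SympInvolutions

/-!
# Characters of `PSp_{2m}(q)` (hub H5, helper477)

`psp_char` : for a cuspidal datum `c` of `GL_k(K)`, `1 ≤ k ≤ m`, trivial on `-1`, there is an irreducible character of
`PSp m K` of degree `dg (spF K m) k`; `psp_dvd` : `∏_{m-k<i≤m} (q^{2i}-1)` divides `p^e dg (q^k-1)`.
-/

set_option autoImplicit false

open scoped ComplexConjugate
open Cfsg

namespace Cfsg.Agent.H477.HC

open Cfsg.Agent.Characters Module Cfsg.Agent.H53.HC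

universe u v w

theorem finite_Om {K : Type u} [Field K] {V : Type v} [AddCommGroup V] [Module K V] [Finite V] (F : CForm K V) (k : ℕ) :
    Finite (F.Om k) := by
  have : Finite (Submodule K V) := Finite.of_injective (fun W : Submodule K V => (W : Set V)) SetLike.coe_injective
  infer_instance

theorem finite_iso {K : Type u} [Field K] {V : Type v} [AddCommGroup V] [Module K V] [Finite V] (F : CForm K V) :
    Finite F.iso := by
  have : Finite (V ≃ₗ[K] V) := Finite.of_injective (fun e : V ≃ₗ[K] V => (e : V → V)) DFunLike.coe_injective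
  infer_instance

/-- the irreducible character of the isometry group, with its values at `1` and at scalars -/
theorem exists_char {K : Type u} [Field K] [Finite K] {V : Type v} [AddCommGroup V] [Module K V] [Finite V]
    [FiniteDimensional K V] (F : CForm K V) {k : ℕ} {W₀ : Submodule K V} (hW₀ : W₀ ∈ F.Om k) {Z : Kˣ → Prop}
    {c : GL (Fin k) K → ℂ} (hc : Cus K k F.σ Z c) :
    ∃ χ : F.iso → ℂ, IsIrrCharacter F.iso χ ∧ χ 1 = (dg F k : ℂ) ∧
      ∀ (z : F.iso) (a : Kˣ), Z a → (∀ v, (z : V ≃ₗ[K] V) v = (a : K) • v) → χ z = χ 1 := by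
  have := finite_Om F k
  have := finite_iso F
  let _ := Fintype.ofFinite (F.Om k)
  let _ := Fintype.ofFinite F.iso
  have hcl := Core.isIrr_isClassFunction hc.irr
  refine ⟨F.hc c (fun _ _ => 1), F.isIrr_hc_one hc.irr hc.cusp hc.dual hW₀, ?_, fun z a ha hz => ?_⟩
  · rw [F.hc_one hcl (fun _ _ => 1) (d := 1) (fun _ _ => rfl), hc.deg, mul_one]
    unfold dg
    rw [Nat.cast_mul]
  · exact F.hc_scalar hcl (fun _ _ => 1) hz (hc.scal a ha) (fun _ _ => rfl)

/-- the degrees of `PSp` -/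
theorem psp_char {K : Type u} [Field K] [Finite K] {k n : ℕ} {Z : Kˣ → Prop} {c : GL (Fin k) K → ℂ}
    (hc : Cus K k (RingHom.id K) Z c) (h1 : Z 1) (hZ : Z (-1)) :
    ∃ χ : PSp (k + n) K → ℂ, IsIrrCharacter _ χ ∧ χ 1 = (dg (CForm.spF K (k + n)) k : ℂ) := by
  classical
  obtain ⟨p, hp⟩ := CharP.exists K
  have hpr : p.Prime := (CharP.char_is_prime_or_zero K p).resolve_right (CharP.char_ne_zero_of_finite K p)
  have : Fact p.Prime := ⟨hpr⟩
  obtain ⟨⟨W₀, hW₀⟩, -⟩ := CForm.spF_frame (K := K) (p := p) k n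
  obtain ⟨χ, hχ, hχ1, hχz⟩ := exists_char (CForm.spF K (k + n)) hW₀ (Z := Z) (c := c) hc
  have hfin : Finite (Matrix.symplecticGroup (Fin (k + n)) K) := inferInstance
  have hχ' : IsIrrCharacter _ (χ ∘ (isoSp (k + n) K).toMonoidHom) :=
    Core.isIrr_comp (isoSp (k + n) K).toMonoidHom (isoSp (k + n) K).surjective hχ
  obtain ⟨η, hη, hη'⟩ := exists_quot (Subgroup.center (Matrix.symplecticGroup (Fin (k + n)) K)) hχ' (fun z hz => by
    change χ (isoSp (k + n) K z) = χ (isoSp (k + n) K 1)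
    rw [map_one]
    rcases Cfsg.Agent.ClassicalGeometry.SympInvolutions.center_eq hz with h | h
    · refine hχz _ 1 h1 fun v => ?_
      rw [isoSp_apply, h, Matrix.one_mulVec, Units.val_one, one_smul]
    · refine hχz _ (-1) hZ fun v => ?_
      rw [isoSp_apply, h, Matrix.neg_mulVec, Matrix.one_mulVec, Units.val_neg, Units.val_one, neg_one_smul])
  refine ⟨η, hη, ?_⟩
  rw [← hχ1]
  have := hη' 1
  rw [QuotientGroup.mk_one] at this
  rw [this]
  change χ (isoSp (k + n) K 1) = χ 1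
  rw [map_one]

/-- the divisibility -/
theorem psp_dvd (K : Type u) [Field K] [Finite K] {p : ℕ} [Fact p.Prime] [CharP K p] {k n : ℕ} (hk : 0 < k) :
    ∃ e, ∏ i ∈ Finset.Ico n (k + n), (Nat.card K ^ (2 * (i + 1)) - 1) ∣
      p ^ e * (dg (CForm.spF K (k + n)) k * (Nat.card K ^ k - 1)) := by
  obtain ⟨-, h⟩ := CForm.spF_frame (K := K) (p := p) k n
  have := finite_iso (CForm.spF K n)
  refine key_dvd hk h (y := n ^ 2) ?_
  rw [card_spF, card_spF, ← Finset.prod_range_mul_prod_Ico _ (Nat.le_add_left n k)]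
  refine ⟨Nat.card K ^ ((k + n) ^ 2), ?_⟩
  ring

/-- `k = m` : `(q^m+1) ∏_{i<m}(q^{2i}-1)` divides the degree, up to `p` -/
theorem psp_dvd_top (K : Type u) [Field K] [Finite K] {p : ℕ} [Fact p.Prime] [CharP K p] {m : ℕ} (hm : 0 < m) :
    ∃ e, (Nat.card K ^ m + 1) * ∏ i ∈ Finset.range (m - 1), (Nat.card K ^ (2 * (i + 1)) - 1) ∣
      p ^ e * dg (CForm.spF K (m + 0)) m := by
  refine key_div hm ?_
  obtain ⟨e, he⟩ := psp_dvd K (p := p) (k := m) (n := 0) hm
  refine ⟨e, ?_⟩
  refine (dvd_of_eq ?_).trans he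
  obtain ⟨j, rfl⟩ : ∃ j, m = j + 1 := ⟨m - 1, by omega⟩
  rw [Nat.add_zero, Nat.Ico_zero_eq_range, Finset.prod_range_succ, Nat.add_sub_cancel]
  have h1 : Nat.card K ^ (2 * (j + 1)) - 1 = (Nat.card K ^ (j + 1) + 1) * (Nat.card K ^ (j + 1) - 1) := by
    rw [← Nat.sq_sub_sq, one_pow, ← pow_mul, mul_comm]
  rw [h1]
  ring

/-- existence of the cuspidal datum trivial on `±1` -/
theorem exists_cus_sq (K : Type u) [Field K] [Finite K] {q : ℕ} (hq : Nat.card K = q) (k : ℕ) (hk : 0 < k)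
    (h2 : q = 2 → 3 ≤ k) (h3 : q = 3 → 3 ≤ k) (h5 : q = 5 → 2 ≤ k) :
    ∃ c : GL (Fin k) K → ℂ, Cus K k (RingHom.id K) (fun z => z ^ 2 = 1) c := by
  have hq2 : 2 ≤ q := by rw [← hq]; exact Finite.one_lt_card
  have hpow : ∀ j, j ≤ k → q ^ j ≤ q ^ k := fun j hj => Nat.pow_le_pow_right (by omega) hj
  rcases Nat.even_or_odd q with he | ho
  · obtain ⟨c, hc⟩ := exists_cus_one (K := K) hq k hk (by
      rcases Nat.lt_or_ge q 3 with h | h
      · have h6 : q = 2 := by omega
        have h7 := hpow 3 (h2 h6)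
        rw [h6] at h7 ⊢
        omega
      · have h6 : q ≠ 3 := by rintro rfl; revert he; decide
        have h7 := hpow 1 hk
        rw [pow_one] at h7
        omega) (by rintro ⟨h6, h7⟩; have := h2 h6; omega)
    have h2K : (2 : K) = 0 := by
      let _ := Fintype.ofFinite K
      obtain ⟨p, hp⟩ := CharP.exists K
      have hpr : p.Prime := (CharP.char_is_prime_or_zero K p).resolve_right (CharP.char_ne_zero_of_finite K p)
      have : Fact p.Prime := ⟨hpr⟩
      obtain ⟨n, hn⟩ := card_pow K p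
      have h6 : 2 ∣ p ^ n := by rw [← hn, hq]; exact he.two_dvd
      have h7 : p = 2 := ((Nat.prime_dvd_prime_iff_eq Nat.prime_two hpr).1 (Nat.prime_two.dvd_of_dvd_pow h6)).symm
      subst h7
      exact_mod_cast (CharP.cast_eq_zero K 2)
    refine ⟨c, hc.irr, hc.cusp, hc.dual, fun z hz => hc.scal z ?_, hc.deg⟩
    rw [pow_one]
    have h8 : ((z : K) - 1) ^ 2 = 0 := by
      have h9 : (z : K) ^ 2 = 1 := by
        rw [← Units.val_pow_eq_pow_val, hz, Units.val_one]
      linear_combination h9 - ((z : K) - 1) * h2K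
    exact Units.ext (sub_eq_zero.1 (pow_eq_zero_iff two_ne_zero |>.1 h8))
  · have h6 : 3 ≤ q := by
      rcases ho with ⟨j, hj⟩; omega
    refine exists_cus_two (K := K) hq h6 k hk ?_ (by rintro ⟨h7, h8⟩; have := h3 h7; omega)
    rcases Nat.lt_or_ge q 7 with h | h
    · have h7 : q = 3 ∨ q = 5 := by
        rcases ho with ⟨j, hj⟩; omega
      rcases h7 with h7 | h7
      · have h8 := hpow 3 (h3 h7)
        rw [h7] at h8 ⊢
        omega
      · have h8 := hpow 2 (h5 h7)
        rw [h7] at h8 ⊢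
        omega
    · have h8 := hpow 1 hk
      rw [pow_one] at h8
      omega

open Cfsg.Agent.H33

/-- **`PSp_{2m}(q)`, `r ≠ p`**, apart from `PSp_4(3)`, `(PSp_6(2), 7)`, `(PSp_6(3), 13)` -/
theorem im_psp_main (K : Type u) [Field K] [Finite K] {p : ℕ} [Fact p.Prime] [CharP K p] {m : ℕ} (hm : 2 ≤ m)
    (h1 : m = 2 → 4 ≤ Nat.card K) {r : ℕ} (hr : r.Prime) (hrp : r ≠ p) (hd : r ∣ Nat.card (PSp m K))
    (h2 : m = 3 → Nat.card K = 2 → r ≠ 7) (h3 : m = 3 → Nat.card K = 3 → r ≠ 13) : IM r (PSp m K) := by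
  classical
  have hp : p.Prime := Fact.out
  obtain ⟨s, hs⟩ := card_pow K p
  have hq2 : 2 ≤ Nat.card K := Finite.one_lt_card
  have hrq : ¬ r ∣ Nat.card K := by
    rw [hs]; intro h; exact hrp ((Nat.prime_dvd_prime_iff_eq hr hp).1 (hr.dvd_of_dvd_pow h))
  -- `r` divides some factor
  have hd1 : r ∣ Nat.card (Matrix.symplecticGroup (Fin m) K) := hd.trans (Subgroup.card_quotient_dvd_card _)
  rw [Nat.card_congr (isoSp m K).toEquiv, card_spF] at hd1
  have hd2 : r ∣ ∏ i ∈ Finset.range m, (Nat.card K ^ (2 * (i + 1)) - 1) :=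
    (hr.dvd_mul.1 hd1).resolve_left fun h => hrq (hr.dvd_of_dvd_pow h)
  by_cases hA : r ∣ (Nat.card K ^ m + 1) * ∏ i ∈ Finset.range (m - 1), (Nat.card K ^ (2 * (i + 1)) - 1)
  · obtain ⟨c, hc⟩ := exists_cus_sq K rfl m (by omega) (fun h => by
        by_contra h'
        have := h1 (by omega)
        omega) (fun h => by
        by_contra h'
        have := h1 (by omega)
        omega) (fun h => by omega)
    obtain ⟨χ, hχ, hχ1⟩ := psp_char (k := m) (n := 0) hc (one_pow 2) (neg_one_sq)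
    obtain ⟨e, he⟩ := psp_dvd_top K (p := p) (m := m) (by omega)
    refine IM.of_apply_one hχ hχ1 ?_
    have := prime_pow_dvd (t := 1) hr hp hrp (by rw [pow_one]; exact hA.trans he)
    rwa [pow_one] at this
  · have hA1 : ¬ r ∣ Nat.card K ^ m + 1 := fun h => hA (Dvd.dvd.mul_right h _)
    have hA2 : ∀ i, i < m - 1 → ¬ r ∣ Nat.card K ^ (2 * (i + 1)) - 1 := fun i hi h =>
      hA (Dvd.dvd.mul_left (h.trans (Finset.dvd_prod_of_mem (fun i => Nat.card K ^ (2 * (i + 1)) - 1)
        (Finset.mem_range.2 hi))) _)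
    have hB : r ∣ Nat.card K ^ (2 * m) - 1 := by
      obtain ⟨i, hi, hi'⟩ := (Prime.dvd_finsetProd_iff hr.prime _).1 hd2
      rw [Finset.mem_range] at hi
      rcases Nat.lt_or_ge i (m - 1) with h | h
      · exact absurd hi' (hA2 i h)
      · have : i + 1 = m := by omega
        rwa [this] at hi'
    have hB' : r ∣ Nat.card K ^ m - 1 := by
      have h4 : Nat.card K ^ (2 * m) - 1 = (Nat.card K ^ m + 1) * (Nat.card K ^ m - 1) := by
        rw [← Nat.sq_sub_sq, one_pow, ← pow_mul, mul_comm]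
      rw [h4] at hB
      exact (hr.dvd_mul.1 hB).resolve_left hA1
    have hm3 : 3 ≤ m := by
      by_contra h
      have hm2 : m = 2 := by omega
      have := hA2 0 (by omega)
      rw [hm2] at hB'
      exact this hB'
    obtain ⟨c, hc⟩ := exists_cus_sq K rfl (m - 1) (by omega) (fun h => by
        by_contra h'
        have hm3' : m = 3 := by omega
        apply h2 hm3' h
        rw [hm3', h] at hB'
        exact ((Nat.prime_dvd_prime_iff_eq hr (by norm_num)).1 (by norm_num at hB'; exact hB')))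
      (fun h => by
        by_contra h'
        have hm3' : m = 3 := by omega
        apply h3 hm3' h
        rw [hm3', h] at hB'
        have h5 : r ∣ 2 * 13 := by norm_num at hB'; exact hB'
        rcases hr.dvd_mul.1 h5 with h6 | h6
        · exfalso
          have h7 : r = 2 := (Nat.prime_dvd_prime_iff_eq hr Nat.prime_two).1 h6
          apply hA2 0 (by omega)
          rw [h7, h]
          norm_num
        · exact (Nat.prime_dvd_prime_iff_eq hr (by norm_num)).1 h6) (fun h => by omega)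
    obtain ⟨χ, hχ, hχ1⟩ := psp_char (k := m - 1) (n := 1) hc (one_pow 2) (neg_one_sq)
    obtain ⟨e, he⟩ := psp_dvd K (p := p) (k := m - 1) (n := 1) (by omega)
    have hm1 : m - 1 + 1 = m := by omega
    have h6 : r ∣ p ^ e * (dg (CForm.spF K (m - 1 + 1)) (m - 1) * (Nat.card K ^ (m - 1) - 1)) := by
      refine Dvd.dvd.trans ?_ he
      refine Dvd.dvd.trans ?_ (Finset.dvd_prod_of_mem _ (Finset.mem_Ico.2 ⟨(by omega : 1 ≤ m - 1), by omega⟩))
      rw [hm1]
      exact hB
    have h7 : r ∣ dg (CForm.spF K (m - 1 + 1)) (m - 1) * (Nat.card K ^ (m - 1) - 1) := by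
      have := prime_pow_dvd (t := 1) hr hp hrp (by rw [pow_one]; exact h6)
      rwa [pow_one] at this
    have h8 : ¬ r ∣ Nat.card K ^ (m - 1) - 1 := by
      intro h
      apply hA2 (m - 2) (by omega)
      refine h.trans ?_
      have h9 : m - 2 + 1 = m - 1 := by omega
      rw [h9, mul_comm, pow_mul]
      simpa using Nat.sub_dvd_pow_sub_pow (Nat.card K ^ (m - 1)) 1 2
    have h9 := (hr.dvd_mul.1 h7).resolve_right h8
    have h10 : IM r (PSp (m - 1 + 1) K) := IM.of_apply_one hχ hχ1 h9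
    rwa [hm1] at h10

end Cfsg.Agent.H477.HC
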