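import Cfsg.Agent.H477.HC.Frames

/-!
# The unipotent radical of a frame (hub H5, helper477)

`Frm.exists_unip` : regular action on the opposite frames; `Frm.exists_w` : the swap of `e` and `f`;
`Frm.Us` : the unipotent radical; `Frm.unip_ext`.
-/

set_option autoImplicit false

open Cfsg

namespace Cfsg.Agent.H477.HC

open Module Cfsg.Agent.H53.HC

universe u v w

namespace CForm

variable {K : Type u} [Field K] {V : Type v} [AddCommGroup V] [Module K V] {F : CForm K V}
  {X : Type w} [AddCommGroup X] [Module K X] {F' : CForm K X} {k : ℕ} {e f : Fin k → V} {j : X →ₗ[K] V}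

theorem sum_delta {ι : Type*} [Fintype ι] [DecidableEq ι] {R : Type*} [Semiring R] (c : ι → R) (l : ι) :
    ∑ i, c i * (if i = l then 1 else 0) = c l := by
  rw [Finset.sum_eq_single l]
  · rw [if_pos rfl, mul_one]
  · intro i _ hi
    rw [if_neg hi, mul_zero]
  · intro h; exact absurd (Finset.mem_univ _) h

theorem Frm.hfe (h : Frm F F' e f j) (i l : Fin k) : F.B (f i) (e l) = if i = l then F.ε else 0 := by
  rw [F.B_symm, h.hef]
  by_cases hij : i = l
  · rw [if_pos hij, if_pos hij.symm, map_one, mul_one]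
  · rw [if_neg hij, if_neg (Ne.symm hij), map_zero, mul_zero]

theorem dual_fe {y : Fin k → V} (hey : ∀ i l, F.B (e i) (y l) = if i = l then 1 else 0) (i l : Fin k) :
    F.B (y i) (e l) = if i = l then F.ε else 0 := by
  rw [F.B_symm, hey]
  by_cases hij : i = l
  · rw [if_pos hij, if_pos hij.symm, map_one, mul_one]
  · rw [if_neg hij, if_neg (Ne.symm hij), map_zero, mul_zero]

theorem sum_deltaε {ι : Type*} [Fintype ι] [DecidableEq ι] {R : Type*} [Semiring R] (c : ι → R) (ε : R) (l : ι) :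
    ∑ i, c i * (if i = l then ε else 0) = c l * ε := by
  rw [Finset.sum_eq_single l]
  · rw [if_pos rfl]
  · intro i _ hi
    rw [if_neg hi, mul_zero]
  · intro h; exact absurd (Finset.mem_univ _) h

/-- the coordinates with respect to a frame -/
def cmb (e : Fin k → V) (F : CForm K V) (a : Fin k → V) (c : K) : V →ₗ[K] V :=
  ∑ i, (c • F.lf (a i)).smulRight (e i)

theorem cmb_apply (e : Fin k → V) (a : Fin k → V) (c : K) (v : V) :
    cmb e F a c v = ∑ i, (c * F.B v (a i)) • e i := by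
  unfold cmb
  rw [LinearMap.sum_apply]
  rfl

theorem cmb_mem (e : Fin k → V) (a : Fin k → V) (c : K) (v : V) : cmb e F a c v ∈ Submodule.span K (Set.range e) := by
  rw [cmb_apply]
  exact (Submodule.mem_span_range_iff_exists_fun K).2 ⟨_, rfl⟩

/-- **the unipotent element carrying `f` to the opposite frame `y`** -/
theorem Frm.exists_unip [FiniteDimensional K V] (h : Frm F F' e f j) {y : Fin k → V}
    (hey : ∀ i l, F.B (e i) (y l) = if i = l then 1 else 0) (hyy : ∀ i l, F.B (y i) (y l) = 0)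
    (hQy : ∀ i, F.Q (y i) = 0) :
    ∃ u : F.iso, (∀ i, (u : V ≃ₗ[K] V) (e i) = e i) ∧ (∀ i, (u : V ≃ₗ[K] V) (f i) = y i) ∧
      ∀ v, (∀ i, F.B v (e i) = 0) → (u : V ≃ₗ[K] V) v = v - ∑ i, F.B v (y i - f i) • e i := by
  have hε := F.ε_ne
  let P : V →ₗ[K] V := cmb f F e F.ε⁻¹
  let Y : V →ₗ[K] V := cmb y F e F.ε⁻¹
  let r : V →ₗ[K] V := LinearMap.id - P
  let H : V →ₗ[K] V := (cmb e F (fun i => y i - f i) 1).comp r
  have hP : ∀ v, P v = ∑ i, (F.ε⁻¹ * F.B v (e i)) • f i := cmb_apply _ _ _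
  have hY : ∀ v, Y v = ∑ i, (F.ε⁻¹ * F.B v (e i)) • y i := cmb_apply _ _ _
  have hH : ∀ v, H v = ∑ i, (1 * F.B (r v) (y i - f i)) • e i := fun v => cmb_apply _ _ _ _
  have hr : ∀ v, r v = v - P v := fun v => rfl
  have tsf := F.TS_span h.hff h.hQf
  have tse := F.TS_span h.hee h.hQe
  have tsy := F.TS_span hyy hQy
  have Pm : ∀ v, P v ∈ Submodule.span K (Set.range f) := fun v => cmb_mem _ _ _ _
  have Ym : ∀ v, Y v ∈ Submodule.span K (Set.range y) := fun v => cmb_mem _ _ _ _
  have Hm : ∀ v, H v ∈ Submodule.span K (Set.range e) := fun v => cmb_mem _ _ _ _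
  have re : ∀ v l, F.B (r v) (e l) = 0 := by
    intro v l
    rw [hr, F.B_sub_left, hP, B_sum_left]
    simp only [h.hfe]
    rw [sum_deltaε (fun i => F.ε⁻¹ * F.B v (e i)) F.ε l]
    field_simp
    ring
  have rH : ∀ u v, F.B (r u) (H v) = 0 := by
    intro u v
    rw [hH, B_sum_right]
    exact Finset.sum_eq_zero fun i _ => by rw [re, mul_zero]
  have Hy : ∀ u m, F.B (H u) (y m) = F.B (r u) (y m - f m) := by
    intro u m
    rw [hH, B_sum_left]
    simp only [hey]
    rw [sum_delta (fun i => 1 * F.B (r u) (y i - f i)) m, one_mul]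
  have key : ∀ u v, F.B (r u - H u) (Y v) = F.B (r u) (P v) := by
    intro u v
    rw [hY, hP, B_sum_right, B_sum_right]
    refine Finset.sum_congr rfl fun i _ => ?_
    rw [F.B_sub_left, Hy, F.B_sub_right]
    ring
  have key' : ∀ u v, F.B (Y v) (r u - H u) = F.B (P v) (r u) := by
    intro u v
    rw [F.B_symm, key, F.B_symm (P v)]
  let g : V →ₗ[K] V := r - H + Y
  have hg : ∀ v, g v = (r v - H v) + Y v := fun v => rfl
  have hv : ∀ v, v = r v + P v := fun v => by rw [hr]; abel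
  have HH : ∀ u v, F.B (H u) (H v) = 0 := fun u v => tse.2 _ (Hm u) _ (Hm v)
  have YY : ∀ u v, F.B (Y u) (Y v) = 0 := fun u v => tsy.2 _ (Ym u) _ (Ym v)
  have PP : ∀ u v, F.B (P u) (P v) = 0 := fun u v => tsf.2 _ (Pm u) _ (Pm v)
  have Hr : ∀ u v, F.B (H u) (r v) = 0 := fun u v => F.B_eq_zero (rH v u)
  obtain ⟨u, hu⟩ := F.exists_iso g (fun x z => by
    rw [hg, hg, F.B_add_left, F.B_add_right, F.B_add_right, key, key', YY, F.B_sub_left, F.B_sub_right, F.B_sub_right,
      HH, rH, Hr]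
    conv_rhs => rw [hv x, hv z]
    rw [F.B_add_left, F.B_add_right, F.B_add_right, PP]
    ring) (fun v => by
    rw [hg, F.Q_add, key, tsy.1 _ (Ym v), sub_eq_add_neg, F.Q_add, F.B_neg_right, rH, neg_zero, F.T_zero]
    have : -H v = (-1 : K) • H v := by rw [neg_one_smul]
    rw [this, F.Q_smul, tse.1 _ (Hm v)]
    conv_rhs => rw [hv v, F.Q_add, tsf.1 _ (Pm v)]
    ring)
  have P0 : ∀ v, (∀ i, F.B v (e i) = 0) → P v = 0 := by
    intro v hv
    rw [hP]
    exact Finset.sum_eq_zero fun i _ => by rw [hv, mul_zero, zero_smul]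
  have Y0 : ∀ v, (∀ i, F.B v (e i) = 0) → Y v = 0 := by
    intro v hv
    rw [hY]
    exact Finset.sum_eq_zero fun i _ => by rw [hv, mul_zero, zero_smul]
  have u1 : ∀ v, (∀ i, F.B v (e i) = 0) → (u : V ≃ₗ[K] V) v = v - ∑ i, F.B v (y i - f i) • e i := by
    intro v hv
    rw [hu, hg, Y0 v hv, hH, hr, P0 v hv, sub_zero, add_zero]
    congr 1
    exact Finset.sum_congr rfl fun i _ => by rw [one_mul]
  refine ⟨u, fun i => ?_, fun l => ?_, u1⟩
  · rw [u1 _ (h.hee i), Finset.sum_eq_zero, sub_zero]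
    intro l _
    rw [F.B_sub_right, hey, h.hef, sub_self, zero_smul]
  · have rl : r (f l) = 0 := by
      rw [hr, hP, Finset.sum_eq_single l]
      · rw [h.hfe, if_pos rfl, inv_mul_cancel₀ hε, one_smul, sub_self]
      · intro i _ hi
        rw [h.hfe, if_neg (Ne.symm hi), mul_zero, zero_smul]
      · intro h; exact absurd (Finset.mem_univ _) h
    rw [hu, hg, hH, rl, Finset.sum_eq_zero (fun i _ => by rw [F.B_zero_left, mul_zero, zero_smul]), sub_zero, zero_add,
      hY, Finset.sum_eq_single l]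
    · rw [h.hfe, if_pos rfl, inv_mul_cancel₀ hε, one_smul]
    · intro i _ hi
      rw [h.hfe, if_neg (Ne.symm hi), mul_zero, zero_smul]
    · intro h; exact absurd (Finset.mem_univ _) h

/-- **the swap** -/
theorem Frm.exists_w [FiniteDimensional K V] (h : Frm F F' e f j) :
    ∃ w : F.iso, (∀ i, (w : V ≃ₗ[K] V) (e i) = f i) ∧ (∀ i, (w : V ≃ₗ[K] V) (f i) = F.ε • e i) ∧
      ∀ v, (∀ i, F.B v (e i) = 0) → (∀ i, F.B v (f i) = 0) → (w : V ≃ₗ[K] V) v = v := by
  have hε := F.ε_ne
  let P : V →ₗ[K] V := cmb f F e F.ε⁻¹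
  let R : V →ₗ[K] V := cmb e F f 1
  let P' : V →ₗ[K] V := cmb e F e 1
  let R' : V →ₗ[K] V := cmb f F f 1
  let s : V →ₗ[K] V := LinearMap.id - P - R
  have hP : ∀ v, P v = ∑ i, (F.ε⁻¹ * F.B v (e i)) • f i := cmb_apply _ _ _
  have hR : ∀ v, R v = ∑ i, (1 * F.B v (f i)) • e i := cmb_apply _ _ _
  have hP' : ∀ v, P' v = ∑ i, (1 * F.B v (e i)) • e i := cmb_apply _ _ _
  have hR' : ∀ v, R' v = ∑ i, (1 * F.B v (f i)) • f i := cmb_apply _ _ _
  have hs : ∀ v, s v = v - P v - R v := fun v => rfl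
  have tsf := F.TS_span h.hff h.hQf
  have tse := F.TS_span h.hee h.hQe
  have Pm : ∀ v, P v ∈ Submodule.span K (Set.range f) := fun v => cmb_mem _ _ _ _
  have Rm : ∀ v, R v ∈ Submodule.span K (Set.range e) := fun v => cmb_mem _ _ _ _
  have Pm' : ∀ v, P' v ∈ Submodule.span K (Set.range e) := fun v => cmb_mem _ _ _ _
  have Rm' : ∀ v, R' v ∈ Submodule.span K (Set.range f) := fun v => cmb_mem _ _ _ _
  have se : ∀ v l, F.B (s v) (e l) = 0 := by
    intro v l
    have a1 : F.B (R v) (e l) = 0 := by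
      rw [hR, B_sum_left]; exact Finset.sum_eq_zero (fun i _ => by rw [h.hee, mul_zero])
    rw [hs, F.B_sub_left, F.B_sub_left, a1, hP, B_sum_left]
    simp only [h.hfe]
    rw [sum_deltaε (fun i => F.ε⁻¹ * F.B v (e i)) F.ε l]
    field_simp
    ring
  have sf : ∀ v l, F.B (s v) (f l) = 0 := by
    intro v l
    have a1 : F.B (P v) (f l) = 0 := by
      rw [hP, B_sum_left]; exact Finset.sum_eq_zero (fun i _ => by rw [h.hff, mul_zero])
    rw [hs, F.B_sub_left, F.B_sub_left, a1, hR, B_sum_left]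
    simp only [h.hef]
    rw [sum_delta (fun i => 1 * F.B v (f i)) l]
    ring
  have sE : ∀ v, ∀ x ∈ Submodule.span K (Set.range e), F.B (s v) x = 0 := by
    intro v x hx
    obtain ⟨c, rfl⟩ := (Submodule.mem_span_range_iff_exists_fun K).1 hx
    rw [B_sum_right]
    exact Finset.sum_eq_zero fun i _ => by rw [se, mul_zero]
  have sF : ∀ v, ∀ x ∈ Submodule.span K (Set.range f), F.B (s v) x = 0 := by
    intro v x hx
    obtain ⟨c, rfl⟩ := (Submodule.mem_span_range_iff_exists_fun K).1 hx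
    rw [B_sum_right]
    exact Finset.sum_eq_zero fun i _ => by rw [sf, mul_zero]
  -- the pairings
  have k1 : ∀ u v, F.B (R' u) (P' v) = F.B (R u) (P v) := by
    intro u v
    rw [hR', hP', hR, hP, B_sum_left, B_sum_left]
    refine Finset.sum_congr rfl fun i _ => ?_
    rw [B_sum_right, B_sum_right]
    congr 1
    refine Finset.sum_congr rfl fun l _ => ?_
    rw [h.hfe, h.hef, map_mul, map_mul, F.σεi, map_one, one_mul]
    by_cases hil : i = l
    · rw [if_pos hil, if_pos hil, mul_one]; ring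
    · rw [if_neg hil, if_neg hil, mul_zero, mul_zero]
  have k2 : ∀ u v, F.B (P' v) (R' u) = F.B (P v) (R u) := by
    intro u v
    rw [F.B_symm, k1, F.B_symm (P v)]
  let g : V →ₗ[K] V := s + (P' + R')
  have hg : ∀ v, g v = s v + (P' v + R' v) := fun v => rfl
  have hv : ∀ v, v = s v + (P v + R v) := fun v => by rw [hs]; abel
  have a1 : ∀ u v, F.B (s u) (P' v) = 0 := fun u v => sE u _ (Pm' v)
  have a2 : ∀ u v, F.B (s u) (R' v) = 0 := fun u v => sF u _ (Rm' v)
  have a3 : ∀ u v, F.B (s u) (P v) = 0 := fun u v => sF u _ (Pm v)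
  have a4 : ∀ u v, F.B (s u) (R v) = 0 := fun u v => sE u _ (Rm v)
  obtain ⟨w, hw⟩ := F.exists_iso g (fun x z => by
    rw [hg, hg]
    conv_rhs => rw [hv x, hv z]
    simp only [F.B_add_left, F.B_add_right, a1, a2, a3, a4, F.B_eq_zero (a1 _ _), F.B_eq_zero (a2 _ _),
      F.B_eq_zero (a3 _ _), F.B_eq_zero (a4 _ _), k1, k2, tse.2 _ (Pm' _) _ (Pm' _), tsf.2 _ (Rm' _) _ (Rm' _),
      tse.2 _ (Rm _) _ (Rm _), tsf.2 _ (Pm _) _ (Pm _)]) (fun v => by
    rw [hg]
    conv_rhs => rw [hv v]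
    rw [F.Q_add, F.Q_add, F.Q_add (s v), F.Q_add (P v), F.B_add_right, F.B_add_right, a1, a2, a3, a4, k2,
      tse.1 _ (Pm' v), tsf.1 _ (Rm' v), tse.1 _ (Rm v), tsf.1 _ (Pm v)])
  refine ⟨w, fun l => ?_, fun l => ?_, fun v h1 h2 => ?_⟩
  · have e1 : P (e l) = 0 := by
      rw [hP]; exact Finset.sum_eq_zero fun i _ => by rw [h.hee, mul_zero, zero_smul]
    have e2 : P' (e l) = 0 := by
      rw [hP']; exact Finset.sum_eq_zero fun i _ => by rw [h.hee, mul_zero, zero_smul]
    have e3 : R (e l) = e l := by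
      rw [hR, Finset.sum_eq_single l]
      · rw [h.hef, if_pos rfl, mul_one, one_smul]
      · intro i _ hi
        rw [h.hef, if_neg (Ne.symm hi), mul_zero, zero_smul]
      · intro h; exact absurd (Finset.mem_univ _) h
    have e4 : R' (e l) = f l := by
      rw [hR', Finset.sum_eq_single l]
      · rw [h.hef, if_pos rfl, mul_one, one_smul]
      · intro i _ hi
        rw [h.hef, if_neg (Ne.symm hi), mul_zero, zero_smul]
      · intro h; exact absurd (Finset.mem_univ _) h
    rw [hw, hg, hs, e1, e2, e3, e4]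
    abel
  · have e1 : P (f l) = f l := by
      rw [hP, Finset.sum_eq_single l]
      · rw [h.hfe, if_pos rfl, inv_mul_cancel₀ hε, one_smul]
      · intro i _ hi
        rw [h.hfe, if_neg (Ne.symm hi), mul_zero, zero_smul]
      · intro h; exact absurd (Finset.mem_univ _) h
    have e2 : P' (f l) = F.ε • e l := by
      rw [hP', Finset.sum_eq_single l]
      · rw [h.hfe, if_pos rfl, one_mul]
      · intro i _ hi
        rw [h.hfe, if_neg (Ne.symm hi), mul_zero, zero_smul]
      · intro h; exact absurd (Finset.mem_univ _) h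
    have e3 : R (f l) = 0 := by
      rw [hR]; exact Finset.sum_eq_zero fun i _ => by rw [h.hff, mul_zero, zero_smul]
    have e4 : R' (f l) = 0 := by
      rw [hR']; exact Finset.sum_eq_zero fun i _ => by rw [h.hff, mul_zero, zero_smul]
    rw [hw, hg, hs, e1, e2, e3, e4]
    abel
  · have e1 : P v = 0 := by
      rw [hP]; exact Finset.sum_eq_zero fun i _ => by rw [h1, mul_zero, zero_smul]
    have e2 : P' v = 0 := by
      rw [hP']; exact Finset.sum_eq_zero fun i _ => by rw [h1, mul_zero, zero_smul]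
    have e3 : R v = 0 := by
      rw [hR]; exact Finset.sum_eq_zero fun i _ => by rw [h2, mul_zero, zero_smul]
    have e4 : R' v = 0 := by
      rw [hR']; exact Finset.sum_eq_zero fun i _ => by rw [h2, mul_zero, zero_smul]
    rw [hw, hg, hs, e1, e2, e3, e4]
    abel

end CForm

end Cfsg.Agent.H477.HC
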