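import Cfsg.Agent.H477.HC.RowMinus
import Cfsg.Agent.H167.HasStLie
import Cfsg.Prelude.Def_LieTypeChar

/-!
# Itô-Michler for the symplectic and orthogonal groups (hub H5, helper477)

`im_psp`, `im_omega_odd`, `im_omega_plus`, `im_omega_minus`, the small cases `LeftSp43`, `LeftSp62`, `LeftSp63`,
`LeftO8m2` being hypotheses.
-/

set_option autoImplicit false

open scoped ComplexConjugate
open Cfsg

namespace Cfsg.Agent.H477.HC

open Cfsg.Agent.Characters Cfsg.Agent.H33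

universe u v w

/-- `PSp_4(3)`, `r = 2, 5` -/
def LeftSp43 : Prop := ∀ (F : Type) [Field F] [Fintype F], Fintype.card F = 3 → ∀ r : ℕ, (r = 2 ∨ r = 5) → IM r (PSp 2 F)

/-- `PSp_6(2)`, `r = 7` -/
def LeftSp62 : Prop := ∀ (F : Type) [Field F] [Fintype F], Fintype.card F = 2 → IM 7 (PSp 3 F)

/-- `PSp_6(3)`, `r = 13` -/
def LeftSp63 : Prop := ∀ (F : Type) [Field F] [Fintype F], Fintype.card F = 3 → IM 13 (PSp 3 F)

/-- `Ω⁻_8(2)`, `r = 7` -/
def LeftO8m2 : Prop := ∀ (F : Type) [Field F] [Fintype F] (a b : F), Fintype.card F = 2 →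
  (∀ z₁ z₂ : F, z₁ ^ 2 + a * z₁ * z₂ + b * z₂ ^ 2 = 0 → z₁ = 0 ∧ z₂ = 0) → IM 7 (POmega F (quadFormMinus 3 F a b))

/-- the characteristic: the Steinberg character -/
theorem im_char {p : ℕ} [hp : Fact p.Prime] {S : Type u} [Group S] [Finite S] [IsSimpleGroup S]
    (h : IsLieTypeChar p S) (hd : p ∣ Nat.card S) : IM p S := by
  obtain ⟨χ, hχ, h1, -⟩ := Cfsg.Agent.H167.StChar.hasSt_of_lie hp.1 h
  refine IM.of_apply_one hχ h1 (dvd_pow_self p ?_)
  exact ((Nat.Prime.dvd_iff_one_le_factorization hp.1 Nat.card_pos.ne').1 hd |> Nat.one_le_iff_ne_zero.1)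

theorem im_psp (S : Type u) [Group S] [Finite S] (h : IsPSp S) (hs : IsSimpleGroup S) {r : ℕ} [hr : Fact r.Prime]
    (hd : r ∣ Nat.card S) (h43 : LeftSp43) (h62 : LeftSp62) (h63 : LeftSp63) : IM r S := by
  obtain ⟨F, _, _, m, hm, h3, ⟨e⟩⟩ := h
  obtain ⟨p, hp⟩ := CharP.exists F
  have hpr : p.Prime := (CharP.char_is_prime_or_zero F p).resolve_right (CharP.char_ne_zero_of_finite F p)
  have : Fact p.Prime := ⟨hpr⟩
  by_cases hrp : r = p
  · subst hrp
    have hL : IsLieTypeChar r S := by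
      refine Or.inr (Or.inl ⟨F, inferInstance, inferInstance, inferInstance, m, hm, h3, ⟨e⟩⟩)
    exact im_char hL hd
  rw [IM.congr e]
  rw [Nat.card_congr e.toEquiv] at hd
  by_cases h43' : m = 2 ∧ Fintype.card F = 3
  · obtain ⟨rfl, hF⟩ := h43'
    apply h43 F hF r
    have h1 : r ∣ Nat.card (Matrix.symplecticGroup (Fin 2) F) := hd.trans (Subgroup.card_quotient_dvd_card _)
    rw [Cfsg.Agent.S0245.result hF 2] at h1
    have h2 : r ∣ 2 ^ 7 * 3 ^ 4 * 5 := by
      refine h1.trans (dvd_of_eq ?_)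
      rw [Finset.prod_range_succ, Finset.prod_range_one]
      norm_num
    have hp3 : p = 3 := by
      obtain ⟨s, hs'⟩ := card_pow F p
      rw [Nat.card_eq_fintype_card, hF] at hs'
      have : p ∣ 3 := by
        rcases Nat.eq_zero_or_pos s with rfl | h0
        · simp at hs'
        · rw [hs']; exact dvd_pow_self p h0.ne'
      exact (Nat.prime_dvd_prime_iff_eq hpr Nat.prime_three).1 this
    rcases hr.1.dvd_mul.1 h2 with h4 | h4
    · rcases hr.1.dvd_mul.1 h4 with h5 | h5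
      · left; exact (Nat.prime_dvd_prime_iff_eq hr.1 Nat.prime_two).1 (hr.1.dvd_of_dvd_pow h5)
      · exfalso
        exact hrp (((Nat.prime_dvd_prime_iff_eq hr.1 Nat.prime_three).1 (hr.1.dvd_of_dvd_pow h5)).trans hp3.symm)
    · right; exact (Nat.prime_dvd_prime_iff_eq hr.1 Nat.prime_five).1 h4
  by_cases h62' : m = 3 ∧ Fintype.card F = 2 ∧ r = 7
  · obtain ⟨rfl, hF, rfl⟩ := h62'
    exact h62 F hF
  by_cases h63' : m = 3 ∧ Fintype.card F = 3 ∧ r = 13
  · obtain ⟨rfl, hF, rfl⟩ := h63'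
    exact h63 F hF
  refine im_psp_main F (p := p) hm (fun h4 => ?_) hr.1 hrp hd (fun h4 h5 h6 => ?_) (fun h4 h5 h6 => ?_)
  · rw [Nat.card_eq_fintype_card]
    have := h3 h4
    by_contra h5
    exact h43' ⟨h4, by omega⟩
  · rw [Nat.card_eq_fintype_card] at h5
    exact h62' ⟨h4, h5, h6⟩
  · rw [Nat.card_eq_fintype_card] at h5
    exact h63' ⟨h4, h5, h6⟩

theorem im_omega_odd (S : Type u) [Group S] [Finite S] (h : IsPOmegaOdd S) (hs : IsSimpleGroup S) {r : ℕ}
    [hr : Fact r.Prime] (hd : r ∣ Nat.card S) : IM r S := by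
  obtain ⟨F, _, _, m, hm, ho, ⟨e⟩⟩ := h
  obtain ⟨p, hp⟩ := CharP.exists F
  have hpr : p.Prime := (CharP.char_is_prime_or_zero F p).resolve_right (CharP.char_ne_zero_of_finite F p)
  have : Fact p.Prime := ⟨hpr⟩
  by_cases hrp : r = p
  · subst hrp
    have hL : IsLieTypeChar r S := by
      refine Or.inr (Or.inr (Or.inr (Or.inl ⟨F, inferInstance, inferInstance, inferInstance, m, hm, ho, ⟨e⟩⟩)))
    exact im_char hL hd
  rw [IM.congr e]
  rw [Nat.card_congr e.toEquiv] at hd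
  exact im_odd_main F (p := p) (by rwa [Nat.card_eq_fintype_card]) hm hr.1 hrp hd

theorem im_omega_plus (S : Type u) [Group S] [Finite S] (h : IsPOmegaPlus S) (hs : IsSimpleGroup S) {r : ℕ}
    [hr : Fact r.Prime] (hd : r ∣ Nat.card S) : IM r S := by
  obtain ⟨F, _, _, m, hm, ⟨e⟩⟩ := h
  obtain ⟨p, hp⟩ := CharP.exists F
  have hpr : p.Prime := (CharP.char_is_prime_or_zero F p).resolve_right (CharP.char_ne_zero_of_finite F p)
  have : Fact p.Prime := ⟨hpr⟩
  by_cases hrp : r = p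
  · subst hrp
    have hL : IsLieTypeChar r S := by
      refine Or.inr (Or.inr (Or.inr (Or.inr (Or.inl ⟨F, inferInstance, inferInstance, inferInstance, m, hm, ⟨e⟩⟩))))
    exact im_char hL hd
  rw [IM.congr e]
  rw [Nat.card_congr e.toEquiv] at hd
  exact im_plus_main F (p := p) hm hr.1 hrp hd

theorem im_omega_minus (S : Type u) [Group S] [Finite S] (h : IsPOmegaMinus S) (hs : IsSimpleGroup S) {r : ℕ}
    [hr : Fact r.Prime] (hd : r ∣ Nat.card S) (h82 : LeftO8m2) : IM r S := by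
  obtain ⟨F, _, _, m, a, b, hm, hab, ⟨e⟩⟩ := h
  obtain ⟨p, hp⟩ := CharP.exists F
  have hpr : p.Prime := (CharP.char_is_prime_or_zero F p).resolve_right (CharP.char_ne_zero_of_finite F p)
  have : Fact p.Prime := ⟨hpr⟩
  by_cases hrp : r = p
  · subst hrp
    have hL : IsLieTypeChar r S := by
      refine Or.inr (Or.inr (Or.inr (Or.inr (Or.inr (Or.inl ⟨F, inferInstance, inferInstance, inferInstance, m, a, b,
        hm, hab, ⟨e⟩⟩)))))
    exact im_char hL hd
  rw [IM.congr e]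
  rw [Nat.card_congr e.toEquiv] at hd
  by_cases h82' : m = 4 ∧ Fintype.card F = 2 ∧ r = 7
  · obtain ⟨rfl, hF, rfl⟩ := h82'
    exact h82 F a b hF hab
  refine im_minus_main F (p := p) a b hab (by omega) hr.1 hrp hd (fun h1 h2 h3 => ?_)
  rw [Nat.card_eq_fintype_card] at h2
  exact h82' ⟨by omega, h2, h3⟩

end Cfsg.Agent.H477.HC
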