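import Cfsg.Agent.H477.HC.N4
import Cfsg.Agent.H749.TwoMinus
import Cfsg.Agent.H621.AltChar
import Cfsg.Agent.UGT.U2.Rec.Congr

/-!
# `Ω⁻₈(2)` : a character of degree `595` or `1785` (hub H5, helper477)

`exists_psi5` : the character of degree `5` of `O⁻₄(2)`; `o8m_two`.
-/

set_option autoImplicit false

open scoped ComplexConjugate
open Cfsg

namespace Cfsg.Agent.H477.HC

open Cfsg.Agent.OddOrderCharacters.Clifford Cfsg.Agent.Characters MulAction Module Cfsg.Agent.H53.HC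
open Cfsg.Agent.H749.Two

universe u v w x

/-- a group acting as the full symmetric group -/
theorem multiTrans {G Ω : Type*} [Group G] [MulAction G Ω] [Finite Ω] (h : Function.Surjective (MulAction.toPermHom G Ω))
    (n : ℕ) : IsMultiplyPretransitive G Ω n := by
  have h1 : IsMultiplyPretransitive (Equiv.Perm Ω) Ω n := Equiv.Perm.isMultiplyPretransitive Ω n
  refine ⟨fun x y => ?_⟩
  obtain ⟨σ, hσ⟩ := h1.exists_smul_eq x y
  obtain ⟨g, hg⟩ := h σ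
  refine ⟨g, ?_⟩
  rw [← hσ, ← hg]
  ext i
  rfl

section psi5

variable (a b : ZMod 2) (hab : ∀ z₁ z₂ : ZMod 2, z₁ ^ 2 + a * z₁ * z₂ + b * z₂ ^ 2 = 0 → z₁ = 0 ∧ z₂ = 0)

theorem fix_all (g : (CForm.minusF (ZMod 2) 1 a b hab).iso)
    (hg : ∀ v, (CForm.minusF (ZMod 2) 1 a b hab).Sing v → (g : ((Fin 1 ⊕ Fin 1) ⊕ Fin 2 → ZMod 2) ≃ₗ[ZMod 2] _) v = v) :
    g = 1 := by
  have hs : ∀ v, (CForm.minusF (ZMod 2) 1 a b hab).Q v = 0 →
      (g : ((Fin 1 ⊕ Fin 1) ⊕ Fin 2 → ZMod 2) ≃ₗ[ZMod 2] _) v = v := fun v hv =>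
    hg v ⟨hv, (CForm.minusF (ZMod 2) 1 a b hab).alt v hv⟩
  have hQ : ∀ v, (CForm.minusF (ZMod 2) 1 a b hab).Q v =
      v (.inl (.inl 0)) * v (.inl (.inr 0)) +
        (v (.inr 0) ^ 2 + a * v (.inr 0) * v (.inr 1) + b * v (.inr 1) ^ 2) := by
    intro v
    change quadFormMinus 1 (ZMod 2) a b v = _
    simp [quadFormMinus]
  -- the singular vectors `(x, y; z)`
  let vec : ZMod 2 → ZMod 2 → ZMod 2 → ZMod 2 → ((Fin 1 ⊕ Fin 1) ⊕ Fin 2 → ZMod 2) := fun x y z t =>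
    Sum.elim (Sum.elim (fun _ => x) (fun _ => y)) ![z, t]
  have hvQ : ∀ x y z t, (CForm.minusF (ZMod 2) 1 a b hab).Q (vec x y z t) = x * y + (z ^ 2 + a * z * t + b * t ^ 2) := by
    intro x y z t
    rw [hQ]
    simp [vec]
  have e10 : (g : ((Fin 1 ⊕ Fin 1) ⊕ Fin 2 → ZMod 2) ≃ₗ[ZMod 2] _) (vec 1 0 0 0) = vec 1 0 0 0 := hs _ (by
    rw [hvQ]; simp)
  have e01 : (g : ((Fin 1 ⊕ Fin 1) ⊕ Fin 2 → ZMod 2) ≃ₗ[ZMod 2] _) (vec 0 1 0 0) = vec 0 1 0 0 := hs _ (by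
    rw [hvQ]; simp)
  have hz : ∀ z t, z ^ 2 + a * z * t + b * t ^ 2 ≠ 0 →
      (g : ((Fin 1 ⊕ Fin 1) ⊕ Fin 2 → ZMod 2) ≃ₗ[ZMod 2] _) (vec 0 0 z t) = vec 0 0 z t := by
    intro z t h
    have h1 : (g : ((Fin 1 ⊕ Fin 1) ⊕ Fin 2 → ZMod 2) ≃ₗ[ZMod 2] _) (vec 1 1 z t) = vec 1 1 z t := hs _ (by
      rw [hvQ]
      have : ∀ s : ZMod 2, s ≠ 0 → 1 * 1 + s = 0 := by decide
      exact this _ h)
    have h2 : vec 0 0 z t = vec 1 1 z t - vec 1 0 0 0 - vec 0 1 0 0 := by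
      ext i
      rcases i with (i | i) | i
      · simp [vec]
      · simp [vec]
      · fin_cases i <;> simp [vec]
    rw [h2, map_sub, map_sub, h1, e10, e01]
  have ez0 := hz 1 0 (fun h => absurd (hab 1 0 h).1 (by decide))
  have ez1 := hz 0 1 (fun h => absurd (hab 0 1 h).2 (by decide))
  apply Subtype.ext
  apply LinearEquiv.ext
  intro v
  change (g : ((Fin 1 ⊕ Fin 1) ⊕ Fin 2 → ZMod 2) ≃ₗ[ZMod 2] _) v = v
  have hv : v = v (.inl (.inl 0)) • vec 1 0 0 0 + v (.inl (.inr 0)) • vec 0 1 0 0 + v (.inr 0) • vec 0 0 1 0 +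
      v (.inr 1) • vec 0 0 0 1 := by
    ext i
    rcases i with (i | i) | i
    · have : i = 0 := Subsingleton.elim _ _
      subst this
      simp [vec]
    · have : i = 0 := Subsingleton.elim _ _
      subst this
      simp [vec]
    · fin_cases i <;> simp [vec]
  conv_lhs => rw [hv]
  conv_rhs => rw [hv]
  rw [map_add, map_add, map_add, map_smul, map_smul, map_smul, map_smul, e10, e01, ez0, ez1]

theorem card_pt5 : Nat.card (CForm.minusF (ZMod 2) 1 a b hab).Pt = 5 := by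
  have h1 := (CForm.minusF (ZMod 2) 1 a b hab).card_sing
  rw [minus_sing, Nat.card_zmod] at h1
  omega

theorem card_o4 : Nat.card (CForm.minusF (ZMod 2) 1 a b hab).iso = 120 := by
  rw [card_minusF, Nat.card_zmod]
  rfl

theorem perm_surj : Function.Surjective
    (MulAction.toPermHom (CForm.minusF (ZMod 2) 1 a b hab).iso (CForm.minusF (ZMod 2) 1 a b hab).Pt) := by
  have : Finite (CForm.minusF (ZMod 2) 1 a b hab).Pt :=
    inferInstanceAs (Finite {W : Submodule (ZMod 2) ((Fin 1 ⊕ Fin 1) ⊕ Fin 2 → ZMod 2) //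
      W ∈ (CForm.minusF (ZMod 2) 1 a b hab).Om 1})
  have := finite_iso (CForm.minusF (ZMod 2) 1 a b hab)
  have hinj : Function.Injective
      (MulAction.toPermHom (CForm.minusF (ZMod 2) 1 a b hab).iso (CForm.minusF (ZMod 2) 1 a b hab).Pt) := by
    rw [injective_iff_map_eq_one]
    intro g hg
    refine fix_all a b hab g fun v hv => ?_
    by_cases h0 : v = 0
    · rw [h0, map_zero]
    have h1 : g • (CForm.minusF (ZMod 2) 1 a b hab).pt v h0 hv = (CForm.minusF (ZMod 2) 1 a b hab).pt v h0 hv := by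
      have := congrArg (fun σ : Equiv.Perm _ => σ ((CForm.minusF (ZMod 2) 1 a b hab).pt v h0 hv)) hg
      exact this
    rw [CForm.smul_pt, CForm.pt_eq_iff] at h1
    obtain ⟨c, hc, h2⟩ := h1
    have : ∀ c : ZMod 2, c ≠ 0 → c = 1 := by decide
    rw [this c hc, one_smul] at h2
    exact h2
  refine (Function.Injective.bijective_of_nat_card_le hinj ?_).2
  rw [Nat.card_perm, card_pt5, card_o4]
  decide

/-- the character of degree `5` of `O⁻₄(2)` -/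
theorem exists_psi5 : ∃ ψ : (CForm.minusF (ZMod 2) 1 a b hab).iso → ℂ,
    IsIrrCharacter (CForm.minusF (ZMod 2) 1 a b hab).iso ψ ∧ ψ 1 = ((5 : ℕ) : ℂ) ∧ ∀ g, ∃ q : ℚ, ψ g = q := by
  classical
  have : Finite (CForm.minusF (ZMod 2) 1 a b hab).Pt :=
    inferInstanceAs (Finite {W : Submodule (ZMod 2) ((Fin 1 ⊕ Fin 1) ⊕ Fin 2 → ZMod 2) //
      W ∈ (CForm.minusF (ZMod 2) 1 a b hab).Om 1})
  have := finite_iso (CForm.minusF (ZMod 2) 1 a b hab)
  let _ : Fintype (CForm.minusF (ZMod 2) 1 a b hab).iso := Fintype.ofFinite _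
  have h1 := Cfsg.Agent.H621.AltChar.irr_a (CForm.minusF (ZMod 2) 1 a b hab).iso (CForm.minusF (ZMod 2) 1 a b hab).Pt
    (card_pt5 a b hab).ge (multiTrans (perm_surj a b hab) 4)
  refine ⟨_, h1, ?_, fun g => ⟨(((Cfsg.Agent.H621.AltChar.nf (CForm.minusF (ZMod 2) 1 a b hab).Pt g : ℚ) ^ 2 -
    3 * Cfsg.Agent.H621.AltChar.nf (CForm.minusF (ZMod 2) 1 a b hab).Pt g +
    Cfsg.Agent.H621.AltChar.nu (CForm.minusF (ZMod 2) 1 a b hab).Pt g) / 2), by push_cast; rfl⟩⟩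
  rw [Cfsg.Agent.H621.AltChar.nf_one, Cfsg.Agent.H621.AltChar.nu_one, card_pt5]
  norm_num

end psi5

namespace CForm

variable {V : Type v} [AddCommGroup V] [Module (ZMod 2) V] [FiniteDimensional (ZMod 2) V] [Finite V]
  {F : CForm (ZMod 2) V} {X : Type w} [AddCommGroup X] [Module (ZMod 2) X] {F' : CForm (ZMod 2) X}
  {e f : Fin 2 → V} {j : X →ₗ[ZMod 2] V}

theorem add_self2 : ∀ x : ZMod 2, x + x = 0 := by decide

omit [FiniteDimensional (ZMod 2) V] [Finite V] in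
theorem alt_of_hB (hB : ∀ u v, F.B u v = F.Q (u + v) - F.Q u - F.Q v) (v : V) : F.B v v = 0 := by
  have h1 : v + v = 0 := by
    have : (2 : ZMod 2) • v = 0 := by
      rw [show (2 : ZMod 2) = 0 from rfl, zero_smul]
    rwa [two_smul] at this
  rw [hB, h1, F.Q_zero, zero_sub]
  have : ∀ x : ZMod 2, -x - x = 0 := by decide
  exact this _

theorem eq_of_add2 : ∀ x y : ZMod 2, x + y = 0 ↔ y = x := by decide

/-- the order of the unipotent radical, orthogonal forms -/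
theorem Frm.card_Us_orth (h : Frm F F' e f j) (halt : ∀ v, F.B v v = 0) (hT : ∀ x, F.T x = x) :
    Nat.card (Us F e) = Nat.card X ^ 2 * 2 := by
  classical
  obtain ⟨φ, hφ1, hφ2, -⟩ := h.exists_coord halt
  have h1 : Nat.card (Us F e) = Nat.card (Set.range φ) := Nat.card_congr (Equiv.ofInjective φ hφ1)
  have h2 : Nat.card (Set.range φ) = Nat.card ((X × X) × ZMod 2) := by
    refine Nat.card_congr
      { toFun := fun d => (d.1.1, d.1.2.2.1)
        invFun := fun t => ⟨(t.1, (F'.Q t.1.1, t.2, F'.B t.1.1 t.1.2 + t.2, F'.Q t.1.2)), (hφ2 _).2 ⟨?_, ?_, ?_⟩⟩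
        left_inv := ?_
        right_inv := fun t => rfl }
    · change F'.B t.1.1 t.1.2 + t.2 + (F'.B t.1.1 t.1.2 + t.2) = 0
      exact add_self2 _
    · change F'.Q t.1.1 + F.T (F'.Q t.1.1) = 0
      rw [hT]
      exact add_self2 _
    · change F'.Q t.1.2 + F.T (F'.Q t.1.2) = 0
      rw [hT]
      exact add_self2 _
    · rintro ⟨⟨⟨x, x'⟩, ⟨p, q, r, s⟩⟩, hd⟩
      obtain ⟨k1, k2, k3⟩ := (hφ2 _).1 hd
      change F'.B x x' + q + r = 0 at k1
      change F'.Q x + F.T p = 0 at k2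
      change F'.Q x' + F.T s = 0 at k3
      rw [hT] at k2 k3
      apply Subtype.ext
      change ((x, x'), (F'.Q x, q, F'.B x x' + q, F'.Q x')) = ((x, x'), (p, q, r, s))
      rw [(eq_of_add2 _ _).1 k1, (eq_of_add2 _ _).1 k2, (eq_of_add2 _ _).1 k3]
  rw [h1, h2, Nat.card_prod, Nat.card_prod, Nat.card_zmod, sq]

/-- the order of the unipotent radical, symplectic forms -/
theorem Frm.card_Us_sp (h : Frm F F' e f j) (halt : ∀ v, F.B v v = 0) (hT : ∀ x, F.T x = 0) (hQ : ∀ x, F'.Q x = 0) :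
    Nat.card (Us F e) = Nat.card X ^ 2 * 8 := by
  classical
  obtain ⟨φ, hφ1, hφ2, -⟩ := h.exists_coord halt
  have h1 : Nat.card (Us F e) = Nat.card (Set.range φ) := Nat.card_congr (Equiv.ofInjective φ hφ1)
  have h2 : Nat.card (Set.range φ) = Nat.card ((X × X) × (ZMod 2 × ZMod 2 × ZMod 2)) := by
    refine Nat.card_congr
      { toFun := fun d => (d.1.1, d.1.2.1, d.1.2.2.1, d.1.2.2.2.2)
        invFun := fun t => ⟨(t.1, (t.2.1, t.2.2.1, F'.B t.1.1 t.1.2 + t.2.2.1, t.2.2.2)), (hφ2 _).2 ⟨?_, ?_, ?_⟩⟩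
        left_inv := ?_
        right_inv := fun t => rfl }
    · change F'.B t.1.1 t.1.2 + t.2.2.1 + (F'.B t.1.1 t.1.2 + t.2.2.1) = 0
      exact add_self2 _
    · change F'.Q t.1.1 + F.T _ = 0
      rw [hT, hQ, add_zero]
    · change F'.Q t.1.2 + F.T _ = 0
      rw [hT, hQ, add_zero]
    · rintro ⟨⟨⟨x, x'⟩, ⟨p, q, r, s⟩⟩, hd⟩
      obtain ⟨k1, -, -⟩ := (hφ2 _).1 hd
      change F'.B x x' + q + r = 0 at k1
      apply Subtype.ext
      change ((x, x'), (p, q, F'.B x x' + q, s)) = ((x, x'), (p, q, r, s))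
      rw [(eq_of_add2 _ _).1 k1]
  rw [h1, h2, Nat.card_prod, Nat.card_prod, Nat.card_prod, Nat.card_prod, Nat.card_zmod, sq]

end CForm

theorem card_GL22 : Nat.card (GL (Fin 2) (ZMod 2)) = 6 := by
  rw [Matrix.card_GL_field]
  simp [Fin.prod_univ_two]

section main

variable (a b : ZMod 2) (hab : ∀ z₁ z₂ : ZMod 2, z₁ ^ 2 + a * z₁ * z₂ + b * z₂ ^ 2 = 0 → z₁ = 0 ∧ z₂ = 0)

/-- `O⁻₈(2)` -/
theorem ch_o8m : ∃ (c d : ℕ) (χ₁ χ₂ : (CForm.minusF (ZMod 2) 3 a b hab).iso → ℂ),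
    IsIrrCharacter (CForm.minusF (ZMod 2) 3 a b hab).iso χ₁ ∧ IsIrrCharacter (CForm.minusF (ZMod 2) 3 a b hab).iso χ₂ ∧
      χ₁ 1 = ((2 ^ c * d : ℕ) : ℂ) ∧ χ₂ 1 = (d : ℂ) ∧ (2 ^ c + 1) * d = 5355 ∧ c ≤ 9 ∧ (c ≠ 0 → Even (c + 9)) := by
  obtain ⟨e, f, j, h⟩ := CForm.frm_minus (K := ZMod 2) hab (k := 2) (n := 1) (m := 3) rfl
  obtain ⟨ψ, hψ, hψ1, hψq⟩ := exists_psi5 a b hab
  have halt := CForm.alt_of_hB (F := CForm.minusF (ZMod 2) 3 a b hab) (minus_hB (ZMod 2) 3 a b hab)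
  have hU : Nat.card (CForm.Us (CForm.minusF (ZMod 2) 3 a b hab) e) = 2 ^ 9 := by
    rw [h.card_Us_orth halt (fun x => rfl)]
    rw [Nat.card_eq_fintype_card]
    simp
  have hno : ∀ W' ∈ (CForm.minusF (ZMod 2) 3 a b hab).Om 2, Submodule.span (ZMod 2) (Set.range e) ≤
      (CForm.minusF (ZMod 2) 3 a b hab).perp W' → Submodule.span (ZMod 2) (Set.range e) ⊓ W' = ⊥ → False :=
    no_disj (m := 3) (fun W hW => minus_witt (ZMod 2) a b hab 3 W hW) (by norm_num) h.mem_Om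
  obtain ⟨c, d, χ₁, χ₂, h1, h2, h3, h4, h5, h6, h7⟩ := h.exists_two rfl (by norm_num) CForm.ε_two
    (sgnGL_iota _) sgnGL_cusp (fun A => ⟨((sgM (A : Matrix (Fin 2) (Fin 2) (ZMod 2)) : ℤ) : ℚ), by
      rw [sgnGL_val]; push_cast; rfl⟩) hψ hψ1 hψq Nat.prime_two hU
    (fun pr _ _ W' hW' k1 k2 => (hno W' hW' k1 k2).elim)
  refine ⟨c, d, χ₁, χ₂, h1, h2, h3, h4, ?_, h6, h7⟩
  rw [h5]
  have h8 := (CForm.minusF (ZMod 2) 3 a b hab).card_iso_eq h.mem_Om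
  rw [h.card_par rfl, hU, card_GL22, card_o4, card_minusF, Nat.card_zmod] at h8
  obtain ⟨n, hn⟩ : ∃ n, n = Nat.card ((CForm.minusF (ZMod 2) 3 a b hab).Om 2) := ⟨_, rfl⟩
  rw [← hn] at h8 ⊢
  norm_num [Finset.prod_range_succ] at h8
  omega

theorem arith_o8m {c d : ℕ} (h1 : (2 ^ c + 1) * d = 5355) (h2 : c ≤ 9) (h3 : c ≠ 0 → Even (c + 9)) :
    595 ∣ d ∧ d ∣ 1785 := by
  interval_cases c
  · omega
  · have : d = 1785 := by omega
    subst this
    exact ⟨by norm_num, dvd_rfl⟩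
  · exact absurd (h3 (by norm_num)) (by decide)
  · have : d = 595 := by omega
    subst this
    exact ⟨dvd_rfl, by norm_num⟩
  · exact absurd (h3 (by norm_num)) (by decide)
  · omega
  · exact absurd (h3 (by norm_num)) (by decide)
  · omega
  · exact absurd (h3 (by norm_num)) (by decide)
  · omega

include hab in
/-- **`Ω⁻₈(2)` has an irreducible character of degree `595` or `1785`** -/
theorem o8m_zmod : ∃ d, 595 ∣ d ∧ d ∣ 1785 ∧ Ch (POmega (ZMod 2) (quadFormMinus 3 (ZMod 2) a b)) d := by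
  obtain ⟨c, d, χ₁, χ₂, h1, h2, h3, h4, h5, h6, h7⟩ := ch_o8m a b hab
  obtain ⟨h8, h9⟩ := arith_o8m h5 h6 h7
  have : Fact (Nat.Prime 2) := ⟨Nat.prime_two⟩
  have : CharP (ZMod 2) 2 := ZMod.charP 2
  have hidx : (Omega (ZMod 2) (quadFormMinus 3 (ZMod 2) a b)).index ∣ 2 ^ 1 := by
    have h10 := minus_idx_mul (ZMod 2) a b hab (l := 3) le_rfl
    rw [Nat.card_zmod] at h10
    have h11 : Nat.gcd 4 (2 ^ (3 + 1) + 1) = 1 := by decide
    rw [h11] at h10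
    exact Dvd.intro _ h10
  obtain ⟨e, i, k1, k2, k3, k4⟩ := minus_down3 (ZMod 2) (p := 2) a b hab hidx h2 h4
  have hi : i = 0 := by
    rcases Nat.eq_zero_or_pos i with hi | hi
    · exact hi
    · have hi1 : i = 1 := by omega
      subst hi1
      have h12 : Odd d := Odd.of_dvd_nat (by decide) h9
      rw [k2] at h12
      exact absurd h12 (Nat.not_odd_iff_even.2 ⟨e, by ring⟩)
  rw [hi, pow_zero, mul_one] at k2
  exact ⟨d, h8, h9, k2 ▸ k1⟩

end main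

theorem quadFormMinus_map {F : Type u} {F' : Type v} [Field F] [Field F'] (σ : F ≃+* F') (m : ℕ) (a b : F)
    (v : (Fin m ⊕ Fin m) ⊕ Fin 2 → F) :
    quadFormMinus m F' (σ a) (σ b) (σ ∘ v) = σ (quadFormMinus m F a b v) := by
  simp [quadFormMinus, map_add, map_sum, map_mul, map_pow]

/-- **`Ω⁻₈(2)` has an irreducible character of degree `595` or `1785`** -/
theorem o8m_two {K : Type u} [Field K] [Finite K] (hK : Nat.card K = 2) {a b : K}
    (hab : ∀ z₁ z₂ : K, z₁ ^ 2 + a * z₁ * z₂ + b * z₂ ^ 2 = 0 → z₁ = 0 ∧ z₂ = 0) :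
    ∃ d, 595 ∣ d ∧ d ∣ 1785 ∧ Ch (POmega K (quadFormMinus 3 K a b)) d := by
  classical
  let _ := Fintype.ofFinite K
  have hF : Fintype.card K = 2 := by rw [← Nat.card_eq_fintype_card, hK]
  let σ : K ≃+* ZMod 2 := FiniteField.ringEquivOfCardEq (by rw [hF, ZMod.card 2])
  have hab' : ∀ z₁ z₂ : ZMod 2, z₁ ^ 2 + σ a * z₁ * z₂ + σ b * z₂ ^ 2 = 0 → z₁ = 0 ∧ z₂ = 0 := by
    intro z₁ z₂ h
    have h1 := hab (σ.symm z₁) (σ.symm z₂) (σ.injective (by
      rw [map_zero, map_add, map_add, map_mul, map_mul, map_mul, map_pow, map_pow, RingEquiv.apply_symm_apply,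
        RingEquiv.apply_symm_apply]
      exact h))
    exact ⟨(map_eq_zero_iff σ.symm σ.symm.injective).1 h1.1, (map_eq_zero_iff σ.symm σ.symm.injective).1 h1.2⟩
  obtain ⟨d, h1, h2, χ, hχ, hχ1⟩ := o8m_zmod (σ a) (σ b) hab'
  obtain ⟨E⟩ := Cfsg.Agent.UGT.U2.Rec.Congr.nonempty_POmega σ (Q := quadFormMinus 3 K a b)
    (Q' := quadFormMinus 3 (ZMod 2) (σ a) (σ b)) (quadFormMinus_map σ 3 a b)
  refine ⟨d, h1, h2, χ ∘ E.toMonoidHom, Core.isIrr_comp E.toMonoidHom E.surjective hχ, ?_⟩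
  change χ (E 1) = _
  rw [map_one, hχ1]

end Cfsg.Agent.H477.HC
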