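import Cfsg.Agent.H477.HC.Trans

/-!
# The order of the isometry group and the number of totally singular subspaces (hub H5, helper477)

`card_dvd` : `|F.iso|` divides `p ^ a * (|F.Om k| * |GL k K| * |F'.iso|)`, where `F'` is (a form isometric to the one on)
`W₀ᗮ / W₀`, `W₀ ∈ F.Om k`, `p` the characteristic of `K`.
-/

set_option autoImplicit false

open scoped ComplexConjugate
open Cfsg

namespace Cfsg.Agent.H477.HC

open MulAction Module Cfsg.Agent.H53.HC

universe u v w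

namespace CForm

variable {K : Type u} [Field K] {V : Type v} [AddCommGroup V] [Module K V] (F : CForm K V)

theorem card_iso_eq [FiniteDimensional K V] [Finite V] {k : ℕ} {W₀ : Submodule K V} (hW₀ : W₀ ∈ F.Om k) :
    Nat.card F.iso = Nat.card (F.Om k) * Nat.card (stabW F.iso.subtype W₀) := by
  classical
  have : Finite (V ≃ₗ[K] V) := Finite.of_injective (fun e : V ≃ₗ[K] V => (e : V → V)) DFunLike.coe_injective
  letI := subAct F.iso.subtype (F.Om k) F.Om_map
  have h1 : IsPretransitive F.iso (F.Om k) := by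
    refine ⟨fun W W' => ?_⟩
    obtain ⟨g, hg⟩ := F.trans_Om W.2 W'.2
    exact ⟨g, Subtype.ext hg⟩
  have hst : stabilizer F.iso (⟨W₀, hW₀⟩ : F.Om k) = stabW F.iso.subtype W₀ := by
    ext g
    exact ⟨fun h => congrArg Subtype.val (mem_stabilizer_iff.1 h), fun h => mem_stabilizer_iff.2 (Subtype.ext h)⟩
  rw [← hst, Subgroup.card_eq_card_quotient_mul_card_subgroup (stabilizer F.iso (⟨W₀, hW₀⟩ : F.Om k))]
  congr 1
  rw [← Nat.card_congr (MulAction.orbitEquivQuotientStabilizer F.iso (⟨W₀, hW₀⟩ : F.Om k)),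
    MulAction.orbit_eq_univ, Nat.card_univ]

/-- unipotent elements of class `3` -/
theorem pow_unip {g : V ≃ₗ[K] V} {N : V →ₗ[K] V} (hg : ∀ v, g v = v + N v) (hN : ∀ v, N (N (N v)) = 0) (n : ℕ) (v : V) :
    (g ^ n) v = v + n • N v + (n.choose 2) • N (N v) := by
  induction n generalizing v with
  | zero => simp
  | succ n ih =>
    rw [pow_succ, LinearEquiv.mul_apply, hg, map_add, ih, ih, hN, smul_zero, Nat.choose_succ_succ, Nat.choose_one_right,
      add_smul, add_smul, one_smul]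
    abel

section Big

variable {X : Type w} [AddCommGroup X] [Module K X] (F' : CForm K X) (j : X →ₗ[K] V)

theorem card_dvd [FiniteDimensional K V] [Finite V] [Finite K] {p : ℕ} [Fact p.Prime] [CharP K p]
    (hjB : ∀ x y, F.B (j x) (j y) = F'.B x y) (hjQ : ∀ x, F.Q (j x) = F'.Q x) {k : ℕ} {W₀ : Submodule K V}
    (hW₀ : W₀ ∈ F.Om k) (hj1 : ∀ x, j x ∈ F.perp W₀) (hj2 : ∀ v ∈ F.perp W₀, ∃ w ∈ W₀, ∃ x, v = w + j x) :
    ∃ a, Nat.card F.iso ∣ p ^ a * (Nat.card (F.Om k) * Nat.card (GL (Fin k) K) * Nat.card F'.iso) := by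
  classical
  have hfV : Finite (V ≃ₗ[K] V) := Finite.of_injective (fun e : V ≃ₗ[K] V => (e : V → V)) DFunLike.coe_injective
  have hjinj : Function.Injective j := by
    rw [injective_iff_map_eq_zero]
    intro x hx
    refine F'.nondeg x fun y => ?_
    rw [← hjB, hx, F.B_zero_left]
  have hfX : Finite X := Finite.of_injective j hjinj
  have hfXi : Finite (X ≃ₗ[K] X) := Finite.of_injective (fun e : X ≃ₗ[K] X => (e : X → X)) DFunLike.coe_injective
  have hfW : Finite (W₀ ≃ₗ[K] W₀) := Finite.of_injective (fun e : W₀ ≃ₗ[K] W₀ => (e : W₀ → W₀)) DFunLike.coe_injective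
  -- the projection
  have hex : ∀ v : F.perp W₀, ∃ x, (v : V) - j x ∈ W₀ := by
    intro v
    obtain ⟨w, hw, x, hx⟩ := hj2 v v.2
    exact ⟨x, by rw [hx, add_sub_cancel_right]; exact hw⟩
  have huniq : ∀ x y, j x - j y ∈ W₀ → x = y := by
    intro x y h
    have h1 : x - y = 0 := by
      refine F'.nondeg _ fun z => ?_
      rw [← hjB, map_sub]
      exact F.B_eq_zero (hj1 z _ h)
    exact sub_eq_zero.1 h1
  choose π hπ using hex
  have hπu : ∀ (v : F.perp W₀) (x : X), (v : V) - j x ∈ W₀ → π v = x := by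
    intro v x hx
    apply huniq
    have := W₀.sub_mem hx (hπ v)
    rwa [sub_sub_sub_cancel_left] at this
  have hgperp : ∀ (g : stabW F.iso.subtype W₀), ∀ v ∈ F.perp W₀, ((g : F.iso) : V ≃ₗ[K] V) v ∈ F.perp W₀ := by
    intro g v hv w hw
    have h1 : W₀.map (F.iso.subtype (g : F.iso) : V →ₗ[K] V) = W₀ := g.2
    rw [← h1] at hw
    obtain ⟨w', hw', rfl⟩ := hw
    exact (F.iso_B (g : F.iso) v w').trans (hv w' hw')
  have hgW : ∀ (g : stabW F.iso.subtype W₀), ∀ v ∈ W₀, ((g : F.iso) : V ≃ₗ[K] V) v ∈ W₀ := by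
    intro g v hv
    have h1 : W₀.map (F.iso.subtype (g : F.iso) : V →ₗ[K] V) = W₀ := g.2
    have : F.iso.subtype (g : F.iso) v ∈ W₀.map (F.iso.subtype (g : F.iso) : V →ₗ[K] V) := ⟨v, hv, rfl⟩
    rwa [h1] at this
  let f₀ : stabW F.iso.subtype W₀ →* Module.End K X :=
    { toFun := fun g =>
        { toFun := fun x => π ⟨((g : F.iso) : V ≃ₗ[K] V) (j x), hgperp g _ (hj1 x)⟩
          map_add' := fun x y => by
            apply hπu
            change ((g : F.iso) : V ≃ₗ[K] V) (j (x + y)) - j (_ + _) ∈ W₀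
            rw [map_add, map_add, map_add, add_sub_add_comm]
            exact W₀.add_mem (hπ ⟨((g : F.iso) : V ≃ₗ[K] V) (j x), hgperp g _ (hj1 x)⟩)
              (hπ ⟨((g : F.iso) : V ≃ₗ[K] V) (j y), hgperp g _ (hj1 y)⟩)
          map_smul' := fun c x => by
            apply hπu
            change ((g : F.iso) : V ≃ₗ[K] V) (j (c • x)) - j (c • _) ∈ W₀
            rw [map_smul, map_smul, map_smul, ← smul_sub]
            exact W₀.smul_mem _ (hπ ⟨((g : F.iso) : V ≃ₗ[K] V) (j x), hgperp g _ (hj1 x)⟩) }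
      map_one' := by
        ext x
        apply hπu
        change j x - j x ∈ W₀
        rw [sub_self]
        exact W₀.zero_mem
      map_mul' := fun g h => by
        ext x
        apply hπu
        have h1 := hπ ⟨((h : F.iso) : V ≃ₗ[K] V) (j x), hgperp h _ (hj1 x)⟩
        have h2 := hgW g _ h1
        set y := π ⟨((h : F.iso) : V ≃ₗ[K] V) (j x), hgperp h _ (hj1 x)⟩ with hy
        have h3 := hπ ⟨((g : F.iso) : V ≃ₗ[K] V) (j y), hgperp g _ (hj1 y)⟩
        have h4 := W₀.add_mem h2 h3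
        rw [map_sub] at h4
        change ((g : F.iso) : V ≃ₗ[K] V) (((h : F.iso) : V ≃ₗ[K] V) (j x)) -
          j (π ⟨((g : F.iso) : V ≃ₗ[K] V) (j y), hgperp g _ (hj1 y)⟩) ∈ W₀
        have h5 : ∀ a b c : V, a - c = (a - b) + (b - c) := fun a b c => by abel
        rw [h5 _ (((g : F.iso) : V ≃ₗ[K] V) (j y)) _]
        exact h4 }
  have hf₀ : ∀ (g : stabW F.iso.subtype W₀) x, ((g : F.iso) : V ≃ₗ[K] V) (j x) - j (f₀ g x) ∈ W₀ := fun g x =>
    hπ ⟨((g : F.iso) : V ≃ₗ[K] V) (j x), hgperp g _ (hj1 x)⟩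
  -- isometry
  have hdec : ∀ (g : stabW F.iso.subtype W₀) x, j (f₀ g x) = ((g : F.iso) : V ≃ₗ[K] V) (j x) + -(((g : F.iso) : V ≃ₗ[K] V) (j x) - j (f₀ g x)) := by
    intro g x; abel
  have hfB : ∀ (g : stabW F.iso.subtype W₀) x y, F'.B (f₀ g x) (f₀ g y) = F'.B x y := by
    intro g x y
    rw [← hjB, hdec g x, hdec g y, F.B_add_left, F.B_add_right, F.B_add_right, F.B_neg_left, F.B_neg_left,
      F.B_neg_right, F.B_neg_right, hgperp g _ (hj1 x) _ (hf₀ g y), F.B_eq_zero (hgperp g _ (hj1 y) _ (hf₀ g x)),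
      hW₀.1.2 _ (hf₀ g x) _ (hf₀ g y), F.iso_B, hjB]
    ring
  have hfQ : ∀ (g : stabW F.iso.subtype W₀) x, F'.Q (f₀ g x) = F'.Q x := by
    intro g x
    rw [← hjQ, hdec g x, F.Q_add, F.B_neg_right, hgperp g _ (hj1 x) _ (hf₀ g x),
      hW₀.1.1 _ (W₀.neg_mem (hf₀ g x)), F.iso_Q, hjQ, neg_zero, F.T_zero]
    ring
  let f₁ : stabW F.iso.subtype W₀ →* (X ≃ₗ[K] X) :=
    (LinearMap.GeneralLinearGroup.generalLinearEquiv K X).toMonoidHom.comp f₀.toHomUnits
  have hf₁ : ∀ g x, f₁ g x = f₀ g x := fun g x => rfl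
  let f₂ : stabW F.iso.subtype W₀ →* F'.iso := f₁.codRestrict F'.iso fun g => ⟨fun x y => hfB g x y, fun x => hfQ g x⟩
  let f₃ : stabW F.iso.subtype W₀ →* (W₀ ≃ₗ[K] W₀) × F'.iso := (resHom F.iso.subtype W₀).prod f₂
  -- the kernel
  have hker : IsPGroup p f₃.ker := by
    rintro ⟨g, hg⟩
    refine ⟨2, ?_⟩
    have hg' := MonoidHom.mem_ker.1 hg
    have h1 : resHom F.iso.subtype W₀ g = 1 := congrArg Prod.fst hg'
    have h2 : f₂ g = 1 := congrArg Prod.snd hg'
    have h1' : ∀ w ∈ W₀, ((g : F.iso) : V ≃ₗ[K] V) w = w := by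
      intro w hw
      have := congrArg (fun e : W₀ ≃ₗ[K] W₀ => ((e ⟨w, hw⟩ : W₀) : V)) h1
      exact this
    have h2' : ∀ x, f₀ g x = x := by
      intro x
      have := congrArg (fun e : F'.iso => (e : X ≃ₗ[K] X) x) h2
      exact this
    have h3 : ∀ v ∈ F.perp W₀, ((g : F.iso) : V ≃ₗ[K] V) v - v ∈ W₀ := by
      intro v hv
      obtain ⟨w, hw, x, rfl⟩ := hj2 v hv
      have h4 := hf₀ g x
      rw [h2'] at h4
      rw [map_add, h1' w hw, add_sub_add_left_eq_sub]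
      exact h4
    have h4 : ∀ v, ((g : F.iso) : V ≃ₗ[K] V) v - v ∈ F.perp W₀ := by
      intro v w hw
      rw [F.B_sub_left]
      nth_rewrite 1 [← h1' w hw]
      rw [F.iso_B, sub_self]
    let N : V →ₗ[K] V := (((g : F.iso) : V ≃ₗ[K] V) : V →ₗ[K] V) - LinearMap.id
    have hNv : ∀ v, N v = ((g : F.iso) : V ≃ₗ[K] V) v - v := fun v => rfl
    have hN3 : ∀ v, N (N (N v)) = 0 := by
      intro v
      have h5 : N (N v) ∈ W₀ := h3 _ (h4 v)
      rw [hNv, h1' _ h5, sub_self]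
    have hcast : ∀ n : ℕ, p ∣ n → ∀ v : V, n • v = 0 := by
      intro n hn v
      have h6 : (n : K) = 0 := (CharP.cast_eq_zero_iff K p n).2 hn
      have h7 : (n : K) • v = n • v := Nat.cast_smul_eq_nsmul K n v
      rw [← h7, h6, zero_smul]
    have hpp : p.Prime := Fact.out
    have hp2 : 2 ≤ p := hpp.two_le
    apply Subtype.ext
    apply Subtype.ext
    apply Subtype.ext
    ext v
    change ((((g : F.iso) : V ≃ₗ[K] V)) ^ (p ^ 2)) v = v
    rw [pow_unip (g := ((g : F.iso) : V ≃ₗ[K] V)) (N := N) (fun v => by rw [hNv]; abel) hN3,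
      hcast _ (dvd_pow_self p two_ne_zero),
      hcast _ (hpp.dvd_choose_pow two_ne_zero (by nlinarith)), add_zero, add_zero]
  obtain ⟨a, ha⟩ := (IsPGroup.iff_card (p := p)).1 hker
  refine ⟨a, ?_⟩
  have e1 : Nat.card (stabW F.iso.subtype W₀) = Nat.card f₃.ker * Nat.card f₃.range := by
    rw [Subgroup.card_eq_card_quotient_mul_card_subgroup f₃.ker, mul_comm]
    congr 1
    exact Nat.card_congr (QuotientGroup.quotientKerEquivRange f₃).toEquiv
  have e2 : Nat.card f₃.range ∣ Nat.card (GL (Fin k) K) * Nat.card F'.iso := by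
    have e3 : Nat.card (W₀ ≃ₗ[K] W₀) = Nat.card (GL (Fin k) K) :=
      Nat.card_congr (glE (finBasisOfFinrankEq K W₀ hW₀.2)).toEquiv
    rw [← e3, ← Nat.card_prod]
    exact Subgroup.card_subgroup_dvd_card _
  rw [F.card_iso_eq hW₀, e1, ha]
  obtain ⟨d, hd⟩ := e2
  refine ⟨d, ?_⟩
  rw [mul_assoc (Nat.card (F.Om k)) _ (Nat.card F'.iso), hd]
  ring

end Big

end CForm

end Cfsg.Agent.H477.HC
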