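import Cfsg.Agent.H477.HC.FactsC
import Cfsg.Agent.H477.HC.Rk3Chars
import Cfsg.Agent.H677.DG.Tri42
import Cfsg.Agent.H677.DG.SpRank
import Cfsg.Agent.H996.Deg.Two

/-!
# Some small groups (hub H5, helper477)

`tsp43`, `rsp63`, `ro8m`, `edgeSp2` : the hypotheses of `FactsC`, apart from `TSp62`.
-/

set_option autoImplicit false

open scoped ComplexConjugate
open Cfsg

namespace Cfsg.Agent.H477.HC

open Cfsg.Agent.Characters Module Cfsg.Agent.H53.HC Cfsg.Agent.H671.H5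

universe u

theorem ch_of_mem {S : Type u} [Group S] {d : ℕ} (h : d ∈ charDegrees S) : Ch S d := by
  obtain ⟨χ, rfl⟩ := h
  refine ⟨χ, χ.2, ?_⟩
  obtain ⟨n, ρ, hρ, h⟩ := χ.2
  have h1 : (χ : S → ℂ) 1 = (n : ℂ) := by
    rw [← h]
    rw [Representation.char_one, Module.finrank_fin_fun]
  rw [h1, H670.PSing.charDegree_eq_of h1]

theorem tsp43 : TSp43 := by
  intro F _ _ hF
  exact ⟨15, dvd_rfl, ch_of_mem (H677.Tri42.fifteen hF)⟩

theorem rsp63 : RSp63 := by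
  intro F _ _ hF
  obtain ⟨χ₁, χ₂, f, g, h1, h2, h3, h4, h5, h6⟩ := H677.SpRank.exists_chars (F := F) (m := 3) (by norm_num)
  rw [Nat.card_eq_fintype_card, hF] at h5 h6
  norm_num at h5 h6
  have e1 : f = 195 := by omega
  have e2 : g = 168 := by omega
  subst e1
  subst e2
  exact ⟨⟨χ₁, h1, h3⟩, ⟨χ₂, h2, h4⟩⟩

theorem ro8m : RO8m := by
  intro F _ _ a b hab
  obtain ⟨s, t, h1, -, h2, -⟩ := rk3_minus F a b hab (l := 3) le_rfl
  have hq : 2 ≤ Nat.card F := Finite.one_lt_card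
  have hs : s = Nat.card F ^ 2 * (Nat.card F ^ 4 + Nat.card F ^ 2 + 1) := by
    have h3 : ((Nat.card F : ℤ) ^ 2 - 1) ≠ 0 := by
      have : (2 : ℤ) ≤ Nat.card F := by exact_mod_cast hq
      nlinarith
    have h4 : (s : ℤ) = Nat.card F ^ 2 * (Nat.card F ^ 4 + Nat.card F ^ 2 + 1) := by
      apply mul_left_cancel₀ h3
      rw [h2]
      ring
    exact_mod_cast h4
  refine ⟨s, h1, fun p hp hd => ?_, fun r hr hd => ?_⟩
  · rw [hs, ← Nat.card_eq_fintype_card] at *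
    exact Dvd.dvd.mul_right (hd.trans (dvd_pow_self _ (by norm_num))) _
  · rw [hs]
    rw [← Nat.card_eq_fintype_card] at hd
    exact Dvd.dvd.mul_left hd _

theorem edgeSp2 : EdgeSp2 := by
  intro F _ _ m hm hF
  obtain ⟨p, hp⟩ := CharP.exists F
  have hpr : p.Prime := (CharP.char_is_prime_or_zero F p).resolve_right (CharP.char_ne_zero_of_finite F p)
  have hpK : p ∣ Nat.card F := char_dvd_card
  rw [Nat.card_eq_fintype_card, hF] at hpK
  have hp2 : p = 2 := (Nat.prime_dvd_prime_iff_eq hpr Nat.prime_two).1 hpK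
  subst hp2
  obtain ⟨l, -, -, h⟩ := H996.Deg.Two.adj_PSp (F := F) hm
  exact ⟨l, h⟩

end Cfsg.Agent.H477.HC
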