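import Cfsg.Agent.H477.HC.NP

/-!
# Two primes different from the characteristic are adjacent: `PΩ⁺`, `PΩ⁻` (hub H5, helper477)
-/

set_option autoImplicit false

open scoped ComplexConjugate
open Cfsg

namespace Cfsg.Agent.H477.HC

open Cfsg.Agent.Characters Module Cfsg.Agent.H53.HC Cfsg.Agent.H671.H5

universe u v w

section arith

variable {q m l r s : ℕ}

/-- the first product, type `D` -/
def D1 (q m : ℕ) : ℕ := ∏ i ∈ Finset.range (m - 1), (q ^ (2 * (i + 1)) - 1)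

/-- the second product, type `D` -/
def D2 (q m : ℕ) : ℕ := (q ^ m - 1) * (q + 1) * (q ^ (m - 1) + 1) * ∏ i ∈ Finset.Ico 1 (m - 2), (q ^ (2 * (i + 1)) - 1)

theorem d_two (hm : Odd m) (hm4 : 4 ≤ m) (hs : s.Prime) (h : s ∣ (q ^ m - 1) * D1 q m) : s ∣ D2 q m := by
  obtain ⟨j, hj⟩ := hm
  rcases hs.dvd_mul.1 h with h1 | h1
  · exact Dvd.dvd.mul_right (Dvd.dvd.mul_right (Dvd.dvd.mul_right h1 _) _) _
  obtain ⟨i, hi, h2⟩ := exists_idx hs h1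
  rw [Finset.mem_range] at hi
  have hmid : ∀ i, i ≤ m - 3 → s ∣ q ^ (2 * (i + 1)) - 1 → s ∣ D2 q m := by
    intro i hi h2
    rcases Nat.eq_zero_or_pos i with rfl | h0
    · exact Dvd.dvd.mul_left (dvd_prod_idx (i := 1) (Finset.mem_Ico.2 ⟨le_rfl, by omega⟩)
        (h2.trans (pow_sub_one_dvd q ⟨2, by norm_num⟩))) _
    · exact Dvd.dvd.mul_left (dvd_prod_idx (Finset.mem_Ico.2 ⟨h0, by omega⟩) h2) _
  rcases Nat.lt_or_ge i (m - 2) with h3 | h3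
  · exact hmid i (by omega) h2
  · have h5 : i + 1 = m - 1 := by omega
    rw [h5, sq_sub] at h2
    rcases hs.dvd_mul.1 h2 with h6 | h6
    · exact Dvd.dvd.mul_right (Dvd.dvd.mul_left h6 _) _
    · refine hmid (j - 1) (by omega) ?_
      have h7 : 2 * (j - 1 + 1) = m - 1 := by omega
      rwa [h7]

theorem d_odd (h : r ∣ q ^ m - 1) (h1 : ¬ r ∣ D1 q m) (hm : 2 ≤ m) : Odd m := by
  by_contra h2
  rw [Nat.not_odd_iff_even] at h2
  obtain ⟨j, hj⟩ := h2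
  apply h1
  refine dvd_prod_idx (i := j - 1) (Finset.mem_range.2 (by omega)) ?_
  have h4 : 2 * (j - 1 + 1) = m := by omega
  rwa [h4]

/-- two primes, type `D` -/
theorem d_cases (hm : 4 ≤ m) (hr : r.Prime) (hs : s.Prime) (h : r ∣ (q ^ m - 1) * D1 q m)
    (h' : s ∣ (q ^ m - 1) * D1 q m) :
    (r ∣ D1 q m ∧ s ∣ D1 q m) ∨ (Odd m ∧ r ∣ D2 q m ∧ s ∣ D2 q m) := by
  by_cases h1 : r ∣ D1 q m
  · by_cases h2 : s ∣ D1 q m
    · exact Or.inl ⟨h1, h2⟩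
    · have h4 := d_odd ((hs.dvd_mul.1 h').resolve_right h2) h2 (by omega)
      exact Or.inr ⟨h4, d_two h4 hm hr h, d_two h4 hm hs h'⟩
  · have h4 := d_odd ((hr.dvd_mul.1 h).resolve_right h1) h1 (by omega)
    exact Or.inr ⟨h4, d_two h4 hm hr h, d_two h4 hm hs h'⟩

theorem d_key (hm : 4 ≤ m) (hq : 2 ≤ q) {p d : ℕ}
    (h : ∃ e, (q ^ (m - 1 + 1) - 1) * (q ^ 1 + 1) * ∏ i ∈ Finset.Ico 1 (m - 1 + 1 - 1), (q ^ (2 * (i + 1)) - 1) ∣
      p ^ e * (d * (q ^ (m - 1) - 1))) : ∃ e, D2 q m ∣ p ^ e * d := by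
  obtain ⟨e, he⟩ := h
  refine ⟨e, ?_⟩
  have h1 : (q ^ (m - 1 + 1) - 1) * (q ^ 1 + 1) * ∏ i ∈ Finset.Ico 1 (m - 1 + 1 - 1), (q ^ (2 * (i + 1)) - 1) =
      D2 q m * (q ^ (m - 1) - 1) := by
    obtain ⟨j, rfl⟩ : ∃ j, m = j + 4 := ⟨m - 4, by omega⟩
    have e1 : j + 4 - 1 + 1 - 1 = j + 2 + 1 := by omega
    have e2 : j + 4 - 2 = j + 2 := by omega
    have e3 : j + 4 - 1 = j + 3 := by omega
    rw [D2, e1, e2, e3, Finset.prod_Ico_succ_top (by omega), pow_one]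
    have e4 : q ^ (2 * (j + 2 + 1)) - 1 = (q ^ (j + 3) + 1) * (q ^ (j + 3) - 1) := sq_sub q _
    rw [e4]
    ring
  rw [h1, ← mul_assoc] at he
  have h2 : 1 < q ^ (m - 1) := Nat.one_lt_pow (by omega) (by omega)
  exact Nat.dvd_of_mul_dvd_mul_right (by omega) he

theorem two_D1 (hq : Odd q) (hm : 4 ≤ m) : 2 ^ 7 ∣ D1 q m := by
  unfold D1
  rw [← Finset.prod_range_mul_prod_Ico _ (show 2 ≤ m - 1 by omega), Finset.prod_range_succ, Finset.prod_range_one]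
  refine Dvd.dvd.mul_right ?_ _
  rw [show (2 : ℕ) ^ 7 = 2 ^ 3 * 2 ^ 4 by norm_num]
  exact Nat.mul_dvd_mul (two_pow_sq hq) (two_pow_four hq)

theorem two_D2 (hq : Odd q) (hm : 4 ≤ m) : 2 ^ 4 ∣ D2 q m := by
  refine Dvd.dvd.mul_left ?_ _
  exact (two_pow_four hq).trans (Finset.dvd_prod_of_mem (fun i => q ^ (2 * (i + 1)) - 1)
    (show 1 ∈ Finset.Ico 1 (m - 2) from Finset.mem_Ico.2 ⟨le_rfl, by omega⟩))

/-! #### minus type -/

/-- the first product, type `²D` -/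
def M1 (q l : ℕ) : ℕ := (q ^ (l + 1) + 1) * (q - 1) * (q ^ l + 1) * ∏ i ∈ Finset.Ico 1 (l - 1), (q ^ (2 * (i + 1)) - 1)

/-- the second product, type `²D`, `l ≥ 5` -/
def M2 (q l : ℕ) : ℕ := (q ^ (l + 1) + 1) * (q ^ 2 - 1) * (q ^ (l - 1) + 1) * (q ^ (2 * l) - 1) *
  ∏ i ∈ Finset.Ico 2 (l - 2), (q ^ (2 * (i + 1)) - 1)

/-- the order -/
def MG (q l : ℕ) : ℕ := (q ^ (l + 1) + 1) * ∏ i ∈ Finset.range l, (q ^ (2 * (i + 1)) - 1)

theorem td_one (hl : 3 ≤ l) (hr : r.Prime) (h : r ∣ MG q l) (h1 : ¬ r ∣ M1 q l) :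
    r ∣ q ^ l - 1 ∧ Odd l := by
  rcases hr.dvd_mul.1 h with h2 | h2
  · exact absurd (Dvd.dvd.mul_right (Dvd.dvd.mul_right (Dvd.dvd.mul_right h2 _) _) _) h1
  obtain ⟨i, hi, h3⟩ := exists_idx hr h2
  rw [Finset.mem_range] at hi
  have hmid : ∀ i, i < l - 1 → r ∣ q ^ (2 * (i + 1)) - 1 → False := by
    intro i hi h2
    rcases Nat.eq_zero_or_pos i with rfl | h0
    · exact h1 (Dvd.dvd.mul_left (dvd_prod_idx (i := 1) (Finset.mem_Ico.2 ⟨le_rfl, by omega⟩)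
        (h2.trans (pow_sub_one_dvd q ⟨2, by norm_num⟩))) _)
    · exact h1 (Dvd.dvd.mul_left (dvd_prod_idx (Finset.mem_Ico.2 ⟨h0, by omega⟩) h2) _)
  have h4 : i + 1 = l := by
    by_contra h5
    exact hmid i (by omega) h3
  rw [h4, sq_sub] at h3
  have h5 : r ∣ q ^ l - 1 := (hr.dvd_mul.1 h3).resolve_left fun h6 =>
    h1 (Dvd.dvd.mul_right (Dvd.dvd.mul_left h6 _) _)
  refine ⟨h5, ?_⟩
  by_contra h6
  rw [Nat.not_odd_iff_even] at h6
  obtain ⟨j, hj⟩ := h6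
  apply hmid (j - 1) (by omega)
  have h7 : 2 * (j - 1 + 1) = l := by omega
  rwa [h7]

/-- `q^2+1` divides `q^(2j)+1` for odd `j` -/
theorem sq_add_dvd (q : ℕ) {j : ℕ} (hj : Odd j) : q ^ 2 + 1 ∣ q ^ (2 * j) + 1 := by
  rw [pow_mul]
  simpa using hj.nat_add_dvd_pow_add_pow (q ^ 2) 1

theorem td_two (hl : Odd l) (hl5 : 5 ≤ l) (hs : s.Prime) (h : s ∣ MG q l) : s ∣ M2 q l := by
  obtain ⟨j, hj⟩ := hl
  have hA : s ∣ q ^ (l + 1) + 1 → s ∣ M2 q l := fun h =>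
    Dvd.dvd.mul_right (Dvd.dvd.mul_right (Dvd.dvd.mul_right (Dvd.dvd.mul_right h _) _) _) _
  have hB : s ∣ q ^ 2 - 1 → s ∣ M2 q l := fun h =>
    Dvd.dvd.mul_right (Dvd.dvd.mul_right (Dvd.dvd.mul_right (Dvd.dvd.mul_left h _) _) _) _
  have hC : s ∣ q ^ (l - 1) + 1 → s ∣ M2 q l := fun h =>
    Dvd.dvd.mul_right (Dvd.dvd.mul_right (Dvd.dvd.mul_left h _) _) _
  rcases hs.dvd_mul.1 h with h1 | h1
  · exact hA h1
  obtain ⟨i, hi, h2⟩ := exists_idx hs h1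
  rw [Finset.mem_range] at hi
  have hmid : ∀ i, i ≤ l - 3 → s ∣ q ^ (2 * (i + 1)) - 1 → s ∣ M2 q l := by
    intro i hi h2
    rcases Nat.eq_zero_or_pos i with rfl | h0
    · exact hB h2
    rcases Nat.lt_or_ge i 2 with h3 | h3
    · -- `q⁴ - 1`
      have hi1 : i = 1 := by omega
      subst hi1
      have h4 : q ^ (2 * (1 + 1)) - 1 = (q ^ 2 + 1) * (q ^ 2 - 1) := sq_sub q 2
      rw [h4] at h2
      rcases hs.dvd_mul.1 h2 with h5 | h5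
      · rcases Nat.even_or_odd j with he | ho
        · -- `l + 1 = 2 (j + 1)`, `j + 1` odd
          apply hA
          have h6 : l + 1 = 2 * (j + 1) := by omega
          rw [h6]
          exact h5.trans (sq_add_dvd q he.add_one)
        · apply hC
          have h6 : l - 1 = 2 * j := by omega
          rw [h6]
          exact h5.trans (sq_add_dvd q ho)
      · exact hB h5
    · exact Dvd.dvd.mul_left (dvd_prod_idx (Finset.mem_Ico.2 ⟨h3, by omega⟩) h2) _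
  rcases Nat.lt_or_ge i (l - 2) with h3 | h3
  · exact hmid i (by omega) h2
  · rcases Nat.lt_or_ge i (l - 1) with h4 | h4
    · have h5 : i + 1 = l - 1 := by omega
      rw [h5, sq_sub] at h2
      rcases hs.dvd_mul.1 h2 with h6 | h6
      · exact hC h6
      · refine hmid (j - 1) (by omega) ?_
        have h7 : 2 * (j - 1 + 1) = l - 1 := by omega
        rwa [h7]
    · have h5 : i + 1 = l := by omega
      rw [h5] at h2
      exact Dvd.dvd.mul_right (Dvd.dvd.mul_left h2 _) _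

theorem td_three (hs : s.Prime) (h : s ∣ MG q 3) : s ∣ (q ^ 4 + 1) * (q ^ 6 - 1) ∨ s ∣ q ^ 2 + 1 := by
  rcases hs.dvd_mul.1 h with h1 | h1
  · exact Or.inl (Dvd.dvd.mul_right h1 _)
  obtain ⟨i, hi, h2⟩ := exists_idx hs h1
  rw [Finset.mem_range] at hi
  interval_cases i
  · exact Or.inl (Dvd.dvd.mul_left (h2.trans (pow_sub_one_dvd q ⟨3, by norm_num⟩)) _)
  · have h4 : q ^ (2 * (1 + 1)) - 1 = (q ^ 2 + 1) * (q ^ 2 - 1) := sq_sub q 2
    rw [h4] at h2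
    rcases hs.dvd_mul.1 h2 with h5 | h5
    · exact Or.inr h5
    · exact Or.inl (Dvd.dvd.mul_left (h5.trans (pow_sub_one_dvd q ⟨3, by norm_num⟩)) _)
  · exact Or.inl (Dvd.dvd.mul_left h2 _)

/-- two primes, type `²D` -/
theorem td_cases (hl : 3 ≤ l) (hr : r.Prime) (hs : s.Prime) (h : r ∣ MG q l) (h' : s ∣ MG q l) :
    (r ∣ M1 q l ∧ s ∣ M1 q l) ∨ (Odd l ∧ 5 ≤ l ∧ r ∣ M2 q l ∧ s ∣ M2 q l) ∨
      (l = 3 ∧ (r ∣ q ^ 3 - 1 ∧ ¬ r ∣ M1 q l ∨ s ∣ q ^ 3 - 1 ∧ ¬ s ∣ M1 q l) ∧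
        ((r ∣ (q ^ 4 + 1) * (q ^ 6 - 1) ∧ s ∣ (q ^ 4 + 1) * (q ^ 6 - 1)) ∨
        (r ∣ q ^ 3 - 1 ∧ s ∣ q ^ 2 + 1) ∨ (s ∣ q ^ 3 - 1 ∧ r ∣ q ^ 2 + 1))) := by
  have key : (Odd l ∧ (r ∣ q ^ l - 1 ∧ ¬ r ∣ M1 q l ∨ s ∣ q ^ l - 1 ∧ ¬ s ∣ M1 q l)) →
      (Odd l ∧ 5 ≤ l ∧ r ∣ M2 q l ∧ s ∣ M2 q l) ∨
      (l = 3 ∧ (r ∣ q ^ 3 - 1 ∧ ¬ r ∣ M1 q l ∨ s ∣ q ^ 3 - 1 ∧ ¬ s ∣ M1 q l) ∧
        ((r ∣ (q ^ 4 + 1) * (q ^ 6 - 1) ∧ s ∣ (q ^ 4 + 1) * (q ^ 6 - 1)) ∨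
        (r ∣ q ^ 3 - 1 ∧ s ∣ q ^ 2 + 1) ∨ (s ∣ q ^ 3 - 1 ∧ r ∣ q ^ 2 + 1))) := by
    rintro ⟨hodd, h1⟩
    by_cases h5 : 5 ≤ l
    · exact Or.inl ⟨hodd, h5, td_two hodd h5 hr h, td_two hodd h5 hs h'⟩
    · have hl3 : l = 3 := by
        rcases hodd with ⟨j, hj⟩
        omega
      subst hl3
      refine Or.inr ⟨rfl, h1, ?_⟩
      have h6 : ∀ {t : ℕ}, t ∣ q ^ 3 - 1 → t ∣ (q ^ 4 + 1) * (q ^ 6 - 1) := fun ht =>
        Dvd.dvd.mul_left (ht.trans (pow_sub_one_dvd q ⟨2, by norm_num⟩)) _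
      rcases h1 with ⟨h1, -⟩ | ⟨h1, -⟩
      · rcases td_three hs h' with h2 | h2
        · exact Or.inl ⟨h6 h1, h2⟩
        · exact Or.inr (Or.inl ⟨h1, h2⟩)
      · rcases td_three hr h with h2 | h2
        · exact Or.inl ⟨h2, h6 h1⟩
        · exact Or.inr (Or.inr ⟨h1, h2⟩)
  by_cases h1 : r ∣ M1 q l
  · by_cases h2 : s ∣ M1 q l
    · exact Or.inl ⟨h1, h2⟩
    · obtain ⟨h3, h4⟩ := td_one hl hs h' h2
      exact Or.inr (key ⟨h4, Or.inr ⟨h3, h2⟩⟩)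
  · obtain ⟨h3, h4⟩ := td_one hl hr h h1
    exact Or.inr (key ⟨h4, Or.inl ⟨h3, h1⟩⟩)

theorem td_key (hl : 5 ≤ l) (hq : 2 ≤ q) {p d : ℕ}
    (h : ∃ e, (q ^ (l - 1 + 1 + 1) + 1) * (q ^ (1 + 1) - 1) *
      ∏ i ∈ Finset.Ico (1 + 1) (l - 1 + 1), (q ^ (2 * (i + 1)) - 1) ∣
      p ^ e * (d * (q ^ (l - 1) - 1))) : ∃ e, M2 q l ∣ p ^ e * d := by
  obtain ⟨e, he⟩ := h
  refine ⟨e, ?_⟩
  have h1 : (q ^ (l - 1 + 1 + 1) + 1) * (q ^ (1 + 1) - 1) *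
      ∏ i ∈ Finset.Ico (1 + 1) (l - 1 + 1), (q ^ (2 * (i + 1)) - 1) = M2 q l * (q ^ (l - 1) - 1) := by
    obtain ⟨j, rfl⟩ : ∃ j, l = j + 5 := ⟨l - 5, by omega⟩
    have e1 : j + 5 - 1 + 1 = j + 3 + 1 + 1 := by omega
    have e2 : j + 5 - 2 = j + 3 := by omega
    have e3 : j + 5 - 1 = j + 4 := by omega
    rw [M2, e1, e2, e3, Finset.prod_Ico_succ_top (by omega), Finset.prod_Ico_succ_top (by omega)]
    have e4 : q ^ (2 * (j + 3 + 1)) - 1 = (q ^ (j + 4) + 1) * (q ^ (j + 4) - 1) := sq_sub q _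
    rw [e4]
    ring
  rw [h1, ← mul_assoc] at he
  have h2 : 1 < q ^ (l - 1) := Nat.one_lt_pow (by omega) (by omega)
  exact Nat.dvd_of_mul_dvd_mul_right (by omega) he

theorem td_key_three (hq : 2 ≤ q) {p d : ℕ}
    (h : ∃ e, (q ^ (2 + 1 + 1) + 1) * (q ^ (1 + 1) - 1) *
      ∏ i ∈ Finset.Ico (1 + 1) (2 + 1), (q ^ (2 * (i + 1)) - 1) ∣
      p ^ e * (d * (q ^ 2 - 1))) : ∃ e, (q ^ 4 + 1) * (q ^ 6 - 1) ∣ p ^ e * d := by
  obtain ⟨e, he⟩ := h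
  refine ⟨e, ?_⟩
  have h1 : (q ^ (2 + 1 + 1) + 1) * (q ^ (1 + 1) - 1) *
      ∏ i ∈ Finset.Ico (1 + 1) (2 + 1), (q ^ (2 * (i + 1)) - 1) = ((q ^ 4 + 1) * (q ^ 6 - 1)) * (q ^ 2 - 1) := by
    rw [Finset.prod_Ico_succ_top (by omega), Finset.Ico_self, Finset.prod_empty]
    ring
  rw [h1, ← mul_assoc] at he
  have h2 : 1 < q ^ 2 := Nat.one_lt_pow (by omega) (by omega)
  exact Nat.dvd_of_mul_dvd_mul_right (by omega) he

theorem two_M1 (hq : Odd q) (hl : 3 ≤ l) : 2 ^ 5 ∣ M1 q l := by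
  have h1 : 2 ∣ q ^ (l + 1) + 1 := (hq.pow (n := l + 1)).add_one.two_dvd
  have h2 := (two_pow_four hq).trans (Finset.dvd_prod_of_mem (fun i => q ^ (2 * (i + 1)) - 1)
    (show 1 ∈ Finset.Ico 1 (l - 1) from Finset.mem_Ico.2 ⟨le_rfl, by omega⟩))
  unfold M1
  have e : (q ^ (l + 1) + 1) * (q - 1) * (q ^ l + 1) * ∏ i ∈ Finset.Ico 1 (l - 1), (q ^ (2 * (i + 1)) - 1) =
      ((q ^ (l + 1) + 1) * ∏ i ∈ Finset.Ico 1 (l - 1), (q ^ (2 * (i + 1)) - 1)) * ((q - 1) * (q ^ l + 1)) := by ring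
  rw [e, show (2 : ℕ) ^ 5 = 2 * 2 ^ 4 by norm_num]
  exact Dvd.dvd.mul_right (Nat.mul_dvd_mul h1 h2) _

theorem two_M2 (hq : Odd q) : 2 ^ 4 ∣ M2 q l := by
  have h1 : 2 ∣ q ^ (l + 1) + 1 := (hq.pow (n := l + 1)).add_one.two_dvd
  unfold M2
  refine Dvd.dvd.mul_right (Dvd.dvd.mul_right (Dvd.dvd.mul_right ?_ _) _) _
  rw [show (2 : ℕ) ^ 4 = 2 * 2 ^ 3 by norm_num]
  exact Nat.mul_dvd_mul h1 (two_pow_sq hq)

theorem two_M3 (hq : Odd q) : 2 ^ 4 ∣ (q ^ 4 + 1) * (q ^ 6 - 1) := by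
  have h1 : 2 ∣ q ^ 4 + 1 := (hq.pow (n := 4)).add_one.two_dvd
  rw [show (2 : ℕ) ^ 4 = 2 * 2 ^ 3 by norm_num]
  exact Nat.mul_dvd_mul h1 ((two_pow_sq hq).trans (pow_sub_one_dvd q ⟨3, by norm_num⟩))

end arith

section

variable (K : Type u) [Field K] [Finite K] {p : ℕ} [Fact p.Prime] [CharP K p]

include p in
theorem plus_ch {m k n : ℕ} (hkn : k + n = m) (hm : 4 ≤ m) (hk : 3 ≤ k) :
    ∃ e, Ch (POmega K (quadFormPlus m K)) e ∧ (∀ t a, t.Prime → t ≠ 2 → t ^ a ∣ dg (CForm.plusF K (k + n)) k → t ^ a ∣ e) ∧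
      ∀ a, 2 ^ (a + 3) ∣ dg (CForm.plusF K (k + n)) k → 2 ^ a ∣ e := by
  subst hkn
  obtain ⟨c, hc⟩ := exists_cus_sq K rfl k (by omega) (fun _ => hk) (fun _ => hk) (fun _ => by omega)
  obtain ⟨⟨W₀, hW₀⟩, -⟩ := CForm.plusF_frame (K := K) (p := p) k n
  exact om_ch (CForm.plusF K (k + n)) (plus_hB K (k + n)) hW₀ hc
    (fun z hz => scal_of (cen_plus K (by omega) z hz)) (plus_idx K hm)

/-- a prime `≠ p` is odd or `q` is odd -/
theorem two_cases {r : ℕ} (hrp : r ≠ p) (hr2 : r = 2) : Odd (Nat.card K) :=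
  odd_of_two_ne (K := K) (p := p) (by rw [← hr2]; exact hrp.symm)

theorem plus_prod {m r : ℕ} (hm : 4 ≤ m) (hr : r.Prime) (hrp : r ≠ p)
    (hd : r ∣ Nat.card (POmega K (quadFormPlus m K))) : r ∣ (Nat.card K ^ m - 1) * D1 (Nat.card K) m := by
  have hd1 : r ∣ Nat.card (isometryGroup K (quadFormPlus m K)) :=
    hd.trans ((Subgroup.card_quotient_dvd_card _).trans (Subgroup.card_subgroup_dvd_card _))
  have hd2 : r ∣ Nat.card (CForm.plusF K m).iso := by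
    rwa [← Nat.card_congr (isoQuad (CForm.plusF K m) (plus_hB K m)).toEquiv]
  rw [card_plusF K (by omega)] at hd2
  by_cases hr2 : r = 2
  · subst hr2
    exact Dvd.dvd.mul_left ((dvd_pow_self 2 (by norm_num : 7 ≠ 0)).trans (two_D1 (two_cases K hrp rfl) hm)) _
  · rcases hr.dvd_mul.1 hd2 with h | h
    · rcases hr.dvd_mul.1 h with h' | h'
      · rcases hr.dvd_mul.1 h' with h'' | h''
        · exact absurd ((Nat.prime_dvd_prime_iff_eq hr Nat.prime_two).1 h'') hr2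
        · exact absurd (hr.dvd_of_dvd_pow h'') (ne_card K (p := p) hr hrp)
      · exact Dvd.dvd.mul_right h' _
    · exact Dvd.dvd.mul_left h _

/-- **`PΩ⁺`** -/
theorem np_plus {m : ℕ} (hm : 4 ≤ m) {r s : ℕ} (hr : r.Prime) (hs : s.Prime)
    (hrp : r ≠ p) (hsp : s ≠ p) (hrs : r ≠ s) (hd : r ∣ Nat.card (POmega K (quadFormPlus m K)))
    (hd' : s ∣ Nat.card (POmega K (quadFormPlus m K))) : Adj r s (POmega K (quadFormPlus m K)) := by
  have hp : p.Prime := Fact.out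
  have hq2 : 2 ≤ Nat.card K := Finite.one_lt_card
  have key : ∀ (k n M : ℕ) (hkn : k + n = m) (hk : 3 ≤ k) (hM : ∃ e, M ∣ p ^ e * dg (CForm.plusF K (k + n)) k)
      (h16 : Odd (Nat.card K) → 2 ^ 4 ∣ M) (h5 : r ∣ M) (h6 : s ∣ M), Adj r s (POmega K (quadFormPlus m K)) := by
    intro k n M hkn hk hM h16 h5 h6
    obtain ⟨e, he⟩ := hM
    obtain ⟨d, hd1, hd2, hd3⟩ := plus_ch K (p := p) hkn hm hk
    have h7 : ∀ r : ℕ, r.Prime → r ≠ p → r ∣ M → r ∣ d := by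
      intro r hr hrp h
      by_cases hr2 : r = 2
      · have := hd3 1 (prime_pow_dvd Nat.prime_two hp (by rw [← hr2]; exact hrp)
          ((h16 (two_cases K hrp hr2)).trans he))
        rwa [hr2, ← pow_one 2]
      · have := hd2 r 1 hr hr2 (by rw [pow_one]; exact rm_p (p := p) hr hrp h he)
        rwa [pow_one] at this
    exact adj_of_ch hd1 hr hs hrs (h7 r hr hrp h5) (h7 s hs hsp h6)
  rcases d_cases hm hr hs (plus_prod K hm hr hrp hd) (plus_prod K hm hs hsp hd') with ⟨h4, h5⟩ | ⟨h4, h5, h6⟩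
  · exact key m 0 (D1 (Nat.card K) m) (Nat.add_zero m) (by omega) (plus_dvd_top K (p := p) (m := m) (by omega))
      (fun ho => (pow_dvd_pow 2 (by norm_num)).trans (two_D1 ho hm)) h4 h5
  · exact key (m - 1) 1 _ (by omega) (by omega)
      (d_key hm hq2 (plus_dvd K (p := p) (k := m - 1) (n := 1) (by omega) le_rfl)) (fun ho => two_D2 ho hm) h5 h6

include p in
theorem minus_ch (a b : K)
    (hab : ∀ z₁ z₂ : K, z₁ ^ 2 + a * z₁ * z₂ + b * z₂ ^ 2 = 0 → z₁ = 0 ∧ z₂ = 0) {l k n : ℕ} (hkn : k + n = l)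
    (hl : 3 ≤ l) (hk : 2 ≤ k) (hk2 : Nat.card K = 2 → 3 ≤ k) (hk3 : Nat.card K = 3 → k = 2 → Odd n) :
    ∃ e, Ch (POmega K (quadFormMinus l K a b)) e ∧
      (∀ t c, t.Prime → t ≠ 2 → t ^ c ∣ dg (CForm.minusF K (k + n) a b hab) k → t ^ c ∣ e) ∧
      ∀ c, 2 ^ (c + 3) ∣ dg (CForm.minusF K (k + n) a b hab) k → 2 ^ c ∣ e := by
  subst hkn
  obtain ⟨⟨W₀, hW₀⟩, -⟩ := CForm.minusF_frame (K := K) (p := p) hab k n
  by_cases h3 : Nat.card K = 3 ∧ k = 2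
  · obtain ⟨hq3, rfl⟩ := h3
    have hn : Odd n := hk3 hq3 rfl
    · -- the centre is trivial
      have ho : Odd (Nat.card K) := by rw [hq3]; decide
      have hidx := minus_idx_four K (p := p) ho a b hab (2 + n)
      have hmul := minus_idx_mul K a b hab hl
      have hg : Nat.gcd 4 (Nat.card K ^ (2 + n + 1) + 1) = 2 := by
        obtain ⟨j, hj⟩ := hn
        have h4 : Nat.card K ^ (2 + n + 1) = 9 ^ (j + 2) := by
          rw [hq3, show 2 + n + 1 = 2 * (j + 2) by omega, pow_mul]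
          norm_num
        have h5 : (9 ^ (j + 2) + 1) % 4 = 2 := by
          rw [Nat.add_mod, Nat.pow_mod]
          norm_num
        rw [h4, Nat.gcd_rec, h5]
        decide
      rw [hidx, hg] at hmul
      have hc1 : Nat.card (Subgroup.center (Omega K (quadFormMinus (2 + n) K a b))) = 1 := by omega
      have hcen : ∀ z : Omega K (quadFormMinus (2 + n) K a b),
          z ∈ Subgroup.center (Omega K (quadFormMinus (2 + n) K a b)) → z = 1 := by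
        intro z hz
        rw [Subgroup.eq_bot_of_card_eq _ hc1] at hz
        exact Subgroup.mem_bot.1 hz
      obtain ⟨c, hc⟩ := exists_cus_one (K := K) hq3 2 (by norm_num) (by norm_num) (by rintro ⟨h, -⟩; omega)
      exact om_ch (CForm.minusF K (2 + n) a b hab) (minus_hB K (2 + n) a b hab) hW₀ hc
        (fun z hz => ⟨1, one_pow 1, fun v => by
          rw [hcen z hz]
          change (1 : Matrix _ _ K).mulVec v = _
          rw [Matrix.one_mulVec, Units.val_one, one_smul]⟩) (minus_idx K a b hab hl)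
  · obtain ⟨c, hc⟩ := exists_cus_sq K rfl k (by omega) hk2 (fun h => by
      by_contra h'
      exact h3 ⟨h, by omega⟩) (fun _ => hk)
    exact om_ch (CForm.minusF K (k + n) a b hab) (minus_hB K (k + n) a b hab) hW₀ hc
      (fun z hz => scal_of (cen_minus K (by omega) a b hab z hz)) (minus_idx K a b hab hl)

theorem minus_prod {l r : ℕ} (a b : K)
    (hab : ∀ z₁ z₂ : K, z₁ ^ 2 + a * z₁ * z₂ + b * z₂ ^ 2 = 0 → z₁ = 0 ∧ z₂ = 0) (hr : r.Prime) (hrp : r ≠ p)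
    (hd : r ∣ Nat.card (POmega K (quadFormMinus l K a b))) : r ∣ MG (Nat.card K) l := by
  have hd1 : r ∣ Nat.card (isometryGroup K (quadFormMinus l K a b)) :=
    hd.trans ((Subgroup.card_quotient_dvd_card _).trans (Subgroup.card_subgroup_dvd_card _))
  have hd2 : r ∣ Nat.card (CForm.minusF K l a b hab).iso := by
    rwa [← Nat.card_congr (isoQuad (CForm.minusF K l a b hab) (minus_hB K l a b hab)).toEquiv]
  rw [card_minusF] at hd2
  by_cases hr2 : r = 2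
  · subst hr2
    exact Dvd.dvd.mul_right ((two_cases K hrp rfl).pow (n := l + 1)).add_one.two_dvd _
  · rcases hr.dvd_mul.1 hd2 with h | h
    · rcases hr.dvd_mul.1 h with h' | h'
      · rcases hr.dvd_mul.1 h' with h'' | h''
        · exact absurd ((Nat.prime_dvd_prime_iff_eq hr Nat.prime_two).1 h'') hr2
        · exact absurd (hr.dvd_of_dvd_pow h'') (ne_card K (p := p) hr hrp)
      · exact Dvd.dvd.mul_right h' _
    · exact Dvd.dvd.mul_left h _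

/-- **`PΩ⁻`** -/
theorem np_minus (a b : K)
    (hab : ∀ z₁ z₂ : K, z₁ ^ 2 + a * z₁ * z₂ + b * z₂ ^ 2 = 0 → z₁ = 0 ∧ z₂ = 0) {l : ℕ}
    (hl : 3 ≤ l) {r s : ℕ} (hr : r.Prime) (hs : s.Prime) (hrp : r ≠ p) (hsp : s ≠ p) (hrs : r ≠ s)
    (hd : r ∣ Nat.card (POmega K (quadFormMinus l K a b))) (hd' : s ∣ Nat.card (POmega K (quadFormMinus l K a b)))
    (hex : l = 3 → Nat.card K = 2 → r ≠ 7 ∧ s ≠ 7) :
    Adj r s (POmega K (quadFormMinus l K a b)) ∨ (l = 3 ∧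
      ((r ∣ Nat.card K ^ 3 - 1 ∧ s ∣ Nat.card K ^ 2 + 1) ∨ (s ∣ Nat.card K ^ 3 - 1 ∧ r ∣ Nat.card K ^ 2 + 1))) := by
  have hp : p.Prime := Fact.out
  have hq2 : 2 ≤ Nat.card K := Finite.one_lt_card
  have key : ∀ (k n M : ℕ) (hkn : k + n = l) (hk : 2 ≤ k) (hk2 : Nat.card K = 2 → 3 ≤ k)
      (hk3 : Nat.card K = 3 → k = 2 → Odd n) (hM : ∃ e, M ∣ p ^ e * dg (CForm.minusF K (k + n) a b hab) k)
      (h16 : Odd (Nat.card K) → 2 ^ 4 ∣ M) (h5 : r ∣ M) (h6 : s ∣ M), Adj r s (POmega K (quadFormMinus l K a b)) := by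
    intro k n M hkn hk hk2 hk3 hM h16 h5 h6
    obtain ⟨e, he⟩ := hM
    obtain ⟨d, hd1, hd2, hd3⟩ := minus_ch K (p := p) a b hab hkn hl hk hk2 hk3
    have h7 : ∀ r : ℕ, r.Prime → r ≠ p → r ∣ M → r ∣ d := by
      intro r hr hrp h
      by_cases hr2 : r = 2
      · have := hd3 1 (prime_pow_dvd Nat.prime_two hp (by rw [← hr2]; exact hrp)
          ((h16 (two_cases K hrp hr2)).trans he))
        rwa [hr2, ← pow_one 2]
      · have := hd2 r 1 hr hr2 (by rw [pow_one]; exact rm_p (p := p) hr hrp h he)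
        rwa [pow_one] at this
    exact adj_of_ch hd1 hr hs hrs (h7 r hr hrp h5) (h7 s hs hsp h6)
  rcases td_cases hl hr hs (minus_prod K a b hab hr hrp hd) (minus_prod K a b hab hs hsp hd') with
    ⟨h4, h5⟩ | ⟨h4, h5, h6, h7⟩ | ⟨hl3, h5, h6⟩
  · exact Or.inl (key l 0 (M1 (Nat.card K) l) (Nat.add_zero l) (by omega) (by omega) (by omega)
      (minus_dvd_top K (p := p) a b hab (l := l) (by omega))
      (fun ho => (pow_dvd_pow 2 (by norm_num)).trans (two_M1 ho hl)) h4 h5)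
  · exact Or.inl (key (l - 1) 1 _ (by omega) (by omega) (by omega) (by omega)
      (td_key h5 hq2 (minus_dvd K (p := p) a b hab (k := l - 1) (n := 1) (by omega))) (fun ho => two_M2 ho) h6 h7)
  · subst hl3
    rcases h6 with ⟨h6, h7⟩ | h6 | h6
    · refine Or.inl (key 2 1 _ rfl le_rfl (fun hq => ?_) (fun _ _ => odd_one)
        (td_key_three hq2 (minus_dvd K (p := p) a b hab (k := 2) (n := 1) (by omega))) (fun ho => two_M3 ho) h6 h7)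
      exfalso
      have h7' : ∀ {r : ℕ}, r.Prime → r ∣ Nat.card K ^ 3 - 1 → r = 7 := by
        intro r hr h
        rw [hq] at h
        exact (Nat.prime_dvd_prime_iff_eq hr (by norm_num)).1 (by norm_num at h; exact h)
      obtain ⟨h8, h9⟩ := hex rfl hq
      rcases h5 with h5 | h5
      · exact h8 (h7' hr h5.1)
      · exact h9 (h7' hs h5.1)
    · exact Or.inr ⟨rfl, Or.inl h6⟩
    · exact Or.inr ⟨rfl, Or.inr h6⟩

end

end Cfsg.Agent.H477.HC
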