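import Cfsg.Agent.H477.HC.NPO
import Cfsg.Agent.H477.HC.Rows
import Cfsg.Agent.H53.HC.BigFacts
import Cfsg.Agent.H424.DegTools

/-!
# The degree graphs of the symplectic and orthogonal groups, I (hub H5, helper477)

`Np p S` : the primes other than `p` dividing `|S|` are pairwise adjacent;
`Np.ind`, `Np.conn`, `tri_of_ch`, `tri_of_top`;
`four_psp`, `four_odd`, `four_plus`, `four_minus` : `4` divides a degree (`q` odd).
-/

set_option autoImplicit false

open scoped ComplexConjugate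
open Cfsg

namespace Cfsg.Agent.H477.HC

open Cfsg.Agent.Characters Module Cfsg.Agent.H53.HC Cfsg.Agent.H671.H5

universe u v w

/-- the primes other than `p` dividing `|S|` are pairwise adjacent -/
def Np (p : ℕ) (S : Type u) [Group S] : Prop := ∀ r s : ℕ, r.Prime → s.Prime → r ≠ p → s ≠ p → r ≠ s →
  r ∣ Nat.card S → s ∣ Nat.card S → Adj r s S

theorem adj_congr {S S' : Type*} [Group S] [Group S'] (e : S ≃* S') {r s : ℕ} : (degreeGraph S).Adj r s ↔
    (degreeGraph S').Adj r s := by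
  rw [H424.DegTools.degreeGraph_congr e]

theorem adj_symm {S : Type*} [Group S] {r s : ℕ} (h : Adj r s S) : Adj s r S := SimpleGraph.Adj.symm h

theorem adj_left {S : Type*} [Group S] {r s : ℕ} (h : Adj r s S) : r ∈ degreePrimes S := by
  obtain ⟨-, ha, -, χ, hd⟩ := adj_iff.1 h
  exact mem_degreePrimes.2 ⟨ha, χ, (Dvd.intro _ rfl).trans hd⟩

theorem adj_right {S : Type*} [Group S] {r s : ℕ} (h : Adj r s S) : s ∈ degreePrimes S :=
  adj_left (adj_symm h)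

/-- connectedness from a centre -/
theorem conn_of {S : Type u} [Group S] {l : ℕ} (hl : l ∈ degreePrimes S)
    (h : ∀ x ∈ degreePrimes S, x ≠ l → Adj x l S ∨ ∃ y, Adj x y S ∧ (y = l ∨ Adj y l S)) :
    ((degreeGraph S).induce (degreePrimes S)).Connected := by
  have key : ∀ x : degreePrimes S, ((degreeGraph S).induce (degreePrimes S)).Reachable x ⟨l, hl⟩ := by
    rintro ⟨x, hx⟩
    by_cases h1 : x = l
    · subst h1
      exact SimpleGraph.Reachable.refl _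
    · have hadj : ∀ {a b : ℕ} (ha : a ∈ degreePrimes S) (hb : b ∈ degreePrimes S), Adj a b S →
          ((degreeGraph S).induce (degreePrimes S)).Reachable ⟨a, ha⟩ ⟨b, hb⟩ := fun ha hb hab =>
        SimpleGraph.Adj.reachable (show ((degreeGraph S).induce (degreePrimes S)).Adj ⟨_, ha⟩ ⟨_, hb⟩ from hab)
      rcases h x hx h1 with h2 | ⟨y, h2, h3⟩
      · exact hadj hx hl h2
      · have hy := adj_right h2
        rcases h3 with rfl | h3
        · exact hadj hx hl h2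
        · exact (hadj hx hy h2).trans (hadj hy hl h3)
  have : Nonempty (degreePrimes S) := ⟨⟨l, hl⟩⟩
  exact ⟨fun x y => (key x).trans (key y).symm⟩

/-- **(Conn)** -/
theorem Np.conn {S : Type u} [Group S] [Finite S] {p : ℕ} (h : Np p S) (he : ∃ l, Adj p l S) :
    ((degreeGraph S).induce (degreePrimes S)).Connected := by
  obtain ⟨l, he⟩ := he
  have hl := adj_right he
  obtain ⟨l1, l2⟩ := dvd_card_of_mem hl
  have hlp : l ≠ p := fun h1 => (adj_iff.1 he).1 h1.symm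
  refine conn_of hl fun x hx hxl => Or.inl ?_
  obtain ⟨x1, x2⟩ := dvd_card_of_mem hx
  by_cases hxp : x = p
  · rw [hxp]; exact he
  · exact h x l x1 l1 hxp hlp hxl x2 l2

/-- **(Ind)** -/
theorem Np.ind {S : Type u} [Group S] [Finite S] {c : ℕ} (h : Np c S) {p q r : ℕ} (hp : p ∈ degreePrimes S)
    (hq : q ∈ degreePrimes S) (hr : r ∈ degreePrimes S) (hpq : p ≠ q) (hqr : q ≠ r) (hpr : p ≠ r) :
    Adj p q S ∨ Adj q r S ∨ Adj p r S := by
  obtain ⟨p1, p2⟩ := dvd_card_of_mem hp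
  obtain ⟨q1, q2⟩ := dvd_card_of_mem hq
  obtain ⟨r1, r2⟩ := dvd_card_of_mem hr
  by_cases h1 : p = c
  · exact Or.inr (Or.inl (h q r q1 r1 (fun h => hpq (h1.trans h.symm)) (fun h => hpr (h1.trans h.symm)) hqr q2 r2))
  · by_cases h2 : q = c
    · exact Or.inr (Or.inr (h p r p1 r1 h1 (fun h => hqr (h2.trans h.symm)) hpr p2 r2))
    · exact Or.inl (h p q p1 q1 h1 h2 hpq p2 q2)

theorem tri_of_ch {S : Type u} [Group S] {d r s t : ℕ} (h : Ch S d) (hr : r.Prime) (hs : s.Prime) (ht : t.Prime)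
    (hrs : r ≠ s) (hst : s ≠ t) (hrt : r ≠ t) (h1 : r ∣ d) (h2 : s ∣ d) (h3 : t ∣ d) :
    ∃ p q r : ℕ, Adj p q S ∧ Adj q r S ∧ Adj p r S :=
  ⟨r, s, t, adj_of_ch h hr hs hrs h1 h2, adj_of_ch h hs ht hst h2 h3, adj_of_ch h hr ht hrt h1 h3⟩

theorem exists_three {q : ℕ} (hq : 4 ≤ q) : ∃ r s t : ℕ, r.Prime ∧ s.Prime ∧ t.Prime ∧ r ≠ s ∧ s ≠ t ∧ r ≠ t ∧
    r ∣ q ^ 4 - 1 ∧ s ∣ q ^ 4 - 1 ∧ t ∣ q ^ 4 - 1 := by
  have e1 : q ^ 4 - 1 = (q ^ 2 + 1) * (q ^ 2 - 1) := sq_sub q 2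
  have e2 : q ^ 2 - 1 = (q + 1) * (q - 1) := by
    have := sq_sub q 1
    simpa using this
  -- an odd prime divisor of `q² + 1`
  obtain ⟨t, ht, htd, ht2⟩ : ∃ t : ℕ, t.Prime ∧ t ∣ q ^ 2 + 1 ∧ t ≠ 2 := by
    by_contra hcon
    push Not at hcon
    obtain ⟨r, hr, hd⟩ := Nat.exists_prime_and_dvd (show q ^ 2 + 1 ≠ 1 by nlinarith)
    have hr2 := hcon r hr hd
    subst hr2
    have hodd : Odd q := by
      rcases Nat.even_or_odd q with h | h
      · exfalso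
        have : Even (q ^ 2) := h.pow_of_ne_zero (by norm_num)
        obtain ⟨a, ha⟩ := this
        omega
      · exact h
    obtain ⟨k, hk⟩ := hodd
    have e3 : q ^ 2 + 1 = 2 * (2 * (k * (k + 1)) + 1) := by rw [hk]; ring
    have h1 : 1 ≤ k := by omega
    obtain ⟨r, hr, hd⟩ := Nat.exists_prime_and_dvd (show 2 * (k * (k + 1)) + 1 ≠ 1 by
      have : 0 < k * (k + 1) := by positivity
      omega)
    have hr2 := hcon r hr (by rw [e3]; exact Dvd.dvd.mul_left hd _)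
    subst hr2
    omega
  have htn : ∀ r, r ∣ q ^ 2 - 1 → r ≠ t := by
    rintro r h rfl
    have h1 : r ∣ (q ^ 2 + 1) - (q ^ 2 - 1) := Nat.dvd_sub htd h
    have h2 : 1 ≤ q ^ 2 := Nat.one_le_pow _ _ (by omega)
    have e : (q ^ 2 + 1) - (q ^ 2 - 1) = 2 := by omega
    rw [e] at h1
    exact ht2 ((Nat.prime_dvd_prime_iff_eq ht Nat.prime_two).1 h1)
  obtain ⟨r, s, hr, hs, hrs, h1, h2⟩ : ∃ r s : ℕ, r.Prime ∧ s.Prime ∧ r ≠ s ∧ r ∣ q - 1 ∧ s ∣ q + 1 := by
    rcases Nat.even_or_odd q with ⟨k, hk⟩ | ⟨k, hk⟩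
    · obtain ⟨r, hr, hrd⟩ := Nat.exists_prime_and_dvd (show q - 1 ≠ 1 by omega)
      obtain ⟨s, hs, hsd⟩ := Nat.exists_prime_and_dvd (show q + 1 ≠ 1 by omega)
      refine ⟨r, s, hr, hs, ?_, hrd, hsd⟩
      rintro rfl
      have h1 : r ∣ (q + 1) - (q - 1) := Nat.dvd_sub hsd hrd
      have e : (q + 1) - (q - 1) = 2 := by omega
      rw [e] at h1
      have := (Nat.prime_dvd_prime_iff_eq hr Nat.prime_two).1 h1
      subst this
      omega
    · rcases Nat.even_or_odd k with ⟨j, hj⟩ | ⟨j, hj⟩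
      · -- `q = 4 j + 1`
        obtain ⟨s, hs, hsd⟩ := Nat.exists_prime_and_dvd (show 2 * j + 1 ≠ 1 by omega)
        refine ⟨2, s, Nat.prime_two, hs, ?_, ⟨k, by omega⟩, hsd.trans ⟨2, by omega⟩⟩
        rintro rfl
        omega
      · obtain ⟨r, hr, hrd⟩ := Nat.exists_prime_and_dvd (show 2 * j + 1 ≠ 1 by omega)
        refine ⟨r, 2, hr, Nat.prime_two, ?_, hrd.trans ⟨2, by omega⟩, ⟨k + 1, by omega⟩⟩
        rintro rfl
        omega
  have h1' : r ∣ q ^ 2 - 1 := by rw [e2]; exact Dvd.dvd.mul_left h1 _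
  have h2' : s ∣ q ^ 2 - 1 := by rw [e2]; exact Dvd.dvd.mul_right h2 _
  exact ⟨r, s, t, hr, hs, ht, hrs, htn s h2', htn r h1', by rw [e1]; exact Dvd.dvd.mul_left h1' _,
    by rw [e1]; exact Dvd.dvd.mul_left h2' _, by rw [e1]; exact Dvd.dvd.mul_right htd _⟩

/-- **(Tri)** from a character whose degree is divisible by the primes dividing `M` -/
theorem tri_of_top {S : Type u} [Group S] {q p M d : ℕ} (hp : p ∣ q) (hq : 2 ≤ q) (hpp : p.Prime) (h : Ch S d)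
    (hd : ∀ r, r.Prime → r ≠ p → r ∣ M → r ∣ d) (h4 : 4 ≤ q → q ^ 4 - 1 ∣ M)
    (h3 : q = 3 → 2 ∣ M ∧ 5 ∣ M ∧ 7 ∣ M) (h2 : q = 2 → ∃ t, t.Prime ∧ t ≠ 2 ∧ t ≠ 3 ∧ t ≠ 5 ∧ 3 ∣ M ∧ 5 ∣ M ∧ t ∣ M) :
    ∃ p q r : ℕ, Adj p q S ∧ Adj q r S ∧ Adj p r S := by
  by_cases hq4 : 4 ≤ q
  · obtain ⟨r, s, t, hr, hs, ht, hrs, hst, hrt, h5, h6, h7⟩ := exists_three hq4
    have hne : ∀ r, r.Prime → r ∣ q ^ 4 - 1 → r ≠ p := by
      rintro r hr h rfl
      have h8 : r ∣ q ^ 4 := hp.trans (dvd_pow_self q (by norm_num))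
      have h9 : r ∣ q ^ 4 - (q ^ 4 - 1) := Nat.dvd_sub h8 h
      have h10 : 1 ≤ q ^ 4 := Nat.one_le_pow _ _ (by omega)
      have e : q ^ 4 - (q ^ 4 - 1) = 1 := by omega
      rw [e] at h9
      exact hr.one_lt.ne' (Nat.dvd_one.1 h9)
    exact tri_of_ch h hr hs ht hrs hst hrt (hd r hr (hne r hr h5) (h5.trans (h4 hq4)))
      (hd s hs (hne s hs h6) (h6.trans (h4 hq4))) (hd t ht (hne t ht h7) (h7.trans (h4 hq4)))
  · have hq23 : q = 2 ∨ q = 3 := by omega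
    rcases hq23 with hq2 | hq3
    · have hp2 : p = 2 := (Nat.prime_dvd_prime_iff_eq hpp Nat.prime_two).1 (by rwa [hq2] at hp)
      obtain ⟨t, ht, ht2, ht3, ht5, h5, h6, h7⟩ := h2 hq2
      subst hp2
      exact tri_of_ch h Nat.prime_three Nat.prime_five ht (by norm_num) ht5.symm ht3.symm
        (hd 3 Nat.prime_three (by norm_num) h5) (hd 5 Nat.prime_five (by norm_num) h6) (hd t ht ht2 h7)
    · have hp3 : p = 3 := (Nat.prime_dvd_prime_iff_eq hpp Nat.prime_three).1 (by rwa [hq3] at hp)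
      obtain ⟨h5, h6, h7⟩ := h3 hq3
      subst hp3
      exact tri_of_ch h Nat.prime_two Nat.prime_five (show Nat.Prime 7 by norm_num) (by norm_num) (by norm_num)
        (by norm_num) (hd 2 Nat.prime_two (by norm_num) h5) (hd 5 Nat.prime_five (by norm_num) h6)
        (hd 7 (by norm_num) (by norm_num) h7)

theorem dvd_card_of_charP {K : Type u} [Field K] [Fintype K] {p : ℕ} [CharP K p] : p ∣ Fintype.card K := by
  have := (CharP.cast_eq_zero_iff K p (Fintype.card K)).1 (FiniteField.cast_card_eq_zero K)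
  exact this

end Cfsg.Agent.H477.HC
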