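import Cfsg.Agent.H477.HC.FactsA

/-!
# The degree graphs of the symplectic and orthogonal groups, II (hub H5, helper477)

A character of degree divisible by three primes; `4` divides a degree.
-/

set_option autoImplicit false

open scoped ComplexConjugate
open Cfsg

namespace Cfsg.Agent.H477.HC

open Cfsg.Agent.Characters Module Cfsg.Agent.H53.HC Cfsg.Agent.H671.H5

universe u v w

section arith

variable {q m l : ℕ}

theorem P1_four (hm : 2 ≤ m) : q ^ 4 - 1 ∣ P1 q m := by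
  unfold P1
  rcases Nat.lt_or_ge m 3 with h | h
  · have h2 : m = 2 := by omega
    subst h2
    have e : q ^ 4 - 1 = (q ^ 2 + 1) * (q ^ 2 - 1) := sq_sub q 2
    rw [e]
    exact Nat.mul_dvd_mul dvd_rfl (Finset.dvd_prod_of_mem (fun i => q ^ (2 * (i + 1)) - 1)
      (show 0 ∈ Finset.range (2 - 1) from Finset.mem_range.2 (by omega)))
  · exact Dvd.dvd.mul_left (Finset.dvd_prod_of_mem (fun i => q ^ (2 * (i + 1)) - 1)
      (show 1 ∈ Finset.range (m - 1) from Finset.mem_range.2 (by omega))) _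

theorem P1_three (hm : 3 ≤ m) : 2 ∣ P1 3 m ∧ 5 ∣ P1 3 m ∧ 7 ∣ P1 3 m := by
  have h := P1_four (q := 3) (m := m) (by omega)
  refine ⟨Dvd.dvd.trans (by norm_num) h, Dvd.dvd.trans (by norm_num) h, ?_⟩
  unfold P1
  rcases Nat.lt_or_ge m 4 with h | h
  · have h2 : m = 3 := by omega
    subst h2
    exact Dvd.dvd.mul_right (by norm_num) _
  · exact Dvd.dvd.mul_left (Dvd.dvd.trans (by norm_num) (Finset.dvd_prod_of_mem (fun i => 3 ^ (2 * (i + 1)) - 1)
      (show 2 ∈ Finset.range (m - 1) from Finset.mem_range.2 (by omega)))) _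

theorem P1_two (hm : 4 ≤ m) : ∃ t, t.Prime ∧ t ≠ 2 ∧ t ≠ 3 ∧ t ≠ 5 ∧ 3 ∣ P1 2 m ∧ 5 ∣ P1 2 m ∧ t ∣ P1 2 m := by
  have h := P1_four (q := 2) (m := m) (by omega)
  refine ⟨7, by norm_num, by norm_num, by norm_num, by norm_num, Dvd.dvd.trans (by norm_num) h,
    Dvd.dvd.trans (by norm_num) h, ?_⟩
  unfold P1
  exact Dvd.dvd.mul_left (Dvd.dvd.trans (by norm_num) (Finset.dvd_prod_of_mem (fun i => 2 ^ (2 * (i + 1)) - 1)
      (show 2 ∈ Finset.range (m - 1) from Finset.mem_range.2 (by omega)))) _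

theorem D1_idx {i : ℕ} (h : i + 1 < m) : q ^ (2 * (i + 1)) - 1 ∣ D1 q m :=
  Finset.dvd_prod_of_mem (fun i => q ^ (2 * (i + 1)) - 1) (Finset.mem_range.2 (by omega))

theorem M1_idx {i : ℕ} (h1 : 1 ≤ i) (h : i + 1 < l) : q ^ (2 * (i + 1)) - 1 ∣ M1 q l :=
  Dvd.dvd.mul_left (Finset.dvd_prod_of_mem (fun i => q ^ (2 * (i + 1)) - 1) (Finset.mem_Ico.2 ⟨h1, by omega⟩)) _

theorem M1_three (hl : 3 ≤ l) : 2 ∣ M1 3 l ∧ 5 ∣ M1 3 l ∧ 7 ∣ M1 3 l := by
  have h := M1_idx (q := 3) (l := l) (i := 1) le_rfl (by omega)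
  refine ⟨Dvd.dvd.trans (by norm_num) h, Dvd.dvd.trans (by norm_num) h, ?_⟩
  rcases Nat.lt_or_ge l 4 with h4 | h4
  · have h2 : l = 3 := by omega
    subst h2
    unfold M1
    exact Dvd.dvd.mul_right (Dvd.dvd.mul_left (by norm_num) _) _
  · exact Dvd.dvd.trans (by norm_num) (M1_idx (q := 3) (l := l) (i := 2) (by norm_num) (by omega))

theorem M1_two (hl : 3 ≤ l) : ∃ t, t.Prime ∧ t ≠ 2 ∧ t ≠ 3 ∧ t ≠ 5 ∧ 3 ∣ M1 2 l ∧ 5 ∣ M1 2 l ∧ t ∣ M1 2 l := by
  have h := M1_idx (q := 2) (l := l) (i := 1) le_rfl (by omega)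
  rcases Nat.lt_or_ge l 4 with h4 | h4
  · have h2 : l = 3 := by omega
    subst h2
    refine ⟨17, by norm_num, by norm_num, by norm_num, by norm_num, Dvd.dvd.trans (by norm_num) h,
      Dvd.dvd.trans (by norm_num) h, ?_⟩
    unfold M1
    exact Dvd.dvd.mul_right (Dvd.dvd.mul_right (Dvd.dvd.mul_right (by norm_num) _) _) _
  · exact ⟨7, by norm_num, by norm_num, by norm_num, by norm_num, Dvd.dvd.trans (by norm_num) h,
      Dvd.dvd.trans (by norm_num) h,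
      Dvd.dvd.trans (by norm_num) (M1_idx (q := 2) (l := l) (i := 2) (by norm_num) (by omega))⟩

end arith

section

variable (K : Type u) [Field K] [Finite K] {p : ℕ} [Fact p.Prime] [CharP K p]

/-- the first character of `PΩ_{2m+1}` -/
theorem odd_ch_top {m : ℕ} (ho : Odd (Nat.card K)) (hm : 3 ≤ m) :
    ∃ d, Ch (POmega K (quadFormOdd m K)) d ∧ (∀ r : ℕ, r.Prime → r ≠ p → r ∣ P1 (Nat.card K) m → r ∣ d) ∧ 16 ∣ d := by
  have hp : p.Prime := Fact.out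
  have h2 := two_ne_zero_of_odd (K := K) (p := p) ho
  have hp2 : p ≠ 2 := char_ne_two_of_odd (K := K) ho
  obtain ⟨d, h, h1, h3⟩ := odd_ch K (p := p) (m := m) (k := m) (n := 0) (Nat.add_zero m) ho h2 hm (by omega)
  obtain ⟨e, he⟩ := odd_dvd_top K h2 ho (p := p) (m := m) (by omega)
  have h16 : 2 ^ 4 ∣ d := h3 4 (prime_pow_dvd Nat.prime_two hp hp2.symm ((two_P1 ho hm).trans he))
  refine ⟨d, h, fun r hr hrp hd => ?_, h16⟩
  by_cases hr2 : r = 2
  · rw [hr2]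
    exact Dvd.dvd.trans (by norm_num) h16
  · have := h1 r 1 hr hr2 (by rw [pow_one]; exact rm_p (p := p) hr hrp hd he)
    rwa [pow_one] at this

/-- the first character of `PΩ⁺` -/
theorem plus_ch_top {m : ℕ} (hm : 4 ≤ m) :
    ∃ d, Ch (POmega K (quadFormPlus m K)) d ∧ (∀ r : ℕ, r.Prime → r ≠ p → r ∣ D1 (Nat.card K) m → r ∣ d) ∧
      (Odd (Nat.card K) → 16 ∣ d) := by
  have hp : p.Prime := Fact.out
  obtain ⟨d, h, h1, h3⟩ := plus_ch K (p := p) (m := m) (k := m) (n := 0) (Nat.add_zero m) hm (by omega)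
  obtain ⟨e, he⟩ := plus_dvd_top K (p := p) (m := m) (by omega)
  have h16 : Odd (Nat.card K) → 2 ^ 4 ∣ d := fun ho => by
    have hp2 : p ≠ 2 := char_ne_two_of_odd (K := K) ho
    exact h3 4 (prime_pow_dvd Nat.prime_two hp hp2.symm ((two_D1 ho hm).trans he))
  refine ⟨d, h, fun r hr hrp hd => ?_, h16⟩
  by_cases hr2 : r = 2
  · rw [hr2]
    exact Dvd.dvd.trans (by norm_num) (h16 (two_cases K hrp hr2))
  · have := h1 r 1 hr hr2 (by rw [pow_one]; exact rm_p (p := p) hr hrp hd he)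
    rwa [pow_one] at this

/-- the first character of `PΩ⁻` -/
theorem minus_ch_top (a b : K)
    (hab : ∀ z₁ z₂ : K, z₁ ^ 2 + a * z₁ * z₂ + b * z₂ ^ 2 = 0 → z₁ = 0 ∧ z₂ = 0) {l : ℕ} (hl : 3 ≤ l) :
    ∃ d, Ch (POmega K (quadFormMinus l K a b)) d ∧ (∀ r : ℕ, r.Prime → r ≠ p → r ∣ M1 (Nat.card K) l → r ∣ d) ∧
      (Odd (Nat.card K) → 4 ∣ d) := by
  have hp : p.Prime := Fact.out
  obtain ⟨d, h, h1, h3⟩ := minus_ch K (p := p) a b hab (l := l) (k := l) (n := 0) (Nat.add_zero l) hl (by omega)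
    (by omega) (by omega)
  obtain ⟨e, he⟩ := minus_dvd_top K (p := p) a b hab (l := l) (by omega)
  have h16 : Odd (Nat.card K) → 2 ^ 2 ∣ d := fun ho => by
    have hp2 : p ≠ 2 := char_ne_two_of_odd (K := K) ho
    exact h3 2 (prime_pow_dvd Nat.prime_two hp hp2.symm ((two_M1 ho hl).trans he))
  refine ⟨d, h, fun r hr hrp hd => ?_, h16⟩
  by_cases hr2 : r = 2
  · rw [hr2]
    exact Dvd.dvd.trans (by norm_num) (h16 (two_cases K hrp hr2))
  · have := h1 r 1 hr hr2 (by rw [pow_one]; exact rm_p (p := p) hr hrp hd he)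
    rwa [pow_one] at this

/-- the primes of `(q⁴ + 1)(q⁶ - 1)`, `PΩ₈⁻(q)`, `q ≥ 3` -/
theorem minus_T (a b : K)
    (hab : ∀ z₁ z₂ : K, z₁ ^ 2 + a * z₁ * z₂ + b * z₂ ^ 2 = 0 → z₁ = 0 ∧ z₂ = 0) (hq : 3 ≤ Nat.card K) :
    ∃ d, Ch (POmega K (quadFormMinus 3 K a b)) d ∧
      (∀ r : ℕ, r.Prime → r ≠ p → r ∣ (Nat.card K ^ 4 + 1) * (Nat.card K ^ 6 - 1) → r ∣ d) := by
  have hp : p.Prime := Fact.out
  obtain ⟨d, h, h1, h3⟩ := minus_ch K (p := p) a b hab (l := 3) (k := 2) (n := 1) rfl le_rfl le_rfl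
    (by omega) (fun _ _ => odd_one)
  obtain ⟨e, he⟩ := td_key_three (by omega) (minus_dvd K (p := p) a b hab (k := 2) (n := 1) (by omega))
  refine ⟨d, h, fun r hr hrp hd => ?_⟩
  by_cases hr2 : r = 2
  · have ho := two_cases K hrp hr2
    have hp2 : p ≠ 2 := char_ne_two_of_odd (K := K) ho
    have := h3 1 (prime_pow_dvd Nat.prime_two hp hp2.symm ((two_M3 ho).trans he))
    rwa [hr2, ← pow_one 2]
  · have := h1 r 1 hr hr2 (by rw [pow_one]; exact rm_p (p := p) hr hrp hd he)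
    rwa [pow_one] at this

end

end Cfsg.Agent.H477.HC
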