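import Cfsg.Agent.H477.HC.FactsB
import Cfsg.Agent.H996.Deg.RgdEdge
import Cfsg.Agent.H396.CommTab1
import Cfsg.Agent.H396.CommTab2
import Cfsg.Agent.H113.PSU.Left43

/-!
# The degree graphs of the symplectic and orthogonal groups, III: the rows (hub H5, helper477)

`conn_*`, `ind_*`, `tri_*`, `four_*` for `PSp`, `PΩ` odd, plus, minus; small groups as named hypotheses.
-/

set_option autoImplicit false

open scoped ComplexConjugate
open Cfsg

namespace Cfsg.Agent.H477.HC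

open Cfsg.Agent.Characters Module Cfsg.Agent.H53.HC Cfsg.Agent.H671.H5

universe u v w

/-- the three facts on the degree graph -/
structure GF (S : Type u) [Group S] : Prop where
  conn : ((degreeGraph S).induce (degreePrimes S)).Connected
  ind : ∀ p ∈ degreePrimes S, ∀ q ∈ degreePrimes S, ∀ r ∈ degreePrimes S, p ≠ q → q ≠ r → p ≠ r →
    Adj p q S ∨ Adj q r S ∨ Adj p r S
  tri : ∃ p q r : ℕ, Adj p q S ∧ Adj q r S ∧ Adj p r S

/-- `PSp_4(3)`: a character of degree divisible by `15` -/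
def TSp43 : Prop := ∀ (F : Type) [Field F] [Fintype F], Fintype.card F = 3 → ∃ d, 15 ∣ d ∧ Ch (PSp 2 F) d

/-- `PSp_6(2)`: a character of degree divisible by `210` -/
def TSp62 : Prop := ∀ (F : Type) [Field F] [Fintype F], Fintype.card F = 2 → ∃ d, 210 ∣ d ∧ Ch (PSp 3 F) d

/-- `PSp_6(3)`: characters of degrees `195` and `168` -/
def RSp63 : Prop := ∀ (F : Type) [Field F] [Fintype F], Fintype.card F = 3 → Ch (PSp 3 F) 195 ∧ Ch (PSp 3 F) 168

/-- `PΩ₈⁻(q)`: a character of degree divisible by `p` and the primes dividing `q⁴ + q² + 1` -/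
def RO8m : Prop := ∀ (F : Type) [Field F] [Fintype F] (a b : F),
  (∀ z₁ z₂ : F, z₁ ^ 2 + a * z₁ * z₂ + b * z₂ ^ 2 = 0 → z₁ = 0 ∧ z₂ = 0) →
  ∃ d, Ch (POmega F (quadFormMinus 3 F a b)) d ∧ (∀ p : ℕ, p.Prime → p ∣ Fintype.card F → p ∣ d) ∧
    ∀ r : ℕ, r.Prime → r ∣ Fintype.card F ^ 4 + Fintype.card F ^ 2 + 1 → r ∣ d

/-- `PSp_{2m}(2)`, `m ≥ 3`: `2` is adjacent to some prime -/
def EdgeSp2 : Prop := ∀ (F : Type) [Field F] [Fintype F] (m : ℕ), 3 ≤ m → Fintype.card F = 2 →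
  ∃ l, Adj 2 l (PSp m F)

theorem Np.gf {S : Type u} [Group S] [Finite S] {p : ℕ} (h : Np p S) (he : ∃ l, Adj p l S)
    (ht : ∃ p q r : ℕ, Adj p q S ∧ Adj q r S ∧ Adj p r S) : GF S :=
  ⟨h.conn he, fun _ ha _ hb _ hc hab hbc hac => h.ind ha hb hc hab hbc hac, ht⟩

theorem GF.congr {S : Type u} {S' : Type v} [Group S] [Group S'] (e : S ≃* S') (h : GF S') : GF S where
  conn := by
    rw [H424.DegTools.degreeGraph_congr e, H424.DegTools.degreePrimes_congr e]
    exact h.conn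
  ind := by
    intro a ha b hb c hc h1 h2 h3
    rw [H424.DegTools.degreePrimes_congr e] at ha hb hc
    unfold Adj
    rw [H424.DegTools.degreeGraph_congr e]
    exact h.ind a ha b hb c hc h1 h2 h3
  tri := by
    unfold Adj
    rw [H424.DegTools.degreeGraph_congr e]
    exact h.tri

theorem edge_congr {S : Type u} {S' : Type v} [Group S] [Group S'] (e : S ≃* S') {p : ℕ} (h : ∃ l, Adj p l S) :
    ∃ l, Adj p l S' := by
  obtain ⟨l, h⟩ := h
  refine ⟨l, ?_⟩
  unfold Adj at h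
  rw [H424.DegTools.degreeGraph_congr e] at h
  exact h

theorem edge_of_hasCG {S : Type u} [Group S] [Finite S] (hs : IsSimpleGroup S) (hnc : ¬ IsMulCommutative S) {p : ℕ}
    (hp : p.Prime) {S' : Type v} [Group S'] (e : S ≃* S') (h : H396.HasCG p S') : ∃ l, Adj p l S := by
  obtain ⟨l, -, -, h⟩ := H996.Deg.adj hp hnc (h.of_equiv e.symm)
  exact ⟨l, h⟩

/-- non-abelian -/
theorem not_comm_of_adj {S : Type u} [Group S] [Finite S] {a b : ℕ} (h : Adj a b S) : ¬ IsMulCommutative S := by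
  intro hc
  obtain ⟨-, ha, -, χ, hd⟩ := adj_iff.1 h
  obtain ⟨χ, n, ρ, hρ, rfl⟩ := χ
  have h1 := Representation.IsIrreducible.finrank_eq_one_of_isMulCommutative ρ
  have h2 : charDegree (ρ.character : S → ℂ) = 1 := by
    refine H670.PSing.charDegree_eq_of ?_
    rw [Representation.char_one, h1]
  rw [h2, Nat.dvd_one] at hd
  exact ha.one_lt.ne' (Nat.eq_one_of_mul_eq_one_right hd)

/-! ### the symplectic groups -/

theorem char_dvd_card {K : Type u} [Field K] [Fintype K] {p : ℕ} [CharP K p] : p ∣ Nat.card K := by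
  rw [Nat.card_eq_fintype_card]
  exact dvd_card_of_charP

/-- **(Tri)** for `PSp_{2m}(q)` -/
theorem sp_tri {K : Type u} [Field K] [Finite K] {m : ℕ} (hm : 2 ≤ m) (h1 : m = 2 → 4 ≤ Nat.card K)
    (h2 : m = 3 → Nat.card K ≠ 2) : ∃ p q r : ℕ, Adj p q (PSp m K) ∧ Adj q r (PSp m K) ∧ Adj p r (PSp m K) := by
  have := Fintype.ofFinite K
  obtain ⟨p, hp⟩ := CharP.exists K
  have hpr : p.Prime := (CharP.char_is_prime_or_zero K p).resolve_right (CharP.char_ne_zero_of_finite K p)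
  have : Fact p.Prime := ⟨hpr⟩
  have hq2 : 2 ≤ Nat.card K := Finite.one_lt_card
  obtain ⟨d, hd, hd'⟩ := sp_ch_top K (p := p) hm h1
  refine tri_of_top (char_dvd_card (K := K)) hq2 hpr hd hd' (fun _ => P1_four hm) (fun h => ?_) (fun h => ?_)
  · rw [h]
    refine P1_three ?_
    by_contra h3
    have := h1 (by omega)
    omega
  · rw [h]
    refine P1_two ?_
    by_contra h3
    by_cases h4 : m = 2
    · have := h1 h4
      omega
    · exact h2 (by omega) h

/-- `PSp_{2m}(q)`, all cases but `PSp_6(3)` -/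
theorem sp_np {K : Type} [Field K] [Fintype K] {m : ℕ} (hm : 2 ≤ m) (h1 : m = 2 → 3 ≤ Fintype.card K) (h62 : TSp62)
    {p : ℕ} [Fact p.Prime] [CharP K p] (h3 : ¬ (m = 3 ∧ Fintype.card K = 3)) : Np p (PSp m K) := by
  have hpr : p.Prime := Fact.out
  have hpK : p ∣ Nat.card K := char_dvd_card
  rw [Nat.card_eq_fintype_card] at hpK
  intro r s hr hs hrp hsp hrs hd hd'
  by_cases h43 : m = 2 ∧ Fintype.card K = 3
  · obtain ⟨rfl, hK⟩ := h43
    have hp3 : p = 3 := (Nat.prime_dvd_prime_iff_eq hpr Nat.prime_three).1 (by rwa [hK] at hpK)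
    have key : ∀ {r : ℕ}, r.Prime → r ≠ p → r ∣ Nat.card (PSp 2 K) → r = 2 ∨ r = 5 := by
      intro r hr hrp hd
      have h1 : r ∣ Nat.card (Matrix.symplecticGroup (Fin 2) K) := hd.trans (Subgroup.card_quotient_dvd_card _)
      rw [Cfsg.Agent.S0245.result hK 2] at h1
      have h2 : r ∣ 2 ^ 7 * 3 ^ 4 * 5 := by
        refine h1.trans (dvd_of_eq ?_)
        rw [Finset.prod_range_succ, Finset.prod_range_one]
        norm_num
      rcases hr.dvd_mul.1 h2 with h4 | h4
      · rcases hr.dvd_mul.1 h4 with h5 | h5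
        · left; exact (Nat.prime_dvd_prime_iff_eq hr Nat.prime_two).1 (hr.dvd_of_dvd_pow h5)
        · exfalso
          exact hrp (((Nat.prime_dvd_prime_iff_eq hr Nat.prime_three).1 (hr.dvd_of_dvd_pow h5)).trans hp3.symm)
      · right; exact (Nat.prime_dvd_prime_iff_eq hr Nat.prime_five).1 h4
    obtain ⟨χ₁, -, h1, -, h3, -⟩ := H113.PSU.Left43.sp43 (F := K) hK
    have h20 : Ch (PSp 2 K) 20 := ⟨χ₁, h1, by rw [h3]; norm_num⟩
    have h20' : ∀ {r : ℕ}, r = 2 ∨ r = 5 → r ∣ 20 := by rintro r (rfl | rfl) <;> norm_num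
    exact adj_of_ch h20 hr hs hrs (h20' (key hr hrp hd)) (h20' (key hs hsp hd'))
  · by_cases h62' : m = 3 ∧ Fintype.card K = 2
    · obtain ⟨rfl, hK⟩ := h62'
      have hp2 : p = 2 := (Nat.prime_dvd_prime_iff_eq hpr Nat.prime_two).1 (by rwa [hK] at hpK)
      obtain ⟨d, hd2, hd1⟩ := h62 K hK
      have key : ∀ {r : ℕ}, r.Prime → r ≠ p → r ∣ Nat.card (PSp 3 K) → r ∣ d := by
        intro r hr hrp hd
        have h1 : r ∣ Nat.card (Matrix.symplecticGroup (Fin 3) K) := hd.trans (Subgroup.card_quotient_dvd_card _)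
        rw [Cfsg.Agent.S0245.result hK 3] at h1
        have h2 : r ∣ 2 ^ 9 * (3 ^ 4 * (5 * 7)) := by
          refine h1.trans (dvd_of_eq ?_)
          rw [Finset.prod_range_succ, Finset.prod_range_succ, Finset.prod_range_one]
          norm_num
        refine Dvd.dvd.trans ?_ hd2
        rcases hr.dvd_mul.1 h2 with h4 | h4
        · exact absurd ((Nat.prime_dvd_prime_iff_eq hr Nat.prime_two).1 (hr.dvd_of_dvd_pow h4)) (by rwa [hp2] at hrp)
        · rcases hr.dvd_mul.1 h4 with h5 | h5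
          · exact (hr.dvd_of_dvd_pow h5).trans (by norm_num)
          · exact h5.trans (by norm_num)
      exact adj_of_ch hd1 hr hs hrs (key hr hrp hd) (key hs hsp hd')
    · refine np_sp K (p := p) hm (fun h => ?_) hr hs hrp hsp hrs hd hd' (fun h h' => ?_) (fun h h' => ?_)
      · have := h1 h
        rw [Nat.card_eq_fintype_card]
        by_contra h4
        exact h43 ⟨h, by omega⟩
      · exact absurd ⟨h, by rwa [Nat.card_eq_fintype_card] at h'⟩ h62'
      · exact absurd ⟨h, by rwa [Nat.card_eq_fintype_card] at h'⟩ h3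

/-- `PSp_6(3)` -/
theorem sp63_gf {K : Type} [Field K] [Fintype K] (hK : Fintype.card K = 3) (hR : RSp63) : GF (PSp 3 K) := by
  obtain ⟨h195, h168⟩ := hR K hK
  obtain ⟨p, hp⟩ := CharP.exists K
  have hpr : p.Prime := (CharP.char_is_prime_or_zero K p).resolve_right (CharP.char_ne_zero_of_finite K p)
  have : Fact p.Prime := ⟨hpr⟩
  have hpK : p ∣ Nat.card K := char_dvd_card
  rw [Nat.card_eq_fintype_card, hK] at hpK
  have hp3 : p = 3 := (Nat.prime_dvd_prime_iff_eq hpr Nat.prime_three).1 hpK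
  have key : ∀ {r : ℕ}, r ∈ degreePrimes (PSp 3 K) → r = 3 ∨ (r = 2 ∨ r = 7 ∨ r = 5) ∨ r = 13 := by
    intro r hr
    obtain ⟨hr, hd⟩ := dvd_card_of_mem hr
    have h1 : r ∣ Nat.card (Matrix.symplecticGroup (Fin 3) K) := hd.trans (Subgroup.card_quotient_dvd_card _)
    rw [Cfsg.Agent.S0245.result hK 3] at h1
    have h2 : r ∣ 3 ^ 9 * (2 ^ 10 * (5 * (7 * 13))) := by
      refine h1.trans (dvd_of_eq ?_)
      rw [Finset.prod_range_succ, Finset.prod_range_succ, Finset.prod_range_one]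
      norm_num
    rcases hr.dvd_mul.1 h2 with h4 | h4
    · left; exact (Nat.prime_dvd_prime_iff_eq hr Nat.prime_three).1 (hr.dvd_of_dvd_pow h4)
    · right
      rcases hr.dvd_mul.1 h4 with h5 | h5
      · left; left; exact (Nat.prime_dvd_prime_iff_eq hr Nat.prime_two).1 (hr.dvd_of_dvd_pow h5)
      · rcases hr.dvd_mul.1 h5 with h6 | h6
        · left; right; right; exact (Nat.prime_dvd_prime_iff_eq hr Nat.prime_five).1 h6
        · rcases hr.dvd_mul.1 h6 with h7 | h7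
          · left; right; left; exact (Nat.prime_dvd_prime_iff_eq hr (by norm_num)).1 h7
          · right; exact (Nat.prime_dvd_prime_iff_eq hr (by norm_num)).1 h7
  have a3 : ∀ {r : ℕ}, r ∈ degreePrimes (PSp 3 K) → r ≠ 3 → Adj r 3 (PSp 3 K) := by
    intro r hr h3
    rcases key hr with rfl | (rfl | rfl | rfl) | rfl
    · exact absurd rfl h3
    · exact adj_of_ch h168 (by norm_num) (by norm_num) (by norm_num) (by norm_num) (by norm_num)
    · exact adj_of_ch h168 (by norm_num) (by norm_num) (by norm_num) (by norm_num) (by norm_num)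
    · exact adj_of_ch h195 (by norm_num) (by norm_num) (by norm_num) (by norm_num) (by norm_num)
    · exact adj_of_ch h195 (by norm_num) (by norm_num) (by norm_num) (by norm_num) (by norm_num)
  have h3m : 3 ∈ degreePrimes (PSp 3 K) :=
    adj_left (adj_of_ch (r := 3) (s := 2) h168 (by norm_num) (by norm_num) (by norm_num) (by norm_num) (by norm_num))
  refine ⟨conn_of h3m fun x hx hx3 => Or.inl (a3 hx hx3), ?_, ?_⟩
  · have np : ∀ {r s : ℕ}, r ∈ degreePrimes (PSp 3 K) → s ∈ degreePrimes (PSp 3 K) → r ≠ s → r ≠ 3 → s ≠ 3 →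
        r ≠ 13 → s ≠ 13 → Adj r s (PSp 3 K) := by
      intro r s hr hs hrs hr3 hs3 hr13 hs13
      obtain ⟨r1, r2⟩ := dvd_card_of_mem hr
      obtain ⟨s1, s2⟩ := dvd_card_of_mem hs
      exact np_sp K (p := p) (m := 3) (by norm_num) (by omega) r1 s1 (by rwa [hp3]) (by rwa [hp3]) hrs r2 s2
        (fun _ h => by rw [Nat.card_eq_fintype_card] at h; omega) (fun _ _ => ⟨hr13, hs13⟩)
    intro a ha b hb c hc hab hbc hac
    by_cases a1 : a = 3
    · rw [a1]; exact Or.inl (adj_symm (a3 hb (by rw [← a1]; exact hab.symm)))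
    by_cases b1 : b = 3
    · rw [b1]; exact Or.inl (a3 ha (by rw [← b1]; exact hab))
    by_cases c1 : c = 3
    · rw [c1]; exact Or.inr (Or.inl (a3 hb (by rw [← c1]; exact hbc)))
    by_cases a2 : a = 13
    · exact Or.inr (Or.inl (np hb hc hbc b1 c1 (by rw [← a2]; exact hab.symm) (by rw [← a2]; exact hac.symm)))
    by_cases b2 : b = 13
    · exact Or.inr (Or.inr (np ha hc hac a1 c1 a2 (by rw [← b2]; exact hbc.symm)))
    exact Or.inl (np ha hb hab a1 b1 a2 b2)
  · exact tri_of_ch h168 (r := 2) (s := 3) (t := 7) (by norm_num) (by norm_num) (by norm_num) (by norm_num)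
      (by norm_num) (by norm_num) (by norm_num) (by norm_num) (by norm_num)

/-- **`PSp_{2m}(q)`** -/
theorem gf_psp (S : Type u) [Group S] [Finite S] (h : IsPSp S) (hs : IsSimpleGroup S)
    (h43 : TSp43) (h62 : TSp62) (h63 : RSp63) (he : EdgeSp2) : GF S := by
  obtain ⟨F, _, _, m, hm, h3, ⟨e⟩⟩ := h
  obtain ⟨p, hp⟩ := CharP.exists F
  have hpr : p.Prime := (CharP.char_is_prime_or_zero F p).resolve_right (CharP.char_ne_zero_of_finite F p)
  have : Fact p.Prime := ⟨hpr⟩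
  by_cases c63 : m = 3 ∧ Fintype.card F = 3
  · obtain ⟨rfl, hF⟩ := c63
    exact (sp63_gf hF h63).congr e
  have : Nontrivial (PSp m F) := e.symm.toEquiv.nontrivial
  have : IsSimpleGroup (PSp m F) :=
    IsSimpleGroup.isSimpleGroup_of_surjective e.toMonoidHom e.surjective
  have hfin : Finite (PSp m F) := Finite.of_equiv S e.toEquiv
  have hq2 : 2 ≤ Fintype.card F := Fintype.one_lt_card
  have hnp : Np p (PSp m F) := sp_np (K := F) hm h3 h62 c63
  -- the triangle
  have htri : ∃ p q r : ℕ, Adj p q (PSp m F) ∧ Adj q r (PSp m F) ∧ Adj p r (PSp m F) := by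
    by_cases c43 : m = 2 ∧ Fintype.card F = 3
    · obtain ⟨rfl, hF⟩ := c43
      obtain ⟨d, hd, hd'⟩ := h43 F hF
      obtain ⟨χ₁, χ₂, h1, h2, h4, h5⟩ := H113.PSU.Left43.sp43 (F := F) hF
      have h20 : Ch (PSp 2 F) 20 := ⟨χ₁, h1, by rw [h4]; norm_num⟩
      have h24 : Ch (PSp 2 F) 24 := ⟨χ₂, h2, by rw [h5]; norm_num⟩
      exact ⟨2, 3, 5, adj_of_ch h24 (by norm_num) (by norm_num) (by norm_num) (by norm_num) (by norm_num),
        adj_of_ch hd' (by norm_num) (by norm_num) (by norm_num) (Dvd.dvd.trans (by norm_num) hd)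
          (Dvd.dvd.trans (by norm_num) hd),
        adj_of_ch h20 (by norm_num) (by norm_num) (by norm_num) (by norm_num) (by norm_num)⟩
    · by_cases c62 : m = 3 ∧ Fintype.card F = 2
      · obtain ⟨rfl, hF⟩ := c62
        obtain ⟨d, hd, hd'⟩ := h62 F hF
        exact tri_of_ch hd' (r := 3) (s := 5) (t := 7) (by norm_num) (by norm_num) (by norm_num) (by norm_num)
          (by norm_num) (by norm_num) (Dvd.dvd.trans (by norm_num) hd) (Dvd.dvd.trans (by norm_num) hd)
          (Dvd.dvd.trans (by norm_num) hd)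
      · refine sp_tri hm (fun h => ?_) (fun h => ?_)
        · rw [Nat.card_eq_fintype_card]
          have := h3 h
          by_contra h'
          exact c43 ⟨h, by omega⟩
        · rw [Nat.card_eq_fintype_card]
          exact fun h' => c62 ⟨h, h'⟩
  refine GF.congr e (hnp.gf ?_ htri)
  by_cases hF2 : 2 < Fintype.card F
  · obtain ⟨a, b, -, h4, -, -⟩ := htri
    exact edge_of_hasCG inferInstance (not_comm_of_adj h4) hpr (MulEquiv.refl _) (H396.CommTab.hasCG_PSp hm hF2)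
  · have hF : Fintype.card F = 2 := by omega
    have hpK : p ∣ Nat.card F := char_dvd_card
    rw [Nat.card_eq_fintype_card, hF] at hpK
    have hp2 : p = 2 := (Nat.prime_dvd_prime_iff_eq hpr Nat.prime_two).1 hpK
    rw [hp2]
    refine he F m ?_ hF
    by_contra h4
    have := h3 (by omega)
    omega

/-- **`PΩ_{2m+1}(q)`** -/
theorem gf_omega_odd (S : Type u) [Group S] [Finite S] (h : IsPOmegaOdd S) (hs : IsSimpleGroup S) : GF S := by
  obtain ⟨F, _, _, m, hm, ho, ⟨e⟩⟩ := h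
  obtain ⟨p, hp⟩ := CharP.exists F
  have hpr : p.Prime := (CharP.char_is_prime_or_zero F p).resolve_right (CharP.char_ne_zero_of_finite F p)
  have : Fact p.Prime := ⟨hpr⟩
  have : Nontrivial (POmega F (quadFormOdd m F)) := e.symm.toEquiv.nontrivial
  have : IsSimpleGroup (POmega F (quadFormOdd m F)) :=
    IsSimpleGroup.isSimpleGroup_of_surjective e.toMonoidHom e.surjective
  have hfin : Finite (POmega F (quadFormOdd m F)) := Finite.of_equiv S e.toEquiv
  have ho' : Odd (Nat.card F) := by rwa [Nat.card_eq_fintype_card]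
  have hq2 : 2 ≤ Nat.card F := Finite.one_lt_card
  have hnp : Np p (POmega F (quadFormOdd m F)) := fun r s hr hs hrp hsp hrs hd hd' =>
    np_odd F (p := p) ho' hm hr hs hrp hsp hrs hd hd'
  obtain ⟨d, hd, hd', -⟩ := odd_ch_top F (p := p) (m := m) ho' hm
  have htri := tri_of_top (char_dvd_card (K := F)) hq2 hpr hd hd' (fun _ => P1_four (by omega))
    (fun h => by rw [h]; exact P1_three hm) (fun h => by
      exfalso
      rw [h] at ho'
      exact absurd ho' (by decide))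
  refine GF.congr e (hnp.gf ?_ htri)
  obtain ⟨a, b, -, h4, -, -⟩ := htri
  exact edge_of_hasCG inferInstance (not_comm_of_adj h4) hpr (MulEquiv.refl _)
    (H396.CommTab.hasCG_PO_odd (two_ne_zero_of_odd (K := F) (p := p) ho') (by omega))

/-- **`PΩ⁺_{2m}(q)`** -/
theorem gf_omega_plus (S : Type u) [Group S] [Finite S] (h : IsPOmegaPlus S) (hs : IsSimpleGroup S) : GF S := by
  obtain ⟨F, _, _, m, hm, ⟨e⟩⟩ := h
  obtain ⟨p, hp⟩ := CharP.exists F
  have hpr : p.Prime := (CharP.char_is_prime_or_zero F p).resolve_right (CharP.char_ne_zero_of_finite F p)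
  have : Fact p.Prime := ⟨hpr⟩
  have : Nontrivial (POmega F (quadFormPlus m F)) := e.symm.toEquiv.nontrivial
  have : IsSimpleGroup (POmega F (quadFormPlus m F)) :=
    IsSimpleGroup.isSimpleGroup_of_surjective e.toMonoidHom e.surjective
  have hfin : Finite (POmega F (quadFormPlus m F)) := Finite.of_equiv S e.toEquiv
  have hq2 : 2 ≤ Nat.card F := Finite.one_lt_card
  have hnp : Np p (POmega F (quadFormPlus m F)) := fun r s hr hs hrp hsp hrs hd hd' =>
    np_plus F (p := p) hm hr hs hrp hsp hrs hd hd'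
  obtain ⟨d, hd, hd', -⟩ := plus_ch_top F (p := p) (m := m) hm
  have htri := tri_of_top (char_dvd_card (K := F)) hq2 hpr hd hd' (fun _ => D1_idx (i := 1) (by omega))
    (fun h => by
      rw [h]
      exact ⟨Dvd.dvd.trans (by norm_num) (D1_idx (q := 3) (m := m) (i := 1) (by omega)),
        Dvd.dvd.trans (by norm_num) (D1_idx (q := 3) (m := m) (i := 1) (by omega)),
        Dvd.dvd.trans (by norm_num) (D1_idx (q := 3) (m := m) (i := 2) (by omega))⟩)
    (fun h => by
      rw [h]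
      exact ⟨7, by norm_num, by norm_num, by norm_num, by norm_num,
        Dvd.dvd.trans (by norm_num) (D1_idx (q := 2) (m := m) (i := 1) (by omega)),
        Dvd.dvd.trans (by norm_num) (D1_idx (q := 2) (m := m) (i := 1) (by omega)),
        Dvd.dvd.trans (by norm_num) (D1_idx (q := 2) (m := m) (i := 2) (by omega))⟩)
  refine GF.congr e (hnp.gf ?_ htri)
  obtain ⟨a, b, -, h4, -, -⟩ := htri
  obtain ⟨n, rfl⟩ : ∃ n, m = n + 3 := ⟨m - 3, by omega⟩
  exact edge_of_hasCG inferInstance (not_comm_of_adj h4) hpr (MulEquiv.refl _) (H396.CommTab.hasCG_PO_plus n)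

/-! ### minus type -/

theorem m3_y {q : ℕ} (hq : 2 ≤ q) : ∃ y, y.Prime ∧ y ∣ q ^ 4 + q ^ 2 + 1 ∧ y ∣ M1 q 3 ∧
    ∀ p, p.Prime → p ∣ q → y ≠ p := by
  obtain ⟨k, rfl⟩ : ∃ k, q = k + 2 := ⟨q - 2, by omega⟩
  obtain ⟨y, hy, hyd⟩ := Nat.exists_prime_and_dvd (show (k + 2) * (k + 1) + 1 ≠ 1 by
    have : 0 < (k + 2) * (k + 1) := by positivity
    omega)
  refine ⟨y, hy, ?_, ?_, ?_⟩
  · have e : (k + 2) ^ 4 + (k + 2) ^ 2 + 1 = ((k + 2) * (k + 1) + 1) * ((k + 2) ^ 2 + (k + 2) + 1) := by ring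
    rw [e]
    exact Dvd.dvd.mul_right hyd _
  · unfold M1
    have e : (k + 2) ^ 3 + 1 = ((k + 2) * (k + 1) + 1) * (k + 2 + 1) := by ring
    rw [e]
    exact Dvd.dvd.mul_right (Dvd.dvd.mul_left (Dvd.dvd.mul_right hyd _) _) _
  · rintro p hp hpq rfl
    have h1 : y ∣ (k + 2) * (k + 1) := Dvd.dvd.mul_right hpq _
    have h2 := (Nat.dvd_add_right h1).1 hyd
    exact hy.one_lt.ne' (Nat.dvd_one.1 h2)

theorem m3_x {q x : ℕ} (hq : 2 ≤ q) (hx : x.Prime) (h : x ∣ MG q 3) (h1 : ¬ x ∣ M1 q 3) :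
    x ∣ q ^ 3 - 1 ∧ x ∣ q ^ 4 + q ^ 2 + 1 := by
  obtain ⟨h2, -⟩ := td_one (le_refl 3) hx h h1
  refine ⟨h2, ?_⟩
  obtain ⟨k, rfl⟩ : ∃ k, q = k + 1 := ⟨q - 1, by omega⟩
  have e : (k + 1) ^ 3 - 1 = k * ((k + 1) ^ 2 + (k + 1) + 1) := by
    have : (k + 1) ^ 3 = k * ((k + 1) ^ 2 + (k + 1) + 1) + 1 := by ring
    omega
  rw [e] at h2
  rcases hx.dvd_mul.1 h2 with h3 | h3
  · exfalso
    apply h1
    unfold M1
    exact Dvd.dvd.mul_right (Dvd.dvd.mul_right (Dvd.dvd.mul_left (by simpa using h3) _) _) _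
  · have e : (k + 1) ^ 4 + (k + 1) ^ 2 + 1 = ((k + 1) ^ 2 + (k + 1) + 1) * ((k + 1) * k + 1) := by ring
    rw [e]
    exact Dvd.dvd.mul_right h3 _

/-- `PΩ₈⁻(q)` -/
theorem minus3_gf {K : Type} [Field K] [Fintype K] (a b : K)
    (hab : ∀ z₁ z₂ : K, z₁ ^ 2 + a * z₁ * z₂ + b * z₂ ^ 2 = 0 → z₁ = 0 ∧ z₂ = 0) (hR : RO8m) :
    GF (POmega K (quadFormMinus 3 K a b)) := by
  obtain ⟨p, hp⟩ := CharP.exists K
  have hpr : p.Prime := (CharP.char_is_prime_or_zero K p).resolve_right (CharP.char_ne_zero_of_finite K p)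
  have : Fact p.Prime := ⟨hpr⟩
  have hq2 : 2 ≤ Nat.card K := Finite.one_lt_card
  have hpK : p ∣ Nat.card K := char_dvd_card
  obtain ⟨d₀, c0, c1, c2⟩ := hR K a b hab
  rw [← Nat.card_eq_fintype_card] at c1 c2
  obtain ⟨d₁, e0, e1, -⟩ := minus_ch_top K (p := p) a b hab (l := 3) le_rfl
  have hpd : p ∣ d₀ := c1 p hpr hpK
  have cls1 : ∀ {r s : ℕ}, r.Prime → s.Prime → r ≠ p → s ≠ p → r ≠ s → r ∣ M1 (Nat.card K) 3 → s ∣ M1 (Nat.card K) 3 →
      Adj r s (POmega K (quadFormMinus 3 K a b)) := fun hr hs hrp hsp hrs h h' =>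
    adj_of_ch e0 hr hs hrs (e1 _ hr hrp h) (e1 _ hs hsp h')
  have mem : ∀ {x : ℕ}, x ∈ degreePrimes (POmega K (quadFormMinus 3 K a b)) → x ≠ p → x.Prime ∧
      x ∣ MG (Nat.card K) 3 := by
    intro x hx hxp
    obtain ⟨x1, x2⟩ := dvd_card_of_mem hx
    exact ⟨x1, minus_prod K (p := p) (l := 3) a b hab x1 hxp x2⟩
  have cls2 : ∀ {r s : ℕ}, r.Prime → s.Prime → r ≠ p → s ≠ p → r ≠ s → r ∣ MG (Nat.card K) 3 →
      s ∣ MG (Nat.card K) 3 → ¬ r ∣ M1 (Nat.card K) 3 → ¬ s ∣ M1 (Nat.card K) 3 →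
      Adj r s (POmega K (quadFormMinus 3 K a b)) := by
    intro r s hr hs hrp hsp hrs h h' h1 h1'
    obtain ⟨h2, -⟩ := m3_x hq2 hr h h1
    obtain ⟨h2', -⟩ := m3_x hq2 hs h' h1'
    by_cases hq3 : 3 ≤ Nat.card K
    · obtain ⟨d₂, f0, f1⟩ := minus_T K (p := p) a b hab hq3
      have h6 : ∀ {t : ℕ}, t ∣ Nat.card K ^ 3 - 1 → t ∣ (Nat.card K ^ 4 + 1) * (Nat.card K ^ 6 - 1) := fun ht =>
        Dvd.dvd.mul_left (ht.trans (pow_sub_one_dvd _ ⟨2, by norm_num⟩)) _
      exact adj_of_ch f0 hr hs hrs (f1 _ hr hrp (h6 h2)) (f1 _ hs hsp (h6 h2'))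
    · exfalso
      have hq : Nat.card K = 2 := by omega
      rw [hq] at h2 h2'
      have h7 : ∀ {t : ℕ}, t.Prime → t ∣ 2 ^ 3 - 1 → t = 7 := fun ht h =>
        (Nat.prime_dvd_prime_iff_eq ht (by norm_num)).1 (by norm_num at h; exact h)
      exact hrs ((h7 hr h2).trans (h7 hs h2').symm)
  have px : ∀ {x : ℕ}, x.Prime → x ≠ p → x ∣ MG (Nat.card K) 3 → ¬ x ∣ M1 (Nat.card K) 3 →
      Adj p x (POmega K (quadFormMinus 3 K a b)) := by
    intro x hx hxp h h1
    exact adj_of_ch c0 hpr hx hxp.symm hpd (c2 x hx (m3_x hq2 hx h h1).2)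
  obtain ⟨y, hy, y1, y2, y3⟩ := m3_y hq2
  have hyp : y ≠ p := y3 p hpr hpK
  have py : Adj p y (POmega K (quadFormMinus 3 K a b)) := adj_of_ch c0 hpr hy hyp.symm hpd (c2 y hy y1)
  refine ⟨?_, ?_, ?_⟩
  · refine conn_of (adj_right py) fun x hx hxy => ?_
    by_cases hxp : x = p
    · rw [hxp]; exact Or.inl py
    · obtain ⟨x1, x2⟩ := mem hx hxp
      by_cases h1 : x ∣ M1 (Nat.card K) 3
      · exact Or.inl (cls1 x1 hy hxp hyp hxy h1 y2)
      · exact Or.inr ⟨p, adj_symm (px x1 hxp x2 h1), Or.inr py⟩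
  · have two : ∀ {r s : ℕ}, r ∈ degreePrimes (POmega K (quadFormMinus 3 K a b)) →
        s ∈ degreePrimes (POmega K (quadFormMinus 3 K a b)) → r ≠ s →
        Adj p r (POmega K (quadFormMinus 3 K a b)) ∨ Adj p s (POmega K (quadFormMinus 3 K a b)) ∨
        Adj r s (POmega K (quadFormMinus 3 K a b)) ∨ r = p ∨ s = p := by
      intro r s hr hs hrs
      by_cases r0 : r = p
      · exact Or.inr (Or.inr (Or.inr (Or.inl r0)))
      by_cases s0 : s = p
      · exact Or.inr (Or.inr (Or.inr (Or.inr s0)))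
      obtain ⟨r1, r2⟩ := mem hr r0
      obtain ⟨s1, s2⟩ := mem hs s0
      by_cases h1 : r ∣ M1 (Nat.card K) 3
      · by_cases h2 : s ∣ M1 (Nat.card K) 3
        · exact Or.inr (Or.inr (Or.inl (cls1 r1 s1 r0 s0 hrs h1 h2)))
        · exact Or.inr (Or.inl (px s1 s0 s2 h2))
      · exact Or.inl (px r1 r0 r2 h1)
    intro x hx y hy z hz hxy hyz hxz
    by_cases x0 : x = p
    · rcases two hy hz hyz with h | h | h | h | h
      · rw [x0]; exact Or.inl h
      · rw [x0]; exact Or.inr (Or.inr h)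
      · exact Or.inr (Or.inl h)
      · exact absurd (x0.trans h.symm) hxy
      · exact absurd (x0.trans h.symm) hxz
    by_cases y0 : y = p
    · rcases two hx hz hxz with h | h | h | h | h
      · rw [y0]; exact Or.inl (adj_symm h)
      · rw [y0]; exact Or.inr (Or.inl h)
      · exact Or.inr (Or.inr h)
      · exact absurd h x0
      · exact absurd (y0.trans h.symm) hyz
    by_cases z0 : z = p
    · rcases two hx hy hxy with h | h | h | h | h
      · rw [z0]; exact Or.inr (Or.inr (adj_symm h))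
      · rw [z0]; exact Or.inr (Or.inl (adj_symm h))
      · exact Or.inl h
      · exact absurd h x0
      · exact absurd h y0
    obtain ⟨x1, x2⟩ := mem hx x0
    obtain ⟨y1, y2⟩ := mem hy y0
    obtain ⟨z1, z2⟩ := mem hz z0
    by_cases h1 : x ∣ M1 (Nat.card K) 3
    · by_cases h2 : y ∣ M1 (Nat.card K) 3
      · exact Or.inl (cls1 x1 y1 x0 y0 hxy h1 h2)
      · by_cases h3 : z ∣ M1 (Nat.card K) 3
        · exact Or.inr (Or.inr (cls1 x1 z1 x0 z0 hxz h1 h3))
        · exact Or.inr (Or.inl (cls2 y1 z1 y0 z0 hyz y2 z2 h2 h3))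
    · by_cases h2 : y ∣ M1 (Nat.card K) 3
      · by_cases h3 : z ∣ M1 (Nat.card K) 3
        · exact Or.inr (Or.inl (cls1 y1 z1 y0 z0 hyz h2 h3))
        · exact Or.inr (Or.inr (cls2 x1 z1 x0 z0 hxz x2 z2 h1 h3))
      · exact Or.inl (cls2 x1 y1 x0 y0 hxy x2 y2 h1 h2)
  · exact tri_of_top (char_dvd_card (K := K)) hq2 hpr e0 e1 (fun _ => M1_idx (i := 1) le_rfl (by norm_num))
      (fun h => by rw [h]; exact M1_three le_rfl) (fun h => by rw [h]; exact M1_two le_rfl)

/-- **`PΩ⁻_{2m}(q)`** -/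
theorem gf_omega_minus (S : Type u) [Group S] [Finite S] (h : IsPOmegaMinus S) (hs : IsSimpleGroup S) (hR : RO8m) :
    GF S := by
  obtain ⟨F, _, _, m, a, b, hm, hab, ⟨e⟩⟩ := h
  obtain ⟨l, rfl⟩ : ∃ l, m = l + 1 := ⟨m - 1, by omega⟩
  change S ≃* POmega F (quadFormMinus l F a b) at e
  by_cases hl3 : l = 3
  · subst hl3
    exact (minus3_gf a b hab hR).congr e
  obtain ⟨p, hp⟩ := CharP.exists F
  have hpr : p.Prime := (CharP.char_is_prime_or_zero F p).resolve_right (CharP.char_ne_zero_of_finite F p)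
  have : Fact p.Prime := ⟨hpr⟩
  have : Nontrivial (POmega F (quadFormMinus l F a b)) := e.symm.toEquiv.nontrivial
  have : IsSimpleGroup (POmega F (quadFormMinus l F a b)) :=
    IsSimpleGroup.isSimpleGroup_of_surjective e.toMonoidHom e.surjective
  have hfin : Finite (POmega F (quadFormMinus l F a b)) := Finite.of_equiv S e.toEquiv
  have hq2 : 2 ≤ Nat.card F := Finite.one_lt_card
  have hnp : Np p (POmega F (quadFormMinus l F a b)) := fun r s hr hs hrp hsp hrs hd hd' =>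
    (np_minus F (p := p) a b hab (by omega) hr hs hrp hsp hrs hd hd' (fun h => absurd h hl3)).resolve_right
      fun h => hl3 h.1
  obtain ⟨d, hd, hd', -⟩ := minus_ch_top F (p := p) a b hab (l := l) (by omega)
  have htri := tri_of_top (char_dvd_card (K := F)) hq2 hpr hd hd' (fun _ => M1_idx (i := 1) le_rfl (by omega))
    (fun h => by rw [h]; exact M1_three (by omega)) (fun h => by rw [h]; exact M1_two (by omega))
  refine GF.congr e (hnp.gf ?_ htri)
  obtain ⟨x, y, -, h4, -, -⟩ := htri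
  exact edge_of_hasCG inferInstance (not_comm_of_adj h4) hpr (MulEquiv.refl _)
    (H396.CommTab.hasCG_PO_minus a b hab (by omega))

/-! ### `4` divides a degree, `q` odd -/

/-- **(Four)** -/
theorem four_psp (S : Type u) [Group S] (F : Type) [Field F] [Fintype F] {m : ℕ} (hm : 2 ≤ m) (ho : Odd (Fintype.card F))
    (e : S ≃* PSp m F) : H33.IM 4 S := by
  obtain ⟨p, hp⟩ := CharP.exists F
  have hpr : p.Prime := (CharP.char_is_prime_or_zero F p).resolve_right (CharP.char_ne_zero_of_finite F p)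
  have : Fact p.Prime := ⟨hpr⟩
  have ho' : Odd (Nat.card F) := by rwa [Nat.card_eq_fintype_card]
  have hq2 : 2 ≤ Nat.card F := Finite.one_lt_card
  rw [H33.IM.congr e]
  by_cases h43 : m = 2 ∧ Fintype.card F = 3
  · obtain ⟨rfl, hF⟩ := h43
    obtain ⟨χ₁, -, h1, -, h4, -⟩ := H113.PSU.Left43.sp43 (F := F) hF
    have h20 : Ch (PSp 2 F) 20 := ⟨χ₁, h1, by rw [h4]; norm_num⟩
    exact h20.im (by norm_num)
  · have hq3 : 3 ≤ Fintype.card F := by
      rw [Nat.card_eq_fintype_card] at hq2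
      rcases ho with ⟨j, hj⟩; omega
    have h4 : m = 2 → 4 ≤ Nat.card F := fun h => by
      rw [Nat.card_eq_fintype_card]
      by_contra h'
      exact h43 ⟨h, by omega⟩
    obtain ⟨c, hc⟩ := exists_cus_sq F rfl m (by omega) (fun h => by
      rw [Nat.card_eq_fintype_card] at h; omega) (fun h => by
      by_contra h'
      have := h4 (by omega)
      omega) (fun h => by rw [Nat.card_eq_fintype_card] at h; omega)
    obtain ⟨χ, hχ, hχ1⟩ := psp_char (k := m) (n := 0) hc (one_pow 2) (neg_one_sq)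
    obtain ⟨t, ht⟩ := psp_dvd_top F (p := p) (m := m) (by omega)
    have hp2 : p ≠ 2 := char_ne_two_of_odd (K := F) ho'
    refine Ch.im (d := dg (CForm.spF F (m + 0)) m) ⟨χ, hχ, hχ1⟩ ?_
    refine Dvd.dvd.trans (by norm_num : 4 ∣ 2 ^ 3) (prime_pow_dvd Nat.prime_two hpr hp2.symm (Dvd.dvd.trans ?_ ht))
    exact Dvd.dvd.mul_left ((two_pow_sq ho').trans (Finset.dvd_prod_of_mem (fun i => Nat.card F ^ (2 * (i + 1)) - 1)
      (show 0 ∈ Finset.range (m - 1) from Finset.mem_range.2 (by omega)))) _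

theorem four_omega_odd (S : Type u) [Group S] (h : IsPOmegaOdd S) : H33.IM 4 S := by
  obtain ⟨F, _, _, m, hm, ho, ⟨e⟩⟩ := h
  obtain ⟨p, hp⟩ := CharP.exists F
  have hpr : p.Prime := (CharP.char_is_prime_or_zero F p).resolve_right (CharP.char_ne_zero_of_finite F p)
  have : Fact p.Prime := ⟨hpr⟩
  obtain ⟨d, hd, -, h16⟩ := odd_ch_top F (p := p) (m := m) (by rwa [Nat.card_eq_fintype_card]) hm
  rw [H33.IM.congr e]
  exact hd.im (Dvd.dvd.trans (by norm_num) h16)

theorem four_omega_plus (S : Type u) [Group S] (F : Type) [Field F] [Fintype F] {m : ℕ} (hm : 4 ≤ m)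
    (ho : Odd (Fintype.card F)) (e : S ≃* POmega F (quadFormPlus m F)) : H33.IM 4 S := by
  obtain ⟨p, hp⟩ := CharP.exists F
  have hpr : p.Prime := (CharP.char_is_prime_or_zero F p).resolve_right (CharP.char_ne_zero_of_finite F p)
  have : Fact p.Prime := ⟨hpr⟩
  obtain ⟨d, hd, -, h16⟩ := plus_ch_top F (p := p) (m := m) hm
  rw [H33.IM.congr e]
  exact hd.im (Dvd.dvd.trans (by norm_num) (h16 (by rwa [Nat.card_eq_fintype_card])))

theorem four_omega_minus (S : Type u) [Group S] (F : Type) [Field F] [Fintype F] {l : ℕ} (hl : 3 ≤ l) (a b : F)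
    (hab : ∀ z₁ z₂ : F, z₁ ^ 2 + a * z₁ * z₂ + b * z₂ ^ 2 = 0 → z₁ = 0 ∧ z₂ = 0)
    (ho : Odd (Fintype.card F)) (e : S ≃* POmega F (quadFormMinus l F a b)) : H33.IM 4 S := by
  obtain ⟨p, hp⟩ := CharP.exists F
  have hpr : p.Prime := (CharP.char_is_prime_or_zero F p).resolve_right (CharP.char_ne_zero_of_finite F p)
  have : Fact p.Prime := ⟨hpr⟩
  obtain ⟨d, hd, -, h4⟩ := minus_ch_top F (p := p) a b hab (l := l) hl
  rw [H33.IM.congr e]
  exact hd.im (h4 (by rwa [Nat.card_eq_fintype_card]))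

end Cfsg.Agent.H477.HC
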