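import Cfsg.Agent.H477.HC.Unip

/-!
# The parabolic subgroup of a frame (hub H5, helper477)

`Frm.Us` : the unipotent radical; `Frm.mem_big` : the big cell; `Frm.mat` : the matrix on `⟨e⟩`.
-/

set_option autoImplicit false

open Cfsg

namespace Cfsg.Agent.H477.HC

open Module Cfsg.Agent.H53.HC

universe u v w

namespace CForm

variable {K : Type u} [Field K] {V : Type v} [AddCommGroup V] [Module K V] {F : CForm K V}
  {X : Type w} [AddCommGroup X] [Module K X] {F' : CForm K X} {k : ℕ} {e f : Fin k → V} {j : X →ₗ[K] V}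

theorem inv_apply' (g : F.iso) (v : V) : ((g⁻¹ : F.iso) : V ≃ₗ[K] V) ((g : V ≃ₗ[K] V) v) = v :=
  (g : V ≃ₗ[K] V).symm_apply_apply v

theorem apply_inv' (g : F.iso) (v : V) : (g : V ≃ₗ[K] V) (((g⁻¹ : F.iso) : V ≃ₗ[K] V) v) = v :=
  (g : V ≃ₗ[K] V).apply_symm_apply v

theorem mul_apply' (g g' : F.iso) (v : V) : ((g * g' : F.iso) : V ≃ₗ[K] V) v = (g : V ≃ₗ[K] V) ((g' : V ≃ₗ[K] V) v) := rfl

theorem B_inv (g : F.iso) (u v : V) : F.B (((g⁻¹ : F.iso) : V ≃ₗ[K] V) u) v = F.B u ((g : V ≃ₗ[K] V) v) := by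
  rw [← F.iso_B g, apply_inv']

theorem B_inv_right (g : F.iso) (u v : V) : F.B u (((g⁻¹ : F.iso) : V ≃ₗ[K] V) v) = F.B ((g : V ≃ₗ[K] V) u) v := by
  rw [← F.iso_B g, apply_inv']

/-- elements of the parabolic -/
theorem mem_par [FiniteDimensional K V] (e : Fin k → V) (g : F.iso) :
    g ∈ stabW F.iso.subtype (Submodule.span K (Set.range e)) ↔
      ∀ i, (g : V ≃ₗ[K] V) (e i) ∈ Submodule.span K (Set.range e) := by
  constructor
  · intro hg i
    rw [mem_stabW] at hg
    have : (g : V ≃ₗ[K] V) (e i) ∈ (Submodule.span K (Set.range e)).map (F.iso.subtype g : V →ₗ[K] V) :=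
      ⟨e i, Submodule.subset_span ⟨i, rfl⟩, rfl⟩
    rwa [hg] at this
  · intro hg
    refine map_eq_of_le F.iso.subtype fun w hw => ?_
    have : Submodule.span K (Set.range e) ≤
        (Submodule.span K (Set.range e)).comap (F.iso.subtype g : V →ₗ[K] V) := by
      rw [Submodule.span_le]
      rintro _ ⟨i, rfl⟩
      exact hg i
    exact this hw

theorem par_mem [FiniteDimensional K V] {g : F.iso} (hg : g ∈ stabW F.iso.subtype (Submodule.span K (Set.range e)))
    {v : V} (hv : v ∈ Submodule.span K (Set.range e)) : (g : V ≃ₗ[K] V) v ∈ Submodule.span K (Set.range e) := by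
  rw [mem_stabW] at hg
  have : (g : V ≃ₗ[K] V) v ∈ (Submodule.span K (Set.range e)).map (F.iso.subtype g : V →ₗ[K] V) := ⟨v, hv, rfl⟩
  rwa [hg] at this

theorem Frm.tse (h : Frm F F' e f j) : F.TS (Submodule.span K (Set.range e)) := F.TS_span h.hee h.hQe

theorem Frm.tsf (h : Frm F F' e f j) : F.TS (Submodule.span K (Set.range f)) := F.TS_span h.hff h.hQf

theorem Frm.perp_par [FiniteDimensional K V] (_ : Frm F F' e f j) {g : F.iso}
    (hg : g ∈ stabW F.iso.subtype (Submodule.span K (Set.range e))) {v : V} (hv : ∀ i, F.B v (e i) = 0) (i : Fin k) :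
    F.B ((g : V ≃ₗ[K] V) v) (e i) = 0 := by
  have h1 : ((g⁻¹ : F.iso) : V ≃ₗ[K] V) (e i) ∈ Submodule.span K (Set.range e) :=
    par_mem (Subgroup.inv_mem _ hg) (Submodule.subset_span ⟨i, rfl⟩)
  rw [← B_inv_right]
  obtain ⟨c, hc⟩ := (Submodule.mem_span_range_iff_exists_fun K).1 h1
  rw [← hc, B_sum_right]
  exact Finset.sum_eq_zero fun l _ => by rw [hv, mul_zero]

/-- the unipotent radical -/
def Us (F : CForm K V) (e : Fin k → V) : Subgroup F.iso where
  carrier := {g | (∀ i, (g : V ≃ₗ[K] V) (e i) = e i) ∧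
    ∀ v, (∀ i, F.B v (e i) = 0) → (g : V ≃ₗ[K] V) v - v ∈ Submodule.span K (Set.range e)}
  one_mem' := ⟨fun _ => rfl, fun v _ => by
    change v - v ∈ _
    rw [sub_self]; exact Submodule.zero_mem _⟩
  mul_mem' := by
    rintro a b ⟨ha, ha'⟩ ⟨hb, hb'⟩
    refine ⟨fun i => by rw [mul_apply', hb, ha], fun v hv => ?_⟩
    have h1 := hb' v hv
    have h2 : ∀ i, F.B ((b : V ≃ₗ[K] V) v) (e i) = 0 := fun i => by
      have : F.B ((b : V ≃ₗ[K] V) v) ((b : V ≃ₗ[K] V) (e i)) = F.B v (e i) := F.iso_B b v (e i)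
      rw [hb] at this
      rw [this, hv]
    have h3 := ha' _ h2
    rw [mul_apply']
    have : (a : V ≃ₗ[K] V) ((b : V ≃ₗ[K] V) v) - v =
        ((a : V ≃ₗ[K] V) ((b : V ≃ₗ[K] V) v) - (b : V ≃ₗ[K] V) v) + ((b : V ≃ₗ[K] V) v - v) := by abel
    rw [this]
    exact Submodule.add_mem _ h3 h1
  inv_mem' := by
    rintro a ⟨ha, ha'⟩
    have h0 : ∀ i, ((a⁻¹ : F.iso) : V ≃ₗ[K] V) (e i) = e i := fun i => by
      have := inv_apply' a (e i)
      rwa [ha] at this
    refine ⟨h0, fun v hv => ?_⟩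
    have h2 : ∀ i, F.B (((a⁻¹ : F.iso) : V ≃ₗ[K] V) v) (e i) = 0 := fun i => by
      rw [B_inv, ha, hv]
    have h3 := ha' _ h2
    rw [apply_inv'] at h3
    have : ((a⁻¹ : F.iso) : V ≃ₗ[K] V) v - v = -(v - ((a⁻¹ : F.iso) : V ≃ₗ[K] V) v) := by abel
    rw [this]
    exact Submodule.neg_mem _ h3

theorem Us_e {g : F.iso} (hg : g ∈ Us F e) (i : Fin k) : (g : V ≃ₗ[K] V) (e i) = e i := hg.1 i

theorem Us_span {g : F.iso} (hg : g ∈ Us F e) {v : V} (hv : v ∈ Submodule.span K (Set.range e)) :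
    (g : V ≃ₗ[K] V) v = v := by
  obtain ⟨c, rfl⟩ := (Submodule.mem_span_range_iff_exists_fun K).1 hv
  rw [map_sum]
  exact Finset.sum_congr rfl fun i _ => by rw [map_smul, hg.1]

theorem Us_le [FiniteDimensional K V] : Us F e ≤ stabW F.iso.subtype (Submodule.span K (Set.range e)) := fun g hg =>
  (mem_par e g).2 fun i => by rw [Us_e hg]; exact Submodule.subset_span ⟨i, rfl⟩

theorem Frm.Us_nor [FiniteDimensional K V] (h : Frm F F' e f j) {p : F.iso}
    (hp : p ∈ stabW F.iso.subtype (Submodule.span K (Set.range e))) {u : F.iso} (hu : u ∈ Us F e) :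
    p * u * p⁻¹ ∈ Us F e := by
  have hp' := Subgroup.inv_mem _ hp
  refine ⟨fun i => ?_, fun v hv => ?_⟩
  · rw [mul_apply', mul_apply', Us_span hu (par_mem hp' (Submodule.subset_span ⟨i, rfl⟩)), apply_inv']
  · have h1 := hu.2 (((p⁻¹ : F.iso) : V ≃ₗ[K] V) v) (h.perp_par hp' hv)
    have h2 := par_mem hp h1
    rw [map_sub, apply_inv'] at h2
    exact h2

/-- the identity of the unipotent radical -/
theorem Frm.Us_eq_one [FiniteDimensional K V] (h : Frm F F' e f j) {u : F.iso} (hu : u ∈ Us F e)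
    (hf : ∀ i, (u : V ≃ₗ[K] V) (f i) ∈ Submodule.span K (Set.range f)) : u = 1 := by
  have hε := F.ε_ne
  have h1 : ∀ i, (u : V ≃ₗ[K] V) (f i) = f i := by
    intro i
    obtain ⟨c, hc⟩ := (Submodule.mem_span_range_iff_exists_fun K).1 (hf i)
    have h2 : ∀ l, c l = if i = l then 1 else 0 := by
      intro l
      have h3 : F.B ((u : V ≃ₗ[K] V) (f i)) ((u : V ≃ₗ[K] V) (e l)) = F.B (f i) (e l) := F.iso_B u _ _
      rw [Us_e hu, ← hc, B_sum_left, h.hfe] at h3
      simp only [h.hfe] at h3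
      rw [sum_deltaε c F.ε l] at h3
      by_cases hil : i = l
      · rw [if_pos hil] at h3 ⊢
        exact mul_right_cancel₀ hε (by rw [h3, one_mul])
      · rw [if_neg hil] at h3 ⊢
        exact (mul_eq_zero.1 h3).resolve_right hε
    rw [← hc, Finset.sum_eq_single i]
    · rw [h2, if_pos rfl, one_smul]
    · intro l _ hl
      rw [h2, if_neg (Ne.symm hl), zero_smul]
    · intro h; exact absurd (Finset.mem_univ _) h
  have h2 : ∀ v, (∀ i, F.B v (e i) = 0) → (∀ i, F.B v (f i) = 0) → (u : V ≃ₗ[K] V) v = v := by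
    intro v hv hv'
    obtain ⟨c, hc⟩ := (Submodule.mem_span_range_iff_exists_fun K).1 (hu.2 v hv)
    have h3 : ∀ l, c l = 0 := by
      intro l
      have h4 : F.B ((u : V ≃ₗ[K] V) v) ((u : V ≃ₗ[K] V) (f l)) = F.B v (f l) := F.iso_B u _ _
      have h5 : (u : V ≃ₗ[K] V) v = v + ∑ i, c i • e i := by rw [hc]; abel
      rw [h1, h5, F.B_add_left, hv', B_sum_left, zero_add] at h4
      simp only [h.hef] at h4
      rwa [sum_delta] at h4
    have h6 : (u : V ≃ₗ[K] V) v - v = 0 := by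
      rw [← hc]
      exact Finset.sum_eq_zero fun i _ => by rw [h3, zero_smul]
    exact sub_eq_zero.1 h6
  apply Subtype.ext
  apply LinearEquiv.ext
  intro v
  change (u : V ≃ₗ[K] V) v = v
  have e1 : v = (v - ∑ i, F.B v (f i) • e i - ∑ i, (F.ε⁻¹ * F.B v (e i)) • f i) +
      (∑ i, F.B v (f i) • e i + ∑ i, (F.ε⁻¹ * F.B v (e i)) • f i) := by abel
  have a1 : ∀ l, F.B (∑ i, F.B v (f i) • e i) (e l) = 0 := fun l => by
    rw [B_sum_left]; exact Finset.sum_eq_zero fun i _ => by rw [h.hee, mul_zero]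
  have a2 : ∀ l, F.B (∑ i, F.B v (f i) • e i) (f l) = F.B v (f l) := fun l => by
    rw [B_sum_left]; simp only [h.hef]; rw [sum_delta (fun i => F.B v (f i)) l]
  have a3 : ∀ l, F.B (∑ i, (F.ε⁻¹ * F.B v (e i)) • f i) (f l) = 0 := fun l => by
    rw [B_sum_left]; exact Finset.sum_eq_zero fun i _ => by rw [h.hff, mul_zero]
  have a4 : ∀ l, F.B (∑ i, (F.ε⁻¹ * F.B v (e i)) • f i) (e l) = F.B v (e l) := fun l => by
    rw [B_sum_left]; simp only [h.hfe]; rw [sum_deltaε (fun i => F.ε⁻¹ * F.B v (e i)) F.ε l]; field_simp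
  conv_lhs => rw [e1, map_add, h2 _ (fun i => by rw [F.B_sub_left, F.B_sub_left, a1, a4]; ring)
    (fun i => by rw [F.B_sub_left, F.B_sub_left, a2, a3]; ring), map_add, map_sum, map_sum]
  conv_rhs => rw [e1]
  congr 2
  · exact Finset.sum_congr rfl fun i _ => by rw [map_smul, Us_e hu]
  · exact Finset.sum_congr rfl fun i _ => by rw [map_smul, h1]

/-- a dual frame in an opposite subspace -/
theorem Frm.exists_dual [FiniteDimensional K V] (h : Frm F F' e f j) {W' : Submodule K V} (hW' : finrank K W' = k)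
    (h0 : Submodule.span K (Set.range e) ⊓ F.perp W' = ⊥) :
    ∃ y : Fin k → V, (∀ i, y i ∈ W') ∧ (∀ i l, F.B (e i) (y l) = if i = l then 1 else 0) ∧
      Submodule.span K (Set.range y) = W' := by
  classical
  have key : ∀ l, ∃ z ∈ W', ∀ w : Submodule.span K (Set.range e), F.B (w : V) (f l) = F.B w z := by
    intro l
    obtain ⟨z, hz, hz'⟩ := F.exists_pair (Submodule.span K (Set.range e)) W'
      ((F.lf (f l)).comp (Submodule.subtype _)) (fun w hw => by
        have : (w : V) ∈ Submodule.span K (Set.range e) ⊓ F.perp W' := ⟨w.2, hw⟩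
        rw [h0] at this
        have e0 : (w : V) = 0 := (Submodule.mem_bot K).1 this
        change F.B (w : V) (f l) = 0
        rw [e0, F.B_zero_left])
    exact ⟨z, hz, hz'⟩
  choose y hy hy' using key
  have hB : ∀ i l, F.B (e i) (y l) = if i = l then 1 else 0 := by
    intro i l
    rw [← h.hef]
    exact (hy' l ⟨e i, Submodule.subset_span ⟨i, rfl⟩⟩).symm
  refine ⟨y, hy, hB, ?_⟩
  have hli : LinearIndependent K y := by
    rw [Fintype.linearIndependent_iff]
    intro g hg i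
    have h1 : F.B (e i) (∑ l, g l • y l) = F.σ (g i) := by
      rw [B_sum_right]
      simp only [hB]
      rw [Finset.sum_eq_single i]
      · rw [if_pos rfl, mul_one]
      · intro l _ hl
        rw [if_neg (Ne.symm hl), mul_zero]
      · intro h; exact absurd (Finset.mem_univ _) h
    rw [hg, F.B_zero_right] at h1
    have := congrArg F.σ h1
    rw [F.σσ, map_zero] at this
    exact this.symm
  apply Submodule.eq_of_le_of_finrank_eq
  · rw [Submodule.span_le]
    rintro _ ⟨i, rfl⟩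
    exact hy i
  · rw [finrank_span_eq_card hli, Fintype.card_fin, hW']

theorem Frm.finrank_e (h : Frm F F' e f j) : finrank K (Submodule.span K (Set.range e)) = k :=
  (F.frame_mem_Om h.hee h.hef h.hQe).2

/-- **the big cell** -/
theorem Frm.mem_big [FiniteDimensional K V] (h : Frm F F' e f j) {w : F.iso} (hw : ∀ i, (w : V ≃ₗ[K] V) (e i) = f i)
    {x : F.iso} (hx : Submodule.span K (Set.range e) ⊓
      F.perp ((Submodule.span K (Set.range e)).map (F.iso.subtype x : V →ₗ[K] V)) = ⊥) :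
    ∃ u ∈ Us F e, ∃ p ∈ stabW F.iso.subtype (Submodule.span K (Set.range e)), x = u * w * p := by
  obtain ⟨y, hy, hey, hspan⟩ := h.exists_dual
    ((LinearEquiv.finrank_map_eq (x : V ≃ₗ[K] V) _).trans h.finrank_e) hx
  have ts := h.tse.map x
  obtain ⟨u, hu1, hu2, hu3⟩ := h.exists_unip hey (fun i l => ts.2 _ (hy i) _ (hy l)) (fun i => ts.1 _ (hy i))
  have hu : u ∈ Us F e := by
    refine ⟨hu1, fun v hv => ?_⟩
    rw [hu3 v hv]
    have : v - ∑ i, F.B v (y i - f i) • e i - v = ∑ i, (-F.B v (y i - f i)) • e i := by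
      simp only [neg_smul, Finset.sum_neg_distrib]; abel
    rw [this]
    exact (Submodule.mem_span_range_iff_exists_fun K).2 ⟨_, rfl⟩
  refine ⟨u, hu, w⁻¹ * u⁻¹ * x, (mem_par e _).2 fun i => ?_, by group⟩
  have h1 : (x : V ≃ₗ[K] V) (e i) ∈ Submodule.span K (Set.range y) := by
    rw [hspan]
    exact ⟨e i, Submodule.subset_span ⟨i, rfl⟩, rfl⟩
  obtain ⟨c, hc⟩ := (Submodule.mem_span_range_iff_exists_fun K).1 h1
  have h2 : ((w⁻¹ * u⁻¹ * x : F.iso) : V ≃ₗ[K] V) (e i) = ∑ l, c l • e l := by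
    rw [mul_apply', mul_apply', ← hc, map_sum, map_sum]
    refine Finset.sum_congr rfl fun l _ => ?_
    rw [map_smul, map_smul, ← hu2, inv_apply', ← hw, inv_apply']
  rw [h2]
  exact (Submodule.mem_span_range_iff_exists_fun K).2 ⟨_, rfl⟩

/-- the matrix entries of `p` for `x = u w p` -/
theorem Frm.mat_big (_ : Frm F F' e f j) {w : F.iso}
    (hw : ∀ i, (w : V ≃ₗ[K] V) (f i) = F.ε • e i) {x u p : F.iso} (hu : u ∈ Us F e) (hx : x = u * w * p) (i l : Fin k) :
    F.B ((p : V ≃ₗ[K] V) (e l)) (f i) = F.ε⁻¹ * F.B ((x : V ≃ₗ[K] V) (e l)) (e i) := by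
  have e1 : p = w⁻¹ * (u⁻¹ * x) := by rw [hx]; group
  rw [e1, mul_apply', B_inv, hw, F.B_smul_right, F.σε, mul_apply', B_inv, Us_e hu]

/-- coordinates in the parabolic -/
theorem Frm.par_apply [FiniteDimensional K V] (h : Frm F F' e f j) {p : F.iso}
    (hp : p ∈ stabW F.iso.subtype (Submodule.span K (Set.range e))) (l : Fin k) :
    (p : V ≃ₗ[K] V) (e l) = ∑ i, F.B ((p : V ≃ₗ[K] V) (e l)) (f i) • e i := by
  obtain ⟨c, hc⟩ := (Submodule.mem_span_range_iff_exists_fun K).1 (par_mem hp (Submodule.subset_span ⟨l, rfl⟩))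
  have h1 : ∀ i, F.B ((p : V ≃ₗ[K] V) (e l)) (f i) = c i := by
    intro i
    rw [← hc, B_sum_left]
    simp only [h.hef]
    rw [sum_delta]
  simp only [h1]
  exact hc.symm

end CForm

end Cfsg.Agent.H477.HC
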