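import Cfsg.Agent.H477.HC.Hecke
import Cfsg.Agent.H477.HC.Levi
import Cfsg.Agent.H477.HC.FactsC
import Cfsg.Agent.LieClassical.FieldTransfer

/-!
# The character of degree `210` of `Sp₆(2)` (hub H5, helper477)

The monomial character of degree `315` induced from the stabiliser of a totally isotropic plane `W` and the sign
character of `GL(W)`; `T² = 8 T + 128`.
-/

set_option autoImplicit false
set_option linter.unusedSectionVars false
set_option linter.unusedSimpArgs false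

open scoped ComplexConjugate
open Cfsg

namespace Cfsg.Agent.H477.HC

open Cfsg.Agent.OddOrderCharacters.Clifford Cfsg.Agent.Characters Module Cfsg.Agent.H53.HC

universe u v w

/-- the sign of a `2 × 2` matrix over `F₂`, `0` if it is singular -/
def sg (a b c d : ZMod 2) : ℤ := if a * d + b * c = 0 then 0 else if a + d = 1 then 1 else if b = 0 ∧ c = 0 then 1 else -1

theorem sg_mul : ∀ a b c d a' b' c' d' : ZMod 2,
    sg (a * a' + b * c') (a * b' + b * d') (c * a' + d * c') (c * b' + d * d') = sg a b c d * sg a' b' c' d' := by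
  decide +kernel

theorem sg_inv : ∀ a b c d a' b' c' d' : ZMod 2, a * a' + b * c' = 1 → a * b' + b * d' = 0 → c * a' + d * c' = 0 →
    c * b' + d * d' = 1 → sg a' b' c' d' = sg a b c d ∧ sg a' c' b' d' = sg a b c d := by
  decide +kernel

theorem sg_invol : ∀ a b c d : ZMod 2, a * a + b * c = 1 → a * b + b * d = 0 → c * a + d * c = 0 →
    c * b + d * d = 1 → ¬ (a = 1 ∧ b = 0 ∧ c = 0 ∧ d = 1) → sg a b c d = -1 := by
  decide +kernel

theorem sg_opp : ∀ a b c d : ZMod 2, sg a b c d ≠ 0 → ∀ x y : ZMod 2, x * a + y * c = 0 → x * b + y * d = 0 →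
    x = 0 ∧ y = 0 := by
  decide +kernel

theorem sg_unit : ∀ a b c d a' b' c' d' : ZMod 2, a * a' + b * c' = 1 → a * b' + b * d' = 0 → c * a' + d * c' = 0 →
    c * b' + d * d' = 1 → sg a b c d * sg a b c d = 1 := by
  decide +kernel

namespace CForm

variable {V : Type v} [AddCommGroup V] [Module (ZMod 2) V] [FiniteDimensional (ZMod 2) V] [Finite V]
  {F : CForm (ZMod 2) V} {X : Type w} [AddCommGroup X] [Module (ZMod 2) X] {F' : CForm (ZMod 2) X}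
  {e f : Fin 2 → V} {j : X →ₗ[ZMod 2] V}

theorem σ_two (x : ZMod 2) : F.σ x = x := by
  have : F.σ = RingHom.id _ := Subsingleton.elim _ _
  rw [this]
  rfl

theorem ε_two : F.ε = 1 := by
  have h : ∀ x : ZMod 2, x ≠ 0 → x = 1 := by decide
  exact h _ F.ε_ne

/-- the parabolic -/
abbrev Pr (F : CForm (ZMod 2) V) (e : Fin 2 → V) : Subgroup F.iso :=
  stabW F.iso.subtype (Submodule.span (ZMod 2) (Set.range e))

theorem Frm.apply_e (h : Frm F F' e f j) (p : Pr F e) (l : Fin 2) : ((p : F.iso) : V ≃ₗ[ZMod 2] V) (e l) =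
    F.B (((p : F.iso) : V ≃ₗ[ZMod 2] V) (e l)) (f 0) • e 0 + F.B (((p : F.iso) : V ≃ₗ[ZMod 2] V) (e l)) (f 1) • e 1 := by
  have := h.par_apply p.2 l
  rwa [Fin.sum_univ_two] at this

/-- the entries -/
def Frm.A (_ : Frm F F' e f j) (g : F.iso) (i l : Fin 2) : ZMod 2 := F.B ((g : V ≃ₗ[ZMod 2] V) (e l)) (f i)

theorem Frm.A_mul (h : Frm F F' e f j) (g : F.iso) (p : Pr F e) (i l : Fin 2) :
    h.A (g * p) i l = h.A g i 0 * h.A p 0 l + h.A g i 1 * h.A p 1 l := by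
  change F.B (((g * p : F.iso) : V ≃ₗ[ZMod 2] V) (e l)) (f i) = F.B ((g : V ≃ₗ[ZMod 2] V) (e 0)) (f i) *
    F.B (((p : F.iso) : V ≃ₗ[ZMod 2] V) (e l)) (f 0) + F.B ((g : V ≃ₗ[ZMod 2] V) (e 1)) (f i) *
    F.B (((p : F.iso) : V ≃ₗ[ZMod 2] V) (e l)) (f 1)
  have e1 := h.apply_e p l
  rw [mul_apply']
  conv_lhs => rw [e1, map_add, map_smul, map_smul, F.B_add_left, F.B_smul_left, F.B_smul_left]
  ring

theorem Frm.A_one (h : Frm F F' e f j) (i l : Fin 2) : h.A 1 i l = if l = i then 1 else 0 := h.hef l i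

/-- the sign -/
def Frm.sgn (h : Frm F F' e f j) (g : F.iso) : ℤ := sg (h.A g 0 0) (h.A g 0 1) (h.A g 1 0) (h.A g 1 1)

theorem Frm.sgn_mul (h : Frm F F' e f j) (g : F.iso) (p : Pr F e) : h.sgn (g * p) = h.sgn g * h.sgn p := by
  unfold Frm.sgn
  rw [h.A_mul, h.A_mul, h.A_mul, h.A_mul, sg_mul]

theorem Frm.sgn_one (h : Frm F F' e f j) : h.sgn 1 = 1 := by
  unfold Frm.sgn
  rw [h.A_one, h.A_one, h.A_one, h.A_one]
  decide

theorem Frm.inv_rel (h : Frm F F' e f j) (p : Pr F e) (i l : Fin 2) :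
    h.A p i 0 * h.A (p : F.iso)⁻¹ 0 l + h.A p i 1 * h.A (p : F.iso)⁻¹ 1 l = if l = i then 1 else 0 := by
  rw [← h.A_one, ← mul_inv_cancel (p : F.iso)]
  exact (h.A_mul (p : F.iso) p⁻¹ i l).symm

theorem Frm.sgn_inv (h : Frm F F' e f j) (p : Pr F e) : h.sgn (p : F.iso)⁻¹ = h.sgn p :=
  (sg_inv _ _ _ _ _ _ _ _ (h.inv_rel p 0 0) (h.inv_rel p 0 1) (h.inv_rel p 1 0) (h.inv_rel p 1 1)).1

theorem Frm.sgn_inv' (h : Frm F F' e f j) (p : Pr F e) :
    sg (h.A (p : F.iso)⁻¹ 0 0) (h.A (p : F.iso)⁻¹ 1 0) (h.A (p : F.iso)⁻¹ 0 1) (h.A (p : F.iso)⁻¹ 1 1) = h.sgn p :=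
  (sg_inv _ _ _ _ _ _ _ _ (h.inv_rel p 0 0) (h.inv_rel p 0 1) (h.inv_rel p 1 0) (h.inv_rel p 1 1)).2

theorem Frm.sgn_sq (h : Frm F F' e f j) (p : Pr F e) : h.sgn p * h.sgn p = 1 :=
  sg_unit _ _ _ _ _ _ _ _ (h.inv_rel p 0 0) (h.inv_rel p 0 1) (h.inv_rel p 1 0) (h.inv_rel p 1 1)

/-- the sign representation -/
noncomputable def Frm.rho (h : Frm F F' e f j) : Representation ℂ (Pr F e) ℂ where
  toFun p := ((h.sgn p : ℤ) : ℂ) • (1 : ℂ →ₗ[ℂ] ℂ)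
  map_one' := by
    change ((h.sgn 1 : ℤ) : ℂ) • (1 : ℂ →ₗ[ℂ] ℂ) = 1
    rw [h.sgn_one, Int.cast_one, one_smul]
  map_mul' p p' := by
    change ((h.sgn ((p : F.iso) * p') : ℤ) : ℂ) • (1 : ℂ →ₗ[ℂ] ℂ) = _
    rw [h.sgn_mul, smul_mul_smul_comm, one_mul, Int.cast_mul]

theorem Frm.rho_apply (h : Frm F F' e f j) (p : Pr F e) : h.rho p = ((h.sgn p : ℤ) : ℂ) • (1 : ℂ →ₗ[ℂ] ℂ) := rfl

theorem Frm.rho_char (h : Frm F F' e f j) (p : Pr F e) : h.rho.character p = ((h.sgn p : ℤ) : ℂ) := by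
  unfold Representation.character
  rw [h.rho_apply, map_smul, smul_eq_mul]
  simp

/-- the opposite frame condition from the sign -/
theorem Frm.opp_of_sg (_ : Frm F F' e f j) {x : F.iso}
    (hx : sg (F.B ((x : V ≃ₗ[ZMod 2] V) (e 0)) (e 0)) (F.B ((x : V ≃ₗ[ZMod 2] V) (e 1)) (e 0))
      (F.B ((x : V ≃ₗ[ZMod 2] V) (e 0)) (e 1)) (F.B ((x : V ≃ₗ[ZMod 2] V) (e 1)) (e 1)) ≠ 0) :
    Submodule.span (ZMod 2) (Set.range e) ⊓
      F.perp ((Submodule.span (ZMod 2) (Set.range e)).map (F.iso.subtype x : V →ₗ[ZMod 2] V)) = ⊥ := by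
  rw [Submodule.eq_bot_iff]
  rintro v ⟨hv, hv'⟩
  obtain ⟨c, rfl⟩ := (Submodule.mem_span_range_iff_exists_fun (ZMod 2)).1 hv
  have h1 : ∀ l, F.B ((x : V ≃ₗ[ZMod 2] V) (e l)) (∑ i, c i • e i) = 0 := fun l =>
    F.B_eq_zero (hv' _ ⟨e l, Submodule.subset_span ⟨l, rfl⟩, rfl⟩)
  have h2 : ∀ l, c 0 * F.B ((x : V ≃ₗ[ZMod 2] V) (e l)) (e 0) + c 1 * F.B ((x : V ≃ₗ[ZMod 2] V) (e l)) (e 1) = 0 := by
    intro l
    have := h1 l
    rwa [B_sum_right, Fin.sum_univ_two, σ_two, σ_two] at this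
  obtain ⟨h3, h4⟩ := sg_opp _ _ _ _ hx (c 0) (c 1) (h2 0) (h2 1)
  rw [Fin.sum_univ_two, h3, h4, zero_smul, zero_smul, add_zero]

/-- transvections have sign `-1` -/
theorem Frm.sgn_transv (h : Frm F F' e f j) {g : F.iso} {x₀ : V} (hx₀ : x₀ ∈ Submodule.span (ZMod 2) (Set.range e))
    (h0 : x₀ ≠ 0) (φ : Submodule.span (ZMod 2) (Set.range e) →ₗ[ZMod 2] ZMod 2) (hφ : φ ≠ 0) (hφx : φ ⟨x₀, hx₀⟩ = 0)
    (hg : ∀ w : Submodule.span (ZMod 2) (Set.range e), (g : V ≃ₗ[ZMod 2] V) w = w + φ w • x₀) :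
    g ∈ Pr F e ∧ h.sgn g = -1 := by
  have hgP : g ∈ Pr F e := (mem_par e g).2 fun i => by
    have := hg ⟨e i, Submodule.subset_span ⟨i, rfl⟩⟩
    change (g : V ≃ₗ[ZMod 2] V) (e i) = _ at this
    rw [this]
    exact Submodule.add_mem _ (Submodule.subset_span ⟨i, rfl⟩) (Submodule.smul_mem _ _ hx₀)
  refine ⟨hgP, ?_⟩
  have hgg : ∀ l, ((g * g : F.iso) : V ≃ₗ[ZMod 2] V) (e l) = e l := by
    intro l
    have h1 := hg ⟨e l, Submodule.subset_span ⟨l, rfl⟩⟩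
    change (g : V ≃ₗ[ZMod 2] V) (e l) = _ at h1
    have h2 := hg ⟨x₀, hx₀⟩
    change (g : V ≃ₗ[ZMod 2] V) x₀ = _ at h2
    rw [hφx, zero_smul, add_zero] at h2
    rw [mul_apply', h1, map_add, map_smul, h1, h2]
    change e l + _ + _ = e l
    rw [add_assoc, ← add_smul]
    have : ∀ z : ZMod 2, z + z = 0 := by decide
    rw [this, zero_smul, add_zero]
  have hA : ∀ i l, h.A g i 0 * h.A g 0 l + h.A g i 1 * h.A g 1 l = if l = i then 1 else 0 := by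
    intro i l
    rw [← h.A_mul g ⟨g, hgP⟩ i l]
    change F.B (((g * g : F.iso) : V ≃ₗ[ZMod 2] V) (e l)) (f i) = _
    rw [hgg, h.hef]
  refine sg_invol _ _ _ _ (hA 0 0) (hA 0 1) (hA 1 0) (hA 1 1) ?_
  rintro ⟨a1, a2, a3, a4⟩
  apply hφ
  have h1 : ∀ l, (g : V ≃ₗ[ZMod 2] V) (e l) = e l := by
    intro l
    have := h.apply_e ⟨g, hgP⟩ l
    change _ = h.A g 0 l • e 0 + h.A g 1 l • e 1 at this
    fin_cases l
    · change (g : V ≃ₗ[ZMod 2] V) (e 0) = e 0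
      change (g : V ≃ₗ[ZMod 2] V) (e 0) = h.A g 0 0 • e 0 + h.A g 1 0 • e 1 at this
      rw [this, a1, a3, one_smul, zero_smul, add_zero]
    · change (g : V ≃ₗ[ZMod 2] V) (e 1) = e 1
      change (g : V ≃ₗ[ZMod 2] V) (e 1) = h.A g 0 1 • e 0 + h.A g 1 1 • e 1 at this
      rw [this, a2, a4, one_smul, zero_smul, zero_add]
  have h2 : ∀ w : Submodule.span (ZMod 2) (Set.range e), (g : V ≃ₗ[ZMod 2] V) w = w := by
    rintro ⟨w, hw⟩
    obtain ⟨c, rfl⟩ := (Submodule.mem_span_range_iff_exists_fun (ZMod 2)).1 hw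
    change (g : V ≃ₗ[ZMod 2] V) (∑ i, c i • e i) = ∑ i, c i • e i
    rw [map_sum]
    exact Finset.sum_congr rfl fun i _ => by rw [map_smul, h1]
  refine LinearMap.ext fun w => ?_
  have h3 := hg w
  rw [h2 w] at h3
  have h4 : φ w • x₀ = 0 := by
    have h5 : (w : V) + φ w • x₀ = w + 0 := by rw [← h3, add_zero]
    exact add_left_cancel h5
  exact (smul_eq_zero.1 h4).resolve_right h0

/-- the vanishing -/
theorem Frm.exists_neg (h : Frm F F' e f j) {w : F.iso} (hw : ∀ i, (w : V ≃ₗ[ZMod 2] V) (e i) = f i)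
    (hno : ∀ W' ∈ F.Om 2, Submodule.span (ZMod 2) (Set.range e) ≤ F.perp W' →
      Submodule.span (ZMod 2) (Set.range e) ⊓ W' ≠ ⊥)
    {x : F.iso} (hx : x ∉ Pr F e) (hx' : ¬ ∃ u ∈ Us F e, ∃ p ∈ Pr F e, x = u * w * p) :
    ∃ v : F.iso, v ∈ Pr F e ∧ x * v * x⁻¹ ∈ Us F e ∧ h.sgn v = -1 := by
  set W₀ : Submodule (ZMod 2) V := Submodule.span (ZMod 2) (Set.range e) with hW₀
  have hOm : W₀ ∈ F.Om 2 := F.frame_mem_Om h.hee h.hef h.hQe
  set W' : Submodule (ZMod 2) V := W₀.map (F.iso.subtype x⁻¹ : V →ₗ[ZMod 2] V) with hW'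
  have hOm' : W' ∈ F.Om 2 := F.Om_map x⁻¹ W₀ hOm
  have hmemW' : ∀ v ∈ W₀, ((x⁻¹ : F.iso) : V ≃ₗ[ZMod 2] V) v ∈ W' := fun v hv => ⟨v, hv, rfl⟩
  have hxW' : ∀ v ∈ W', (x : V ≃ₗ[ZMod 2] V) v ∈ W₀ := by
    rintro _ ⟨v, hv, rfl⟩
    change (x : V ≃ₗ[ZMod 2] V) (((x⁻¹ : F.iso) : V ≃ₗ[ZMod 2] V) v) ∈ W₀
    rwa [apply_inv']
  have hne : W' ≠ W₀ := by
    intro h1
    apply hx
    have : x⁻¹ ∈ Pr F e := h1
    simpa using Subgroup.inv_mem _ this
  have hD0 : W₀ ⊓ F.perp W' ≠ ⊥ := by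
    intro h1
    have h2 := opp_symm hOm.2 hOm'.2 h1
    apply hx'
    refine h.mem_big hw ?_
    rw [Submodule.eq_bot_iff]
    rintro v ⟨hv, hv'⟩
    have h3 : ((x⁻¹ : F.iso) : V ≃ₗ[ZMod 2] V) v ∈ W' ⊓ F.perp W₀ := by
      refine ⟨hmemW' v hv, fun y hy => ?_⟩
      rw [B_inv]
      exact hv' _ ⟨y, hy, rfl⟩
    rw [h2, Submodule.mem_bot] at h3
    exact (LinearEquiv.map_eq_zero_iff _).1 h3
  -- the functional and the root element
  have key : ∃ (x₀ : V) (hx₀ : x₀ ∈ W₀) (φ : W₀ →ₗ[ZMod 2] ZMod 2) (g : F.iso), x₀ ≠ 0 ∧ φ ≠ 0 ∧ φ ⟨x₀, hx₀⟩ = 0 ∧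
      (∀ w : W₀, (g : V ≃ₗ[ZMod 2] V) w = w + φ w • x₀) ∧ (∀ w' ∈ W', (g : V ≃ₗ[ZMod 2] V) w' = w') ∧
      g ∈ F.TT W' := by
    by_cases h1 : W₀ ⊓ F.perp W' = W₀
    · have hperp : W₀ ≤ F.perp W' := inf_eq_left.1 h1
      have hI0 : W₀ ⊓ W' ≠ ⊥ := hno W' hOm' hperp
      obtain ⟨x₀, hx₀, hx0⟩ := (Submodule.ne_bot_iff _).1 hI0
      have hlt : (W₀ ⊓ W').comap W₀.subtype < ⊤ := by
        rw [lt_top_iff_ne_top]
        intro h2
        apply hne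
        symm
        apply Submodule.eq_of_le_of_finrank_eq
        · intro y hy
          have : (⟨y, hy⟩ : W₀) ∈ (W₀ ⊓ W').comap W₀.subtype := by rw [h2]; trivial
          exact this.2
        · rw [hOm.2, hOm'.2]
      obtain ⟨φ, hφ0, hφ⟩ := Submodule.exists_le_ker_of_lt_top _ hlt
      have hφ' : ∀ w : W₀, (w : V) ∈ W' → φ w = 0 := fun w hw => by
        have : w ∈ (W₀ ⊓ W').comap W₀.subtype := ⟨w.2, hw⟩
        exact hφ this
      obtain ⟨g, -, hg2, hg3, hg4⟩ := exists_root_perp hOm.1 hOm'.1 hperp hx₀.1 φ hφ' (hφ' _ hx₀.2)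
      exact ⟨x₀, hx₀.1, φ, g, hx0, hφ0, hφ' _ hx₀.2, hg4, hg3, hg2 hx₀.2⟩
    · obtain ⟨x₀, hx₀, hx0⟩ := (Submodule.ne_bot_iff _).1 hD0
      have hlt : (W₀ ⊓ F.perp W').comap W₀.subtype < ⊤ := by
        rw [lt_top_iff_ne_top]
        intro h2
        apply h1
        refine le_antisymm inf_le_left fun y hy => ?_
        have : (⟨y, hy⟩ : W₀) ∈ (W₀ ⊓ F.perp W').comap W₀.subtype := by rw [h2]; trivial
        exact this
      obtain ⟨φ, hφ0, hφ⟩ := Submodule.exists_le_ker_of_lt_top _ hlt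
      have hφ' : ∀ w : W₀, (∀ w' ∈ W', F.B w w' = 0) → φ w = 0 := fun w hw => by
        have : w ∈ (W₀ ⊓ F.perp W').comap W₀.subtype := ⟨w.2, hw⟩
        exact hφ this
      obtain ⟨b, hb, hb'⟩ := F.exists_pair W₀ W' φ hφ'
      obtain ⟨g, hg⟩ := F.exists_root (hOm.1.sing hx₀.1) (hOm'.1.sing hb) (hx₀.2 b hb)
      refine ⟨x₀, hx₀.1, φ, g, hx0, hφ0, hφ' _ (fun w' hw' => hx₀.2 w' hw'), fun w => ?_, fun w' hw' => ?_,
        F.mem_TT_of hOm'.1 fun v hv => ?_⟩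
      · rw [hg, hb', hOm.1.2 w w.2 x₀ hx₀.1]
        module
      · rw [hg, hOm'.1.2 w' hw' b hb, F.B_eq_zero (hx₀.2 w' hw')]
        module
      · rw [hg, hv b hb]
        have : v + (0 : ZMod 2) • x₀ - (F.ε⁻¹ * F.B v x₀) • b - v = (-(F.ε⁻¹ * F.B v x₀)) • b := by module
        rw [this]
        exact W'.smul_mem _ hb
  obtain ⟨x₀, hx₀, φ, g, hx0, hφ0, hφx, hg1, hg2, hg3⟩ := key
  obtain ⟨hgP, hgs⟩ := h.sgn_transv hx₀ hx0 φ hφ0 hφx hg1
  refine ⟨g, hgP, ⟨fun i => ?_, fun v hv => ?_⟩, hgs⟩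
  · rw [mul_apply', mul_apply', hg2 _ (hmemW' _ (Submodule.subset_span ⟨i, rfl⟩)), apply_inv']
  · have h1 : ∀ w' ∈ W', F.B (((x⁻¹ : F.iso) : V ≃ₗ[ZMod 2] V) v) w' = 0 := by
      intro w' hw'
      rw [B_inv]
      obtain ⟨c, hc⟩ := (Submodule.mem_span_range_iff_exists_fun (ZMod 2)).1 (hxW' w' hw')
      rw [← hc, B_sum_right]
      exact Finset.sum_eq_zero fun l _ => by rw [hv, mul_zero]
    have h2 := hxW' _ (((mem_TT F).1 hg3).2 _ h1)
    rw [map_sub, apply_inv'] at h2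
    exact h2

theorem Frm.w_inv (_ : Frm F F' e f j) {w : F.iso} (hw2 : ∀ i, (w : V ≃ₗ[ZMod 2] V) (f i) = F.ε • e i) (i : Fin 2) :
    ((w⁻¹ : F.iso) : V ≃ₗ[ZMod 2] V) (e i) = f i := by
  have : e i = (w : V ≃ₗ[ZMod 2] V) (f i) := by rw [hw2, ε_two, one_smul]
  rw [this, inv_apply']

/-- **the Hecke data** -/
theorem Frm.hd (h : Frm F F' e f j) {w : F.iso} (hw1 : ∀ i, (w : V ≃ₗ[ZMod 2] V) (e i) = f i)
    (hw2 : ∀ i, (w : V ≃ₗ[ZMod 2] V) (f i) = F.ε • e i)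
    (hno : ∀ W' ∈ F.Om 2, Submodule.span (ZMod 2) (Set.range e) ≤ F.perp W' →
      Submodule.span (ZMod 2) (Set.range e) ⊓ W' ≠ ⊥) : HD (Pr F e) (Us F e) w h.rho where
  le := Us_le
  nor := fun p hp u hu => h.Us_nor hp hu
  triv := fun u hu => by
    have h1 : h.sgn u = 1 := by
      rw [← h.sgn_one]
      unfold Frm.sgn
      have : ∀ i l, h.A u i l = h.A 1 i l := fun i l => by
        change F.B (((u : F.iso) : V ≃ₗ[ZMod 2] V) (e l)) (f i) = F.B (e l) (f i)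
        rw [Us_e hu]
      rw [this, this, this, this]
    rw [h.rho_apply, h1, Int.cast_one, one_smul]
  big := fun p => by
    have e1 : ∀ i l, F.B ((((p : F.iso) * w : F.iso) : V ≃ₗ[ZMod 2] V) (e l)) (e i) = h.A (p : F.iso)⁻¹ l i := by
      intro i l
      change _ = F.B ((((p : F.iso)⁻¹ : F.iso) : V ≃ₗ[ZMod 2] V) (e i)) (f l)
      rw [mul_apply', hw1, B_inv, F.B_symm, ε_two, one_mul, σ_two]
    have e2 : sg (F.B ((((p : F.iso) * w : F.iso) : V ≃ₗ[ZMod 2] V) (e 0)) (e 0))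
        (F.B ((((p : F.iso) * w : F.iso) : V ≃ₗ[ZMod 2] V) (e 1)) (e 0))
        (F.B ((((p : F.iso) * w : F.iso) : V ≃ₗ[ZMod 2] V) (e 0)) (e 1))
        (F.B ((((p : F.iso) * w : F.iso) : V ≃ₗ[ZMod 2] V) (e 1)) (e 1)) = h.sgn p := by
      rw [e1, e1, e1, e1]
      exact h.sgn_inv' p
    have hne : h.sgn p ≠ 0 := by
      intro h0
      have := h.sgn_sq p
      rw [h0, mul_zero] at this
      exact zero_ne_one this
    obtain ⟨u, hu, p', hp', e3⟩ := h.mem_big hw1 (h.opp_of_sg (by rw [e2]; exact hne))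
    refine ⟨u, hu, ⟨p', hp'⟩, e3, ?_⟩
    rw [h.rho_apply, h.rho_apply]
    congr 2
    rw [← e2]
    have e4 : ∀ i l, h.A p' i l = F.B ((((p : F.iso) * w : F.iso) : V ≃ₗ[ZMod 2] V) (e l)) (e i) := by
      intro i l
      have := h.mat_big hw2 hu e3 i l
      rw [ε_two, inv_one, one_mul] at this
      exact this
    unfold Frm.sgn
    rw [e4, e4, e4, e4]
  ww := by
    have e1 : ∀ i, ((w * w : F.iso) : V ≃ₗ[ZMod 2] V) (e i) = e i := fun i => by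
      rw [mul_apply', hw1, hw2, ε_two, one_smul]
    refine ⟨⟨w * w, (mem_par e _).2 fun i => by rw [e1]; exact Submodule.subset_span ⟨i, rfl⟩⟩, rfl, ?_⟩
    rw [h.rho_apply]
    have h1 : h.sgn (w * w) = 1 := by
      rw [← h.sgn_one]
      unfold Frm.sgn
      have : ∀ i l, h.A (w * w) i l = h.A 1 i l := fun i l => by
        change F.B (((w * w : F.iso) : V ≃ₗ[ZMod 2] V) (e l)) (f i) = F.B (e l) (f i)
        rw [e1]
      rw [this, this, this, this]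
    rw [h1, Int.cast_one, one_smul]
  van := fun x hx hx' m hm => by
    obtain ⟨v, hv, hv', hs⟩ := h.exists_neg hw1 hno hx hx'
    have h1 := hm ⟨v, hv⟩ hv'
    rw [h.rho_apply, hs] at h1
    have h2 : -m = m := by simpa using h1
    have h3 : m + m = 0 := by nth_rw 1 [← h2]; exact neg_add_cancel m
    have h4 : (2 : ℂ) * m = 0 := by rw [two_mul]; exact h3
    exact (mul_eq_zero.1 h4).resolve_left two_ne_zero
  opp := fun u hu hwuw => by
    refine h.Us_eq_one hu fun i => ?_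
    have h1 := (mem_par e _).1 hwuw i
    rw [mul_apply', mul_apply', hw1] at h1
    obtain ⟨c, hc⟩ := (Submodule.mem_span_range_iff_exists_fun (ZMod 2)).1 h1
    have h2 : (u : V ≃ₗ[ZMod 2] V) (f i) = ∑ l, c l • f l := by
      have h3 := congrArg (((w⁻¹ : F.iso) : V ≃ₗ[ZMod 2] V)) hc
      rw [inv_apply', map_sum] at h3
      rw [← h3]
      exact Finset.sum_congr rfl fun l _ => by rw [map_smul, h.w_inv hw2]
    rw [h2]
    exact (Submodule.mem_span_range_iff_exists_fun (ZMod 2)).2 ⟨c, rfl⟩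
  wP := fun hw => by
    have h1 := (mem_par e _).1 hw 0
    rw [hw1] at h1
    have h2 := h.tse.2 _ (Submodule.subset_span ⟨0, rfl⟩) _ h1
    rw [h.hef, if_pos rfl] at h2
    exact one_ne_zero h2

/-- the operators of the big cell -/
theorem Frm.rr_eq (h : Frm F F' e f j) {w : F.iso} (hw1 : ∀ i, (w : V ≃ₗ[ZMod 2] V) (e i) = f i)
    (hw2 : ∀ i, (w : V ≃ₗ[ZMod 2] V) (f i) = F.ε • e i)
    (hd : HD (Pr F e) (Us F e) w h.rho) [Fintype F.iso] [Fintype (Pr F e)] {u : F.iso} :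
    rr (Pr F e) h.rho (Us F e) w u = ((sg (F.B ((u : V ≃ₗ[ZMod 2] V) (f 0)) (f 0)) (F.B ((u : V ≃ₗ[ZMod 2] V) (f 1)) (f 0))
      (F.B ((u : V ≃ₗ[ZMod 2] V) (f 0)) (f 1)) (F.B ((u : V ≃ₗ[ZMod 2] V) (f 1)) (f 1)) : ℤ) : ℂ) •
      (1 : ℂ →ₗ[ℂ] ℂ) := by
  classical
  have e1 : ∀ i l, F.B (((w * u * w : F.iso) : V ≃ₗ[ZMod 2] V) (e l)) (e i) = F.B ((u : V ≃ₗ[ZMod 2] V) (f l)) (f i) := by
    intro i l
    rw [mul_apply', mul_apply', hw1, ← B_inv_right, h.w_inv hw2]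
  by_cases hB : ∃ p : Pr F e, ∃ u₁ ∈ Us F e, w * u * w = u₁ * w * p
  · obtain ⟨p, u₁, hu₁, e3⟩ := hB
    rw [hd.rr_eq hu₁ p e3, h.rho_apply]
    congr 2
    have e4 : ∀ i l, h.A p i l = F.B ((u : V ≃ₗ[ZMod 2] V) (f l)) (f i) := by
      intro i l
      have := h.mat_big hw2 hu₁ e3 i l
      rw [ε_two, inv_one, one_mul, e1] at this
      exact this
    have e5 : h.sgn ((p⁻¹ : Pr F e) : F.iso) = h.sgn p := h.sgn_inv p
    rw [e5]
    unfold Frm.sgn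
    rw [e4, e4, e4, e4]
  · have h3 : rr (Pr F e) h.rho (Us F e) w u = 0 := by
      unfold rr
      rw [dif_neg hB]
    rw [h3]
    have h4 : sg (F.B ((u : V ≃ₗ[ZMod 2] V) (f 0)) (f 0)) (F.B ((u : V ≃ₗ[ZMod 2] V) (f 1)) (f 0))
      (F.B ((u : V ≃ₗ[ZMod 2] V) (f 0)) (f 1)) (F.B ((u : V ≃ₗ[ZMod 2] V) (f 1)) (f 1)) = 0 := by
      by_contra h5
      rw [← e1, ← e1, ← e1, ← e1] at h5
      obtain ⟨u₁, hu₁, p, hp, e3⟩ := h.mem_big hw1 (h.opp_of_sg h5)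
      exact hB ⟨⟨p, hp⟩, u₁, hu₁, e3⟩
    rw [h4, Int.cast_zero, zero_smul]

/-- the constraint on the coordinates of the unipotent radical -/
def cns (F' : CForm (ZMod 2) X) (T : ZMod 2 → ZMod 2) (d : (X × X) × (ZMod 2 × ZMod 2 × ZMod 2 × ZMod 2)) : Prop :=
  F'.B d.1.1 d.1.2 + d.2.2.1 + d.2.2.2.1 = 0 ∧ F'.Q d.1.1 + T d.2.1 = 0 ∧ F'.Q d.1.2 + T d.2.2.2.2 = 0

theorem Frm.B_y (h : Frm F F' e f j) (x x' : X) (a b a' b' : ZMod 2) :
    F.B (f 0 + j x + (a • e 0 + b • e 1)) (f 1 + j x' + (a' • e 0 + b' • e 1)) = F'.B x x' + a' + b := by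
  have hfe : ∀ i l, F.B (f i) (e l) = if i = l then 1 else 0 := by
    intro i l
    rw [h.hfe, ε_two]
  simp only [F.B_add_left, F.B_add_right, F.B_smul_left, F.B_smul_right, h.hff, h.hee, h.hef, hfe, h.hjB, h.hje, h.hjf,
    F.B_eq_zero (h.hje _ _), F.B_eq_zero (h.hjf _ _), σ_two]
  simp
  ring

theorem Frm.Q_y0 (h : Frm F F' e f j) (x : X) (a b : ZMod 2) :
    F.Q (f 0 + j x + (a • e 0 + b • e 1)) = F'.Q x + F.T a := by
  have hfe : ∀ i l, F.B (f i) (e l) = if i = l then 1 else 0 := by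
    intro i l
    rw [h.hfe, ε_two]
  simp only [F.Q_add, F.Q_smul, F.B_add_left, F.B_add_right, F.B_smul_left, F.B_smul_right, h.hff, h.hee, h.hef, hfe,
    h.hje, h.hjf, h.hQe, h.hQf, h.hjQ, F.B_eq_zero (h.hje _ _), F.B_eq_zero (h.hjf _ _), σ_two]
  simp

theorem Frm.Q_y1 (h : Frm F F' e f j) (x : X) (a b : ZMod 2) :
    F.Q (f 1 + j x + (a • e 0 + b • e 1)) = F'.Q x + F.T b := by
  have hfe : ∀ i l, F.B (f i) (e l) = if i = l then 1 else 0 := by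
    intro i l
    rw [h.hfe, ε_two]
  simp only [F.Q_add, F.Q_smul, F.B_add_left, F.B_add_right, F.B_smul_left, F.B_smul_right, h.hff, h.hee, h.hef, hfe,
    h.hje, h.hjf, h.hQe, h.hQf, h.hjQ, F.B_eq_zero (h.hje _ _), F.B_eq_zero (h.hjf _ _), σ_two]
  simp

theorem Frm.e_y (h : Frm F F' e f j) (i l : Fin 2) (x : X) (a b : ZMod 2) :
    F.B (e i) (f l + j x + (a • e 0 + b • e 1)) = if i = l then 1 else 0 := by
  simp only [F.B_add_right, F.B_smul_right, h.hee, h.hef, F.B_eq_zero (h.hje _ _)]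
  simp

theorem Frm.f_y (h : Frm F F' e f j) (i l : Fin 2) (x : X) (a b : ZMod 2) :
    F.B (f l + j x + (a • e 0 + b • e 1)) (f i) = if i = 0 then a else b := by
  simp only [F.B_add_left, F.B_smul_left, h.hff, h.hef, h.hjf]
  fin_cases i <;> simp

/-- coordinates on the unipotent radical -/
theorem Frm.exists_coord (h : Frm F F' e f j) (halt : ∀ v, F.B v v = 0) :
    ∃ φ : Us F e → (X × X) × (ZMod 2 × ZMod 2 × ZMod 2 × ZMod 2), Function.Injective φ ∧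
      (∀ d, d ∈ Set.range φ ↔ cns F' F.T d) ∧
      ∀ u : Us F e, (φ u).2 = (F.B (((u : F.iso) : V ≃ₗ[ZMod 2] V) (f 0)) (f 0),
        F.B (((u : F.iso) : V ≃ₗ[ZMod 2] V) (f 1)) (f 0), F.B (((u : F.iso) : V ≃ₗ[ZMod 2] V) (f 0)) (f 1),
        F.B (((u : F.iso) : V ≃ₗ[ZMod 2] V) (f 1)) (f 1)) := by
  have hε : F.ε = 1 := ε_two
  have hfe : ∀ i l, F.B (f i) (e l) = if i = l then 1 else 0 := by
    intro i l
    rw [h.hfe, hε]
  have hji : Function.Injective j := by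
    rw [injective_iff_map_eq_zero]
    intro x hx
    refine F'.nondeg x fun y => ?_
    rw [← h.hjB, hx, F.B_zero_left]
  have hy : ∀ (u : Us F e) (l : Fin 2), ∃ x, ((u : F.iso) : V ≃ₗ[ZMod 2] V) (f l) =
      f l + j x + (F.B (((u : F.iso) : V ≃ₗ[ZMod 2] V) (f l)) (f 0) • e 0 +
        F.B (((u : F.iso) : V ≃ₗ[ZMod 2] V) (f l)) (f 1) • e 1) := by
    intro u l
    obtain ⟨y, hy⟩ : ∃ y, y = ((u : F.iso) : V ≃ₗ[ZMod 2] V) (f l) := ⟨_, rfl⟩
    rw [← hy]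
    have h1 : ∀ i, F.B y (e i) = if l = i then 1 else 0 := by
      intro i
      have : F.B (((u : F.iso) : V ≃ₗ[ZMod 2] V) (f l)) (((u : F.iso) : V ≃ₗ[ZMod 2] V) (e i)) = F.B (f l) (e i) :=
        F.iso_B _ _ _
      rw [Us_e u.2, hfe] at this
      rw [hy, this]
    obtain ⟨x, hx⟩ := F.frame_decomp F' j h.hee h.hff h.hef h.hjB h.hje h.hjf h.hdim
      (y - f l - (F.B y (f 0) • e 0 + F.B y (f 1) • e 1))
      (fun i => by
        rw [F.B_sub_left, F.B_sub_left, F.B_add_left, F.B_smul_left, F.B_smul_left, h.hee, h.hee, h1, hfe]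
        ring)
      (fun i => by
        rw [F.B_sub_left, F.B_sub_left, F.B_add_left, F.B_smul_left, F.B_smul_left, h.hff, h.hef, h.hef]
        fin_cases i
        · simp
        · simp)
    refine ⟨x, ?_⟩
    rw [← hx]
    abel
  choose x hx using hy
  refine ⟨fun u => ((x u 0, x u 1), (F.B (((u : F.iso) : V ≃ₗ[ZMod 2] V) (f 0)) (f 0),
        F.B (((u : F.iso) : V ≃ₗ[ZMod 2] V) (f 1)) (f 0), F.B (((u : F.iso) : V ≃ₗ[ZMod 2] V) (f 0)) (f 1),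
        F.B (((u : F.iso) : V ≃ₗ[ZMod 2] V) (f 1)) (f 1))), fun u u' heq => ?_, fun d => ⟨?_, ?_⟩, fun u => rfl⟩
  · -- injective
    have q1 := congrArg (fun d => d.1.1) heq
    have q2 := congrArg (fun d => d.1.2) heq
    have q3 := congrArg (fun d => d.2.1) heq
    have q4 := congrArg (fun d => d.2.2.1) heq
    have q5 := congrArg (fun d => d.2.2.2.1) heq
    have q6 := congrArg (fun d => d.2.2.2.2) heq
    dsimp only at q1 q2 q3 q4 q5 q6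
    have hf : ∀ l, ((u : F.iso) : V ≃ₗ[ZMod 2] V) (f l) = ((u' : F.iso) : V ≃ₗ[ZMod 2] V) (f l) := by
      intro l
      rw [hx u l, hx u' l]
      fin_cases l
      · change f 0 + j (x u 0) + _ = f 0 + j (x u' 0) + _
        rw [q1]
        change _ + (F.B (((u : F.iso) : V ≃ₗ[ZMod 2] V) (f 0)) (f 0) • e 0 +
          F.B (((u : F.iso) : V ≃ₗ[ZMod 2] V) (f 0)) (f 1) • e 1) = _ +
          (F.B (((u' : F.iso) : V ≃ₗ[ZMod 2] V) (f 0)) (f 0) • e 0 +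
          F.B (((u' : F.iso) : V ≃ₗ[ZMod 2] V) (f 0)) (f 1) • e 1)
        rw [q3, q5]
      · change f 1 + j (x u 1) + _ = f 1 + j (x u' 1) + _
        rw [q2]
        change _ + (F.B (((u : F.iso) : V ≃ₗ[ZMod 2] V) (f 1)) (f 0) • e 0 +
          F.B (((u : F.iso) : V ≃ₗ[ZMod 2] V) (f 1)) (f 1) • e 1) = _ +
          (F.B (((u' : F.iso) : V ≃ₗ[ZMod 2] V) (f 1)) (f 0) • e 0 +
          F.B (((u' : F.iso) : V ≃ₗ[ZMod 2] V) (f 1)) (f 1) • e 1)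
        rw [q4, q6]
    have h1 : (u' : F.iso)⁻¹ * u = 1 := by
      refine h.Us_eq_one ((Us F e).mul_mem ((Us F e).inv_mem u'.2) u.2) fun i => ?_
      rw [mul_apply', hf, inv_apply']
      exact Submodule.subset_span ⟨i, rfl⟩
    exact Subtype.ext (inv_mul_eq_one.1 h1).symm
  · rintro ⟨u, rfl⟩
    have b01 : F.B (((u : F.iso) : V ≃ₗ[ZMod 2] V) (f 0)) (((u : F.iso) : V ≃ₗ[ZMod 2] V) (f 1)) = 0 := by
      rw [F.iso_B, h.hff]
    have b0 : F.Q (((u : F.iso) : V ≃ₗ[ZMod 2] V) (f 0)) = 0 := by rw [F.iso_Q, h.hQf]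
    have b1 : F.Q (((u : F.iso) : V ≃ₗ[ZMod 2] V) (f 1)) = 0 := by rw [F.iso_Q, h.hQf]
    have c01 := h.B_y (x u 0) (x u 1) (F.B (((u : F.iso) : V ≃ₗ[ZMod 2] V) (f 0)) (f 0))
      (F.B (((u : F.iso) : V ≃ₗ[ZMod 2] V) (f 0)) (f 1)) (F.B (((u : F.iso) : V ≃ₗ[ZMod 2] V) (f 1)) (f 0))
      (F.B (((u : F.iso) : V ≃ₗ[ZMod 2] V) (f 1)) (f 1))
    have c0 := h.Q_y0 (x u 0) (F.B (((u : F.iso) : V ≃ₗ[ZMod 2] V) (f 0)) (f 0))
      (F.B (((u : F.iso) : V ≃ₗ[ZMod 2] V) (f 0)) (f 1))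
    have c1 := h.Q_y1 (x u 1) (F.B (((u : F.iso) : V ≃ₗ[ZMod 2] V) (f 1)) (f 0))
      (F.B (((u : F.iso) : V ≃ₗ[ZMod 2] V) (f 1)) (f 1))
    rw [← hx, ← hx, b01] at c01
    rw [← hx, b0] at c0
    rw [← hx, b1] at c1
    exact ⟨c01.symm, c0.symm, c1.symm⟩
  · rintro ⟨k1, k2, k3⟩
    obtain ⟨⟨x0, x1⟩, s00, s01, s10, s11⟩ := d
    dsimp only at k1 k2 k3
    let y : Fin 2 → V := ![f 0 + j x0 + (s00 • e 0 + s10 • e 1), f 1 + j x1 + (s01 • e 0 + s11 • e 1)]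
    have y0 : y 0 = f 0 + j x0 + (s00 • e 0 + s10 • e 1) := rfl
    have y1 : y 1 = f 1 + j x1 + (s01 • e 0 + s11 • e 1) := rfl
    have q01 : F.B (y 0) (y 1) = 0 := by rw [y0, y1, h.B_y]; exact k1
    obtain ⟨u, hu1, hu2, hu3⟩ := h.exists_unip (y := y) (fun i l => by
        fin_cases l
        · exact h.e_y i 0 x0 s00 s10
        · exact h.e_y i 1 x1 s01 s11) (fun i l => by
        fin_cases i <;> fin_cases l
        · exact halt _
        · exact q01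
        · exact F.B_eq_zero q01
        · exact halt _) (fun i => by
        fin_cases i
        · exact (h.Q_y0 _ _ _).trans k2
        · exact (h.Q_y1 _ _ _).trans k3)
    have hu : u ∈ Us F e := by
      refine ⟨hu1, fun v hv => ?_⟩
      rw [hu3 v hv]
      have : v - ∑ i, F.B v (y i - f i) • e i - v = ∑ i, (-F.B v (y i - f i)) • e i := by
        simp only [neg_smul, Finset.sum_neg_distrib]; abel
      rw [this]
      exact (Submodule.mem_span_range_iff_exists_fun (ZMod 2)).2 ⟨_, rfl⟩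
    refine ⟨⟨u, hu⟩, ?_⟩
    have g0 : ∀ i, F.B ((u : V ≃ₗ[ZMod 2] V) (f 0)) (f i) = if i = 0 then s00 else s10 := by
      intro i; rw [hu2, y0, h.f_y]
    have g1 : ∀ i, F.B ((u : V ≃ₗ[ZMod 2] V) (f 1)) (f i) = if i = 0 then s01 else s11 := by
      intro i; rw [hu2, y1, h.f_y]
    have z0 : x ⟨u, hu⟩ 0 = x0 := by
      apply hji
      have := hx ⟨u, hu⟩ 0
      change (u : V ≃ₗ[ZMod 2] V) (f 0) = f 0 + j (x ⟨u, hu⟩ 0) + (F.B ((u : V ≃ₗ[ZMod 2] V) (f 0)) (f 0) • e 0 +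
        F.B ((u : V ≃ₗ[ZMod 2] V) (f 0)) (f 1) • e 1) at this
      rw [g0, g0, if_pos rfl, if_neg (by decide), hu2, y0] at this
      exact (add_left_cancel (add_right_cancel this)).symm
    have z1 : x ⟨u, hu⟩ 1 = x1 := by
      apply hji
      have := hx ⟨u, hu⟩ 1
      change (u : V ≃ₗ[ZMod 2] V) (f 1) = f 1 + j (x ⟨u, hu⟩ 1) + (F.B ((u : V ≃ₗ[ZMod 2] V) (f 1)) (f 0) • e 0 +
        F.B ((u : V ≃ₗ[ZMod 2] V) (f 1)) (f 1) • e 1) at this
      rw [g1, g1, if_pos rfl, if_neg (by decide), hu2, y1] at this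
      exact (add_left_cancel (add_right_cancel this)).symm
    change ((x ⟨u, hu⟩ 0, x ⟨u, hu⟩ 1), (F.B ((u : V ≃ₗ[ZMod 2] V) (f 0)) (f 0), F.B ((u : V ≃ₗ[ZMod 2] V) (f 1)) (f 0),
      F.B ((u : V ≃ₗ[ZMod 2] V) (f 0)) (f 1), F.B ((u : V ≃ₗ[ZMod 2] V) (f 1)) (f 1))) = _
    rw [z0, z1, g0, g0, g1, g1]
    rfl

end CForm

theorem cnt8 : ∑ d : ((Fin 1 ⊕ Fin 1 → ZMod 2) × (Fin 1 ⊕ Fin 1 → ZMod 2)) × (ZMod 2 × ZMod 2 × ZMod 2 × ZMod 2),
    (if (CForm.spF (ZMod 2) 1).B d.1.1 d.1.2 + d.2.2.1 + d.2.2.2.1 = 0 then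
      sg d.2.1 d.2.2.1 d.2.2.2.1 d.2.2.2.2 else 0) = 8 := by
  decide +kernel

theorem cnt128 : ∑ d : ((Fin 1 ⊕ Fin 1 → ZMod 2) × (Fin 1 ⊕ Fin 1 → ZMod 2)) × (ZMod 2 × ZMod 2 × ZMod 2 × ZMod 2),
    (if (CForm.spF (ZMod 2) 1).B d.1.1 d.1.2 + d.2.2.1 + d.2.2.2.1 = 0 then 1 else 0) = 128 := by
  decide +kernel

namespace CForm

/-- no totally singular subspace of dimension `4` in dimension `6` -/
theorem finrank_TS [Finite (ZMod 2)] {K : Type u} [Field K] {V : Type v} [AddCommGroup V] [Module K V]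
    [FiniteDimensional K V] (F : CForm K V) {n : ℕ} {W : Submodule K V} (hW : W ∈ F.Om n) :
    2 * n ≤ finrank K V := by
  obtain ⟨W', hW', h0⟩ := F.exists_opp hW
  have h1 : W ⊓ W' = ⊥ := by
    rw [eq_bot_iff, ← h0]
    exact inf_le_inf_left _ hW'.1.le_perp
  have h2 := Submodule.finrank_sup_add_finrank_inf_eq W W'
  rw [h1, finrank_bot, hW.2, hW'.2] at h2
  have h3 := Submodule.finrank_le (W ⊔ W')
  omega

theorem Frm.index {V : Type v} [AddCommGroup V] [Module (ZMod 2) V] [FiniteDimensional (ZMod 2) V] [Finite V]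
    {F : CForm (ZMod 2) V} {X : Type w} [AddCommGroup X] [Module (ZMod 2) X] {F' : CForm (ZMod 2) X}
    {e f : Fin 2 → V} {j : X →ₗ[ZMod 2] V} (h : Frm F F' e f j) : (Pr F e).index = Nat.card (F.Om 2) := by
  have := finite_iso F
  have h1 := F.card_iso_eq (F.frame_mem_Om h.hee h.hef h.hQe)
  have h2 := (Pr F e).index_mul_card
  rw [h1] at h2
  exact Nat.eq_of_mul_eq_mul_right Nat.card_pos h2

end CForm

/-- the character of degree `210` -/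
theorem ch210 : ∃ χ : (CForm.spF (ZMod 2) 3).iso → ℂ, IsIrrCharacter _ χ ∧ (3 : ℂ) * χ 1 =
    2 * (Nat.card ((CForm.spF (ZMod 2) 3).Om 2) : ℂ) := by
  classical
  obtain ⟨e, f, j, h⟩ := CForm.frm_sp (K := ZMod 2) (k := 2) (n := 1) (m := 3) rfl
  obtain ⟨w, hw1, hw2, -⟩ := h.exists_w
  have := finite_iso (CForm.spF (ZMod 2) 3)
  let _ : Fintype (CForm.spF (ZMod 2) 3).iso := Fintype.ofFinite _
  let _ : Fintype (CForm.Pr (CForm.spF (ZMod 2) 3) e) := Fintype.ofFinite _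
  let _ : Fintype (CForm.Us (CForm.spF (ZMod 2) 3) e) := Fintype.ofFinite _
  have hd := h.hd hw1 hw2 (fun W' hW' hp hI => by
    have h1 : Submodule.span (ZMod 2) (Set.range e) ⊔ W' ∈ (CForm.spF (ZMod 2) 3).Om 4 := by
      refine ⟨CForm.TS_sup _ h.tse hW'.1 hp, ?_⟩
      have h2 := Submodule.finrank_sup_add_finrank_inf_eq (Submodule.span (ZMod 2) (Set.range e)) W'
      rw [hI, finrank_bot, h.finrank_e, hW'.2] at h2
      omega
    have h3 := CForm.finrank_TS _ h1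
    rw [finrank_fintype_fun_eq_card] at h3
    simp at h3)
  obtain ⟨φ, hφ1, hφ2, hφ3⟩ := h.exists_coord (fun v => (CForm.spF (ZMod 2) 3).alt v rfl)
  have hcns : ∀ d, CForm.cns (CForm.spF (ZMod 2) 1) (CForm.spF (ZMod 2) 3).T d ↔
      (CForm.spF (ZMod 2) 1).B d.1.1 d.1.2 + d.2.2.1 + d.2.2.2.1 = 0 := by
    intro d
    unfold CForm.cns
    simp
  have hU : Nat.card (CForm.Us (CForm.spF (ZMod 2) 3) e) = 128 := by
    rw [Nat.card_eq_fintype_card, ← Finset.card_univ, Finset.card_eq_sum_ones]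
    refine Eq.trans ?_ cnt128
    refine Fintype.sum_of_injective φ hφ1 _ _ (fun d hd => ?_) (fun u => ?_)
    · rw [if_neg]
      rw [← hcns, ← hφ2]
      exact hd
    · rw [if_pos]
      rw [← hcns, ← hφ2]
      exact ⟨u, rfl⟩
  have hA : ∑ u : CForm.Us (CForm.spF (ZMod 2) 3) e, rr (CForm.Pr (CForm.spF (ZMod 2) 3) e) h.rho
      (CForm.Us (CForm.spF (ZMod 2) 3) e) w u = (8 : ℂ) • (1 : ℂ →ₗ[ℂ] ℂ) := by
    rw [Finset.sum_congr rfl fun u _ => h.rr_eq hw1 hw2 hd, ← Finset.sum_smul, ← Int.cast_sum]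
    congr 1
    have h8 : (8 : ℂ) = ((8 : ℤ) : ℂ) := by norm_num
    rw [h8]
    congr 1
    refine Eq.trans ?_ cnt8
    refine Fintype.sum_of_injective φ hφ1 _ _ (fun d hd => ?_) (fun u => ?_)
    · rw [if_neg]
      rw [← hcns, ← hφ2]
      exact hd
    · rw [if_pos]
      · rw [hφ3 u]
      · rw [← hcns, ← hφ2]
        exact ⟨u, rfl⟩
  have hirr : IsIrrCharacter (CForm.Pr (CForm.spF (ZMod 2) 3) e) h.rho.character :=
    Core.isIrrCharacter_of_rep _ (Core.isIrr_of_finrank_one (by simp) _)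
  obtain ⟨χ₁, χ₂, -, h2, -, h4, -⟩ := hd.exists_chars hirr hA (lam := 16) (mu := -8) (by norm_num)
    (by rw [hU]; norm_num) (by norm_num)
  refine ⟨χ₂, h2, ?_⟩
  rw [h.index, h.rho_char, show h.sgn ((1 : CForm.Pr (CForm.spF (ZMod 2) 3) e) : (CForm.spF (ZMod 2) 3).iso) = 1 from
    h.sgn_one] at h4
  push_cast at h4
  linear_combination (1 / 8 : ℂ) * h4

/-- **the missing hypothesis of `FactsC`** -/
theorem tsp62 : TSp62 := by
  intro F _ _ hF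
  obtain ⟨χ, hχ, hχ1⟩ := ch210
  have : CharP (ZMod 2) 2 := ZMod.charP 2
  -- the order
  obtain ⟨a, ha⟩ := psp_dvd (ZMod 2) (p := 2) (k := 2) (n := 1) (by norm_num)
  have hdg : dg (CForm.spF (ZMod 2) (2 + 1)) 2 = Nat.card ((CForm.spF (ZMod 2) 3).Om 2) := by
    unfold dg
    rw [Nat.card_zmod]
    simp
  rw [hdg, Nat.card_zmod] at ha
  have h315 : 315 ∣ Nat.card ((CForm.spF (ZMod 2) 3).Om 2) := by
    have h1 : 945 ∣ 2 ^ a * (Nat.card ((CForm.spF (ZMod 2) 3).Om 2) * 3) := by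
      refine Dvd.dvd.trans ?_ ha
      rw [Finset.prod_Ico_succ_top (by norm_num), Finset.prod_Ico_succ_top (by norm_num)]
      norm_num
    have h2 : 315 * 3 ∣ (2 ^ a * Nat.card ((CForm.spF (ZMod 2) 3).Om 2)) * 3 := by
      rw [mul_assoc]; exact h1
    have h3 : 315 ∣ 2 ^ a * Nat.card ((CForm.spF (ZMod 2) 3).Om 2) := Nat.dvd_of_mul_dvd_mul_right (by norm_num) h2
    exact (Nat.Coprime.pow_right a (by norm_num : Nat.Coprime 315 2)).dvd_of_dvd_mul_left h3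
  obtain ⟨t, ht⟩ := h315
  -- descent
  have hfin : Finite (Matrix.symplecticGroup (Fin 3) (ZMod 2)) := inferInstance
  have hχ' : IsIrrCharacter _ (χ ∘ (isoSp 3 (ZMod 2)).toMonoidHom) :=
    Core.isIrr_comp (isoSp 3 (ZMod 2)).toMonoidHom (isoSp 3 (ZMod 2)).surjective hχ
  obtain ⟨η, hη, hη'⟩ := exists_quot (Subgroup.center (Matrix.symplecticGroup (Fin 3) (ZMod 2))) hχ' (fun z hz => by
    change χ (isoSp 3 (ZMod 2) z) = χ (isoSp 3 (ZMod 2) 1)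
    have hz1 : z = 1 := by
      apply Subtype.ext
      rcases Cfsg.Agent.ClassicalGeometry.SympInvolutions.center_eq hz with h | h
      · exact h
      · rw [h]
        change -(1 : Matrix (Fin 3 ⊕ Fin 3) (Fin 3 ⊕ Fin 3) (ZMod 2)) = 1
        ext i l
        rw [Matrix.neg_apply]
        exact (by decide : ∀ x : ZMod 2, -x = x) _
    rw [hz1])
  have hη1 : η 1 = ((210 * t : ℕ) : ℂ) := by
    have := hη' 1
    rw [QuotientGroup.mk_one] at this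
    rw [this]
    change χ (isoSp 3 (ZMod 2) 1) = _
    rw [map_one]
    rw [ht] at hχ1
    push_cast at hχ1 ⊢
    linear_combination (1 / 3 : ℂ) * hχ1
  -- transfer
  have e0 : F ≃+* ZMod 2 := FiniteField.ringEquivOfCardEq (by rw [hF, ZMod.card 2])
  let E : PSp 3 F ≃* PSp 3 (ZMod 2) := Cfsg.Agent.LieClassical.FieldTransfer.pspCongr 3 e0
  refine ⟨210 * t, Dvd.intro _ rfl, η ∘ E.toMonoidHom, Core.isIrr_comp E.toMonoidHom E.surjective hη, ?_⟩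
  change η (E 1) = _
  rw [map_one, hη1]

end Cfsg.Agent.H477.HC
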