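import Cfsg.Agent.H477.HC.NPO
import Cfsg.Agent.H477.HC.SpSix
import Cfsg.Agent.H477.HC.N7
import Cfsg.Agent.H477.HC.N10
import Cfsg.Agent.H477.HC.N12
import Cfsg.Agent.H925.Np.Sp63
import Cfsg.Agent.H967.Two.Minus8
import Cfsg.Agent.H722.HC.PrOdd
import Cfsg.Agent.H722.HC.PrMinus
import Cfsg.Agent.H722.HC.PrPlus
import Cfsg.Agent.H678.Codeg

/-!
# The degree graphs of the symplectic and orthogonal simple groups are complete (hub H5, helper477, for S4984)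

`np_sp_all`, `np_minus_all` : two primes `≠ p`; `sp_all`, `odd_all`, `plus_all`, `minus_all` : two primes.
-/

set_option autoImplicit false

open scoped ComplexConjugate
open Cfsg

namespace Cfsg.Agent.H477.HC

open Cfsg.Agent.Characters Module Cfsg.Agent.H53.HC Cfsg.Agent.H671.H5

/-! ### two primes different from `p` -/

section np

variable (K : Type) [Field K] [Finite K] {p : ℕ} [Fact p.Prime] [CharP K p]

theorem mem_of_dvd {r : ℕ} (hr : r.Prime) {n : ℕ} {l : List ℕ} (hl : ∀ x ∈ l, x.Prime) (hn : n ∣ (l.map fun x => x ^ 12).prod)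
    (h : r ∣ n) : r ∈ l := by
  have h1 := h.trans hn
  rw [Prime.dvd_prod_iff hr.prime] at h1
  obtain ⟨a, ha, h2⟩ := h1
  obtain ⟨x, hx, rfl⟩ := List.mem_map.1 ha
  have := (Nat.prime_dvd_prime_iff_eq hr (hl x hx)).1 (hr.dvd_of_dvd_pow h2)
  rw [this]
  exact hx

theorem char_of_card {t : ℕ} (ht : t.Prime) (h : Nat.card K = t) : p = t := by
  obtain ⟨s, hs⟩ := card_pow K p
  have h1 : p ∣ Nat.card K := H749.Two.char_dvd K (p := p)
  rw [h] at h1
  exact (Nat.prime_dvd_prime_iff_eq Fact.out ht).1 h1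

/-- **`PSp_{2m}(q)`, two primes `≠ p`** -/
theorem np_sp_all {m : ℕ} (hm : 2 ≤ m) (h22 : ¬ (m = 2 ∧ Nat.card K = 2)) {r s : ℕ} (hr : r.Prime) (hs : s.Prime)
    (hrp : r ≠ p) (hsp : s ≠ p) (hrs : r ≠ s) (hd : r ∣ Nat.card (PSp m K)) (hd' : s ∣ Nat.card (PSp m K)) :
    Adj r s (PSp m K) := by
  have hq : 2 ≤ Nat.card K := Finite.one_lt_card
  let _ := Fintype.ofFinite K
  by_cases hA : m = 2 ∧ Nat.card K < 4
  · obtain ⟨rfl, h4⟩ := hA
    have h3 : Nat.card K = 3 := by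
      have : Nat.card K ≠ 2 := fun h => h22 ⟨rfl, h⟩
      omega
    have h5 : ∀ t : ℕ, t.Prime → t ≠ p → t ∣ Nat.card (PSp 2 K) → t ∈ [2, 5] := by
      intro t ht htp h
      have h6 := sp_prod K (p := p) ht htp h
      rw [h3] at h6
      exact mem_of_dvd ht (by decide) (by norm_num [Finset.prod_range_succ]) h6
    have h6 := h5 r hr hrp hd
    have h7 := h5 s hs hsp hd'
    simp only [List.mem_cons, List.not_mem_nil, or_false] at h6 h7
    have h8 := H925.Np.adj_sp43 h3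
    rcases h6 with rfl | rfl <;> rcases h7 with rfl | rfl
    · exact absurd rfl hrs
    · exact h8
    · exact h8.symm
    · exact absurd rfl hrs
  by_cases hB : m = 3 ∧ Nat.card K = 2
  · obtain ⟨rfl, h2⟩ := hB
    have hp2 := char_of_card K (p := p) Nat.prime_two h2
    have h5 : ∀ t : ℕ, t.Prime → t ≠ p → t ∣ Nat.card (PSp 3 K) → t ∣ 210 := by
      intro t ht htp h
      have h6 := sp_prod K (p := p) ht htp h
      rw [h2] at h6
      have h7 : t ∈ [3, 5, 7] := mem_of_dvd ht (by decide) (by norm_num [Finset.prod_range_succ]) h6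
      simp only [List.mem_cons, List.not_mem_nil, or_false] at h7
      rcases h7 with rfl | rfl | rfl <;> norm_num
    obtain ⟨d, h6, h7⟩ := tsp62 K (by rw [← Nat.card_eq_fintype_card]; exact h2)
    exact adj_of_ch h7 hr hs hrs ((h5 r hr hrp hd).trans h6) ((h5 s hs hsp hd').trans h6)
  by_cases hC : m = 3 ∧ Nat.card K = 3
  · obtain ⟨rfl, h3⟩ := hC
    have h5 : ∀ t : ℕ, t.Prime → t ≠ p → t ∣ Nat.card (PSp 3 K) → t ∈ ({2, 5, 7, 13} : Finset ℕ) := by
      intro t ht htp h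
      have h6 := sp_prod K (p := p) ht htp h
      rw [h3] at h6
      have h7 : t ∈ [2, 5, 7, 13] := mem_of_dvd ht (by decide) (by norm_num [Finset.prod_range_succ]) h6
      simpa using h7
    exact H925.Np.adj_sp63 h3 hrs (h5 r hr hrp hd) (h5 s hs hsp hd')
  exact np_sp K (p := p) hm (fun h => by by_contra h'; exact hA ⟨h, by omega⟩) hr hs hrp hsp hrs hd hd'
    (fun h h' => absurd ⟨h, h'⟩ hB) (fun h h' => absurd ⟨h, h'⟩ hC)

variable (a b : K) (hab : ∀ z₁ z₂ : K, z₁ ^ 2 + a * z₁ * z₂ + b * z₂ ^ 2 = 0 → z₁ = 0 ∧ z₂ = 0)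

include hab

theorem minus_key {l : ℕ} {r s : ℕ} (hr : r.Prime) (hs : s.Prime) (hrp : r ≠ p) (hsp : s ≠ p) (hrs : r ≠ s)
    (k n M : ℕ) (hkn : k + n = l) (hl : 3 ≤ l) (hk : 2 ≤ k) (hk2 : Nat.card K = 2 → 3 ≤ k)
    (hk3 : Nat.card K = 3 → k = 2 → Odd n) (hM : ∃ e, M ∣ p ^ e * dg (CForm.minusF K (k + n) a b hab) k)
    (h16 : Odd (Nat.card K) → 2 ^ 4 ∣ M) (h5 : r ∣ M) (h6 : s ∣ M) : Adj r s (POmega K (quadFormMinus l K a b)) := by
  have hp : p.Prime := Fact.out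
  obtain ⟨e, he⟩ := hM
  obtain ⟨d, hd1, hd2, hd3⟩ := minus_ch K (p := p) a b hab hkn hl hk hk2 hk3
  have h7 : ∀ r : ℕ, r.Prime → r ≠ p → r ∣ M → r ∣ d := by
    intro r hr hrp h
    by_cases hr2 : r = 2
    · have := hd3 1 (prime_pow_dvd Nat.prime_two hp (by rw [← hr2]; exact hrp)
        ((h16 (two_cases K hrp hr2)).trans he))
      rwa [hr2, ← pow_one 2]
    · have := hd2 r 1 hr hr2 (by rw [pow_one]; exact rm_p (p := p) hr hrp h he)
      rwa [pow_one] at this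
  exact adj_of_ch hd1 hr hs hrs (h7 r hr hrp h5) (h7 s hs hsp h6)

/-- the pair `(q³ - 1, q² + 1)`, `q ≥ 3` -/
theorem minus_psi (hq3 : 3 ≤ Nat.card K) {r s : ℕ} (hr : r.Prime) (hs : s.Prime) (hrp : r ≠ p) (hsp : s ≠ p)
    (hrs : r ≠ s) (h1 : r ∣ Nat.card K ^ 3 - 1) (h2 : s ∣ Nat.card K ^ 2 + 1) :
    Adj r s (POmega K (quadFormMinus 3 K a b)) := by
  have hq2 : 2 ≤ Nat.card K := by omega
  have h3 : r ∣ (Nat.card K ^ 4 + 1) * (Nat.card K ^ 6 - 1) :=
    Dvd.dvd.mul_left (h1.trans (pow_sub_one_dvd _ ⟨2, by norm_num⟩)) _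
  have hM := td_key_three hq2 (minus_dvd K (p := p) a b hab (k := 2) (n := 1) (by omega))
  by_cases hs2 : s = 2
  · refine minus_key K a b hab hr hs hrp hsp hrs 2 1 _ rfl le_rfl le_rfl (fun h => by omega) (fun _ _ => odd_one) hM
      (fun ho => two_M3 ho) h3 ?_
    rw [hs2]
    exact (dvd_pow_self 2 (by norm_num : 4 ≠ 0)).trans (two_M3 (two_cases K hsp hs2))
  by_cases hr2 : r = 2
  · refine minus_key K a b hab hr hs hrp hsp hrs 3 0 _ rfl le_rfl (by norm_num) (fun _ => le_rfl) (fun _ h => by omega)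
      (minus_dvd_top K (p := p) a b hab (l := 3) (by omega))
      (fun ho => (pow_dvd_pow 2 (by norm_num)).trans (two_M1 ho le_rfl)) ?_ ?_
    · rw [hr2]
      exact (dvd_pow_self 2 (by norm_num : 5 ≠ 0)).trans (two_M1 (two_cases K hrp hr2) le_rfl)
    · have h4 : Nat.card K ^ (2 * (1 + 1)) - 1 = (Nat.card K ^ 2 + 1) * (Nat.card K ^ 2 - 1) := sq_sub _ 2
      refine Dvd.dvd.mul_left (dvd_prod_idx (i := 1) (Finset.mem_Ico.2 ⟨le_rfl, by omega⟩) ?_) _
      rw [h4]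
      exact Dvd.dvd.mul_right h2 _
  obtain ⟨ψ, n, hψ, hψ1, hsn, hn0⟩ := H967.Two.exists_psi_dvd hab h2
  obtain ⟨x, hx⟩ := H967.Two.psi_dn hab p hq3 hψ hψ1
  obtain ⟨e, he⟩ := hM
  exact adj_of_ch hx.1 hr hs hrs (hx.dvd_odd hr hr2 (Dvd.dvd.mul_right (rm_p (p := p) hr hrp h3 he) _))
    (hx.dvd_odd hs hs2 (Dvd.dvd.mul_left hsn _))

/-- **`PΩ⁻_{2l+2}(q)`, two primes `≠ p`** -/
theorem np_minus_all {l : ℕ} (hl : 3 ≤ l) {r s : ℕ} (hr : r.Prime) (hs : s.Prime) (hrp : r ≠ p) (hsp : s ≠ p)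
    (hrs : r ≠ s) (hd : r ∣ Nat.card (POmega K (quadFormMinus l K a b)))
    (hd' : s ∣ Nat.card (POmega K (quadFormMinus l K a b))) : Adj r s (POmega K (quadFormMinus l K a b)) := by
  have hq : 2 ≤ Nat.card K := Finite.one_lt_card
  by_cases hA : l = 3 ∧ Nat.card K = 2
  · obtain ⟨rfl, h2⟩ := hA
    have hp2 := char_of_card K (p := p) Nat.prime_two h2
    have h5 : ∀ t : ℕ, t.Prime → t ≠ p → t ∣ Nat.card (POmega K (quadFormMinus 3 K a b)) → t ∈ [3, 5, 7, 17] := by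
      intro t ht htp h
      have h6 := minus_prod K a b hab ht htp h
      rw [h2] at h6
      exact mem_of_dvd ht (by decide) (by norm_num [MG, Finset.prod_range_succ]) h6
    obtain ⟨d, h6, -, h7⟩ := o8m_two h2 hab
    obtain ⟨x, y, h8, -, h9, -⟩ := rk3_minus K a b hab (l := 3) le_rfl
    have h10 : x = 84 := by
      rw [h2] at h9
      norm_num at h9
      omega
    rw [h10] at h8
    have h11 : ∀ t : ℕ, t.Prime → t ∈ [3, 5, 7, 17] → t ≠ 7 → Adj t 7 (POmega K (quadFormMinus 3 K a b)) := by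
      intro t ht h12 h13
      simp only [List.mem_cons, List.not_mem_nil, or_false] at h12
      rcases h12 with rfl | rfl | rfl | rfl
      · exact adj_of_ch h8 (by norm_num) (by norm_num) (by norm_num) (by norm_num) (by norm_num)
      · exact adj_of_ch h7 (by norm_num) (by norm_num) (by norm_num) (Dvd.dvd.trans (by norm_num) h6)
          (Dvd.dvd.trans (by norm_num) h6)
      · exact absurd rfl h13
      · exact adj_of_ch h7 (by norm_num) (by norm_num) (by norm_num) (Dvd.dvd.trans (by norm_num) h6)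
          (Dvd.dvd.trans (by norm_num) h6)
    by_cases hs7 : s = 7
    · subst hs7
      exact h11 r hr (h5 r hr hrp hd) hrs
    by_cases hr7 : r = 7
    · subst hr7
      exact (h11 s hs (h5 s hs hsp hd') hs7).symm
    rcases np_minus K a b hab hl hr hs hrp hsp hrs hd hd' (fun _ _ => ⟨hr7, hs7⟩) with h12 | ⟨-, h12⟩
    · exact h12
    · exfalso
      rw [h2] at h12
      have h13 : ∀ t : ℕ, t.Prime → t ∣ 2 ^ 3 - 1 → t = 7 := fun t ht h =>
        (Nat.prime_dvd_prime_iff_eq ht (by norm_num)).1 (by norm_num at h; exact h)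
      rcases h12 with h12 | h12
      · exact hr7 (h13 r hr h12.1)
      · exact hs7 (h13 s hs h12.1)
  rcases np_minus K a b hab hl hr hs hrp hsp hrs hd hd' (fun h h' => absurd ⟨h, h'⟩ hA) with h12 | ⟨rfl, h12⟩
  · exact h12
  · have hq3 : 3 ≤ Nat.card K := by
      have : Nat.card K ≠ 2 := fun h => hA ⟨rfl, h⟩
      omega
    rcases h12 with h12 | h12
    · exact minus_psi K a b hab hq3 hr hs hrp hsp hrs h12.1 h12.2
    · exact (minus_psi K a b hab hq3 hs hr hsp hrp hrs.symm h12.1 h12.2).symm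

end np

/-! ### two primes -/

section all

variable (K : Type) [Field K] [Finite K]

/-- combination -/
theorem all_of {p : ℕ} {S : Type} [Group S] {r s : ℕ} (h1 : ∀ t : ℕ, t.Prime → t ≠ p → t ∣ Nat.card S → Adj p t S)
    (h2 : r ≠ p → s ≠ p → Adj r s S) (hr : r.Prime) (hs : s.Prime) (hrs : r ≠ s) (hd : r ∣ Nat.card S)
    (hd' : s ∣ Nat.card S) : Adj r s S := by
  by_cases hrp : r = p
  · subst hrp
    exact h1 s hs hrs.symm hd'
  by_cases hsp : s = p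
  · subst hsp
    exact (h1 r hr hrs hd).symm
  exact h2 hrp hsp

/-- **`PSp_{2m}(q)`** -/
theorem sp_all {m : ℕ} (hm : 2 ≤ m) (h22 : ¬ (m = 2 ∧ Nat.card K = 2)) {r s : ℕ} (hr : r.Prime) (hs : s.Prime)
    (hrs : r ≠ s) (hd : r ∣ Nat.card (PSp m K)) (hd' : s ∣ Nat.card (PSp m K)) : Adj r s (PSp m K) := by
  obtain ⟨p, hp⟩ := CharP.exists K
  have hpr : p.Prime := (CharP.char_is_prime_or_zero K p).resolve_right (CharP.char_ne_zero_of_finite K p)
  have : Fact p.Prime := ⟨hpr⟩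
  refine all_of (p := p) (fun t ht htp htd => ?_)
    (fun hrp hsp => np_sp_all K (p := p) hm h22 hr hs hrp hsp hrs hd hd') hr hs hrs hd hd'
  by_cases hA : m = 4 ∧ Nat.card K = 2 ∧ t = 7
  · obtain ⟨rfl, h2, rfl⟩ := hA
    obtain ⟨d, h3, h4⟩ := sp8_two K h2
    rw [char_of_card K (p := p) Nat.prime_two h2]
    exact adj_of_ch h4 Nat.prime_two ht (by norm_num) (Dvd.dvd.trans (by norm_num) h3) (Dvd.dvd.trans (by norm_num) h3)
  · exact H722.HC.pr_sp K hm h22 ht htp htd (fun h1 h2 h3 => hA ⟨h1, h2, h3⟩)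

/-- **`PΩ_{2m+1}(q)`** -/
theorem odd_all {m : ℕ} (ho : Odd (Nat.card K)) (hm : 3 ≤ m) {r s : ℕ} (hr : r.Prime) (hs : s.Prime)
    (hrs : r ≠ s) (hd : r ∣ Nat.card (POmega K (quadFormOdd m K))) (hd' : s ∣ Nat.card (POmega K (quadFormOdd m K))) :
    Adj r s (POmega K (quadFormOdd m K)) := by
  obtain ⟨p, hp⟩ := CharP.exists K
  have hpr : p.Prime := (CharP.char_is_prime_or_zero K p).resolve_right (CharP.char_ne_zero_of_finite K p)
  have : Fact p.Prime := ⟨hpr⟩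
  exact all_of (p := p) (fun t ht htp htd => H722.HC.pr_odd K ho hm ht htp htd)
    (fun hrp hsp => np_odd K (p := p) ho hm hr hs hrp hsp hrs hd hd') hr hs hrs hd hd'

/-- **`PΩ⁺_{2m}(q)`** -/
theorem plus_all {m : ℕ} (hm : 4 ≤ m) {r s : ℕ} (hr : r.Prime) (hs : s.Prime)
    (hrs : r ≠ s) (hd : r ∣ Nat.card (POmega K (quadFormPlus m K))) (hd' : s ∣ Nat.card (POmega K (quadFormPlus m K))) :
    Adj r s (POmega K (quadFormPlus m K)) := by
  obtain ⟨p, hp⟩ := CharP.exists K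
  have hpr : p.Prime := (CharP.char_is_prime_or_zero K p).resolve_right (CharP.char_ne_zero_of_finite K p)
  have : Fact p.Prime := ⟨hpr⟩
  refine all_of (p := p) (fun t ht htp htd => ?_)
    (fun hrp hsp => np_plus K (p := p) hm hr hs hrp hsp hrs hd hd') hr hs hrs hd hd'
  by_cases hA : m = 5 ∧ Nat.card K = 2 ∧ t = 7
  · obtain ⟨rfl, h2, rfl⟩ := hA
    obtain ⟨d, h3, h4⟩ := o10p_two h2
    rw [char_of_card K (p := p) Nat.prime_two h2]
    exact adj_of_ch h4 Nat.prime_two ht (by norm_num) (Dvd.dvd.trans (by norm_num) h3) (Dvd.dvd.trans (by norm_num) h3)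
  · exact H722.HC.pr_plus K hm ht htp htd (fun h1 h2 h3 => hA ⟨h1, h2, h3⟩)

/-- the remaining case `(PΩ⁻_8(3), 5)` -/
def OM3 : Prop := ∀ (K : Type) [Field K] [Finite K], Nat.card K = 3 → ∀ a b : K,
  (∀ z₁ z₂ : K, z₁ ^ 2 + a * z₁ * z₂ + b * z₂ ^ 2 = 0 → z₁ = 0 ∧ z₂ = 0) →
  ∃ d, 15 ∣ d ∧ Ch (POmega K (quadFormMinus 3 K a b)) d

/-- **`PΩ⁻_{2l+2}(q)`** -/
theorem minus_all (hOM : OM3) (a b : K) (hab : ∀ z₁ z₂ : K, z₁ ^ 2 + a * z₁ * z₂ + b * z₂ ^ 2 = 0 → z₁ = 0 ∧ z₂ = 0)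
    {l : ℕ} (hl : 3 ≤ l) {r s : ℕ} (hr : r.Prime) (hs : s.Prime)
    (hrs : r ≠ s) (hd : r ∣ Nat.card (POmega K (quadFormMinus l K a b)))
    (hd' : s ∣ Nat.card (POmega K (quadFormMinus l K a b))) : Adj r s (POmega K (quadFormMinus l K a b)) := by
  obtain ⟨p, hp⟩ := CharP.exists K
  have hpr : p.Prime := (CharP.char_is_prime_or_zero K p).resolve_right (CharP.char_ne_zero_of_finite K p)
  have : Fact p.Prime := ⟨hpr⟩
  have hq : 2 ≤ Nat.card K := Finite.one_lt_card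
  refine all_of (p := p) (fun t ht htp htd => ?_)
    (fun hrp hsp => np_minus_all K a b hab (p := p) hl hr hs hrp hsp hrs hd hd') hr hs hrs hd hd'
  by_cases hA : l = 3 ∧ Nat.card K ≤ 3 ∧ t = 5
  · obtain ⟨rfl, h2, rfl⟩ := hA
    have h3 : Nat.card K = 2 ∨ Nat.card K = 3 := by omega
    rcases h3 with h3 | h3
    · obtain ⟨d, h4, h5⟩ := o8m_ten h3 hab
      rw [char_of_card K (p := p) Nat.prime_two h3]
      exact adj_of_ch h5 Nat.prime_two ht (by norm_num) (Dvd.dvd.trans (by norm_num) h4)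
        (Dvd.dvd.trans (by norm_num) h4)
    · obtain ⟨d, h4, h5⟩ := hOM K h3 a b hab
      rw [char_of_card K (p := p) Nat.prime_three h3]
      exact adj_of_ch h5 Nat.prime_three ht (by norm_num) (Dvd.dvd.trans (by norm_num) h4)
        (Dvd.dvd.trans (by norm_num) h4)
  · exact H722.HC.pr_minus K a b hab hl ht htp htd (fun h1 h2 h3 => hA ⟨h1, h2, h3⟩)

end all

/-- **S4984** -/
theorem main4984 (hOM : OM3) {G : Type*} [Group G] [Finite G]
    (h : IsPSp G ∨ IsPOmegaOdd G ∨ IsPOmegaPlus G ∨ IsPOmegaMinus G) (r s : ℕ) (hr : r ∈ degreePrimes G)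
    (hs : s ∈ degreePrimes G) (hrs : r ≠ s) : (degreeGraph G).Adj r s := by
  have hdv : ∀ t ∈ degreePrimes G, t.Prime ∧ t ∣ Nat.card G := by
    rintro t ⟨ht, d, ⟨χ, rfl⟩, hd⟩
    exact ⟨ht, hd.trans (H678.Codeg.charDegree_dvd_card χ)⟩
  obtain ⟨hr1, hr2⟩ := hdv r hr
  obtain ⟨hs1, hs2⟩ := hdv s hs
  rcases h with ⟨F, _, _, m, hm, h1, ⟨e⟩⟩ | ⟨F, _, _, m, hm, h1, ⟨e⟩⟩ | ⟨F, _, _, m, hm, ⟨e⟩⟩ | ⟨F, _, _, m, a, b, hm, hab, ⟨e⟩⟩
  · rw [Nat.card_congr e.toEquiv] at hr2 hs2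
    refine (adj_congr e).2 (sp_all F hm ?_ hr1 hs1 hrs hr2 hs2)
    rintro ⟨h2, h3⟩
    have := h1 h2
    rw [Nat.card_eq_fintype_card] at h3
    omega
  · rw [Nat.card_congr e.toEquiv] at hr2 hs2
    exact (adj_congr e).2 (odd_all F (by rw [Nat.card_eq_fintype_card]; exact h1) hm hr1 hs1 hrs hr2 hs2)
  · rw [Nat.card_congr e.toEquiv] at hr2 hs2
    exact (adj_congr e).2 (plus_all F hm hr1 hs1 hrs hr2 hs2)
  · rw [Nat.card_congr e.toEquiv] at hr2 hs2
    exact (adj_congr e).2 (minus_all F hOM a b hab (by omega) hr1 hs1 hrs hr2 hs2)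

end Cfsg.Agent.H477.HC
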