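import Cfsg.Agent.H53.HC.Flag

/-!
# Classical forms, uniformly (hub H5, helper477)

`CForm K V` : a non-degenerate `ε`-Hermitian form `B` together with a "quadratic part" `Q`:
* symplectic: `σ = id`, `ε = -1`, `Q = 0`, `T = 0`;
* quadratic: `σ = id`, `ε = 1`, `Q` the quadratic form, `B` its polar form, `T = id`;
* Hermitian: `σ² = id`, `ε = 1`, `Q v = B v v`, `T x = x + σ x`.

`F.iso` : the isometry group, `F.perp W`, `F.TS W` (`W` totally singular), `F.TT W` (the isometries fixing `W` and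
trivial on `Wᗮ / W`);
`exists_root` : the elements `v ↦ v + B(v,b) c - ε⁻¹ B(v,c) b`, `b`, `c` singular and orthogonal;
`exists_levi` : for opposite totally singular subspaces `W₀`, `W'` the elements `a ⊕ a* ⊕ 1`.
-/

set_option autoImplicit false

open scoped ComplexConjugate
open Cfsg

namespace Cfsg.Agent.H477.HC

open Cfsg.Agent.OddOrderCharacters.Clifford Cfsg.Agent.Characters MulAction Module Cfsg.Agent.H53.HC

universe u v

/-- a non-degenerate form: alternating, quadratic or Hermitian -/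
structure CForm (K : Type u) [Field K] (V : Type v) [AddCommGroup V] [Module K V] where
  σ : K →+* K
  σσ : ∀ a, σ (σ a) = a
  ε : K
  hε : ε * σ ε = 1
  B : V → V → K
  B_add_left : ∀ u v w, B (u + v) w = B u w + B v w
  B_smul_left : ∀ a u v, B (a • u) v = a * B u v
  B_symm : ∀ u v, B u v = ε * σ (B v u)
  Q : V → K
  T : K → K
  T_add : ∀ x y, T (x + y) = T x + T y
  T_symm : ∀ x, T (ε * σ x) = T x
  Q_add : ∀ u v, Q (u + v) = Q u + Q v + T (B u v)
  Q_smul : ∀ a u, Q (a • u) = a * σ a * Q u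
  Q_range : ∀ b, ∃ t, T t = -Q b
  alt : ∀ v, Q v = 0 → B v v = 0
  nondeg : ∀ v, (∀ u, B v u = 0) → v = 0

namespace CForm

variable {K : Type u} [Field K] {V : Type v} [AddCommGroup V] [Module K V] (F : CForm K V)

theorem B_add_right (u v w : V) : F.B u (v + w) = F.B u v + F.B u w := by
  rw [F.B_symm, F.B_add_left, map_add, mul_add, ← F.B_symm, ← F.B_symm]

theorem B_smul_right (a : K) (u v : V) : F.B u (a • v) = F.σ a * F.B u v := by
  rw [F.B_symm, F.B_smul_left, map_mul, mul_left_comm, ← F.B_symm]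

@[simp] theorem B_zero_left (v : V) : F.B 0 v = 0 := by
  have := F.B_smul_left 0 0 v
  rwa [zero_smul, zero_mul] at this

@[simp] theorem B_zero_right (v : V) : F.B v 0 = 0 := by
  rw [F.B_symm, F.B_zero_left, map_zero, mul_zero]

@[simp] theorem B_neg_left (u v : V) : F.B (-u) v = -F.B u v := by
  have := F.B_smul_left (-1) u v
  rwa [neg_one_smul, neg_one_mul] at this

@[simp] theorem B_neg_right (u v : V) : F.B u (-v) = -F.B u v := by
  rw [F.B_symm, F.B_neg_left, map_neg, mul_neg, ← F.B_symm]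

theorem B_sub_left (u v w : V) : F.B (u - v) w = F.B u w - F.B v w := by
  rw [sub_eq_add_neg, F.B_add_left, F.B_neg_left, sub_eq_add_neg]

theorem B_sub_right (u v w : V) : F.B u (v - w) = F.B u v - F.B u w := by
  rw [sub_eq_add_neg, F.B_add_right, F.B_neg_right, sub_eq_add_neg]

/-- the functional `B(·, u)` -/
def lf (u : V) : V →ₗ[K] K where
  toFun v := F.B v u
  map_add' := fun x y => F.B_add_left x y u
  map_smul' := fun c x => F.B_smul_left c x u

theorem lf_apply (u v : V) : F.lf u v = F.B v u := rfl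

theorem ε_ne : F.ε ≠ 0 := by
  intro h
  have := F.hε
  rw [h, zero_mul] at this
  exact zero_ne_one this

theorem σε : F.σ F.ε = F.ε⁻¹ := by
  exact eq_inv_of_mul_eq_one_right F.hε

theorem σεi : F.σ F.ε⁻¹ = F.ε := by
  rw [map_inv₀, F.σε, inv_inv]

theorem B_eq_zero {u v : V} (h : F.B u v = 0) : F.B v u = 0 := by
  rw [F.B_symm, h, map_zero, mul_zero]

@[simp] theorem Q_zero : F.Q 0 = 0 := by
  have := F.Q_smul 0 0
  rwa [zero_smul, zero_mul, zero_mul] at this

@[simp] theorem T_zero : F.T 0 = 0 := by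
  have := F.T_add 0 0
  rw [add_zero] at this
  simpa using this

theorem T_neg (x : K) : F.T (-x) = -F.T x := by
  have := F.T_add x (-x)
  rw [add_neg_cancel, F.T_zero] at this
  exact (neg_eq_of_add_eq_zero_right this.symm).symm

theorem T_sub (x y : K) : F.T (x - y) = F.T x - F.T y := by
  rw [sub_eq_add_neg, F.T_add, F.T_neg, sub_eq_add_neg]

/-- the isometry group -/
def iso : Subgroup (V ≃ₗ[K] V) where
  carrier := {g | (∀ u v, F.B (g u) (g v) = F.B u v) ∧ ∀ v, F.Q (g v) = F.Q v}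
  one_mem' := ⟨fun _ _ => rfl, fun _ => rfl⟩
  mul_mem' := by
    rintro a b ⟨h1, h2⟩ ⟨h3, h4⟩
    refine ⟨fun u v => ?_, fun v => ?_⟩
    · rw [LinearEquiv.mul_apply, LinearEquiv.mul_apply, h1, h3]
    · rw [LinearEquiv.mul_apply, h2, h4]
  inv_mem' := by
    rintro a ⟨h1, h2⟩
    have key : ∀ v, a (a⁻¹ v) = v := a.apply_symm_apply
    refine ⟨fun u v => ?_, fun v => ?_⟩
    · rw [← h1, key, key]
    · rw [← h2, key]

theorem mem_iso {g : V ≃ₗ[K] V} : g ∈ F.iso ↔ (∀ u v, F.B (g u) (g v) = F.B u v) ∧ ∀ v, F.Q (g v) = F.Q v := Iff.rfl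

theorem iso_B (g : F.iso) (u v : V) : F.B ((g : V ≃ₗ[K] V) u) ((g : V ≃ₗ[K] V) v) = F.B u v := g.2.1 u v

theorem iso_Q (g : F.iso) (v : V) : F.Q ((g : V ≃ₗ[K] V) v) = F.Q v := g.2.2 v

theorem exists_iso [FiniteDimensional K V] (f : V →ₗ[K] V) (hB : ∀ u v, F.B (f u) (f v) = F.B u v)
    (hQ : ∀ v, F.Q (f v) = F.Q v) : ∃ g : F.iso, ∀ v, (g : V ≃ₗ[K] V) v = f v := by
  have hinj : Function.Injective f := by
    rw [injective_iff_map_eq_zero]
    intro v hv
    refine F.nondeg v fun u => ?_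
    rw [← hB, hv, F.B_zero_left]
  exact ⟨⟨LinearEquiv.ofInjectiveEndo f hinj, hB, hQ⟩, fun v => rfl⟩

/-- the orthogonal space -/
def perp (W : Submodule K V) : Submodule K V where
  carrier := {v | ∀ w ∈ W, F.B v w = 0}
  zero_mem' := fun w _ => F.B_zero_left w
  add_mem' := fun {a b} ha hb w hw => by rw [F.B_add_left, ha w hw, hb w hw, add_zero]
  smul_mem' := fun c a ha w hw => by rw [F.B_smul_left, ha w hw, mul_zero]

theorem mem_perp {W : Submodule K V} {v : V} : v ∈ F.perp W ↔ ∀ w ∈ W, F.B v w = 0 := Iff.rfl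

theorem perp_anti {W W' : Submodule K V} (h : W ≤ W') : F.perp W' ≤ F.perp W := fun _ hv w hw => hv w (h hw)

/-- totally singular subspaces -/
def TS (W : Submodule K V) : Prop := (∀ w ∈ W, F.Q w = 0) ∧ ∀ w ∈ W, ∀ w' ∈ W, F.B w w' = 0

theorem TS.mono {F : CForm K V} {W W' : Submodule K V} (h : F.TS W) (h' : W' ≤ W) : F.TS W' :=
  ⟨fun w hw => h.1 w (h' hw), fun w hw w' hw' => h.2 w (h' hw) w' (h' hw')⟩

theorem TS.le_perp {F : CForm K V} {W : Submodule K V} (h : F.TS W) : W ≤ F.perp W := fun w hw w' hw' => h.2 w hw w' hw'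

theorem TS.map {F : CForm K V} {W : Submodule K V} (h : F.TS W) (g : F.iso) :
    F.TS (W.map ((g : V ≃ₗ[K] V) : V →ₗ[K] V)) := by
  refine ⟨?_, ?_⟩
  · rintro _ ⟨w, hw, rfl⟩
    exact (F.iso_Q g w).trans (h.1 w hw)
  · rintro _ ⟨w, hw, rfl⟩ _ ⟨w', hw', rfl⟩
    exact (F.iso_B g w w').trans (h.2 w hw w' hw')

/-- functionals on `A` given by elements of `B` -/
theorem exists_pair [FiniteDimensional K V] (A C : Submodule K V) (f : A →ₗ[K] K)
    (h : ∀ a : A, (∀ b ∈ C, F.B a b = 0) → f a = 0) : ∃ b ∈ C, ∀ a : A, f a = F.B a b := by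
  classical
  let Φ : Submodule K (Dual K A) :=
    { carrier := {f | ∃ b ∈ C, ∀ a : A, f a = F.B a b}
      zero_mem' := ⟨0, C.zero_mem, fun a => by simp⟩
      add_mem' := by
        rintro f g ⟨b, hb, h1⟩ ⟨b', hb', h2⟩
        exact ⟨b + b', C.add_mem hb hb', fun a => by rw [LinearMap.add_apply, h1, h2, F.B_add_right]⟩
      smul_mem' := by
        rintro c f ⟨b, hb, h1⟩
        refine ⟨F.σ c • b, C.smul_mem _ hb, fun a => ?_⟩
        rw [LinearMap.smul_apply, h1, F.B_smul_right, F.σσ, smul_eq_mul] }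
  have h1 : f ∈ Φ.dualCoannihilator.dualAnnihilator := by
    rw [Submodule.mem_dualAnnihilator]
    intro a ha
    apply h
    intro b hb
    rw [Submodule.mem_dualCoannihilator] at ha
    have : ((⟨⟨fun a => F.B a b, fun x y => F.B_add_left _ _ _⟩, fun c x => F.B_smul_left _ _ _⟩ : Dual K A)) ∈ Φ :=
      ⟨b, hb, fun a => rfl⟩
    exact ha _ this
  rw [Subspace.dualCoannihilator_dualAnnihilator_eq] at h1
  exact h1

theorem perp_perp [FiniteDimensional K V] (W : Submodule K V) : F.perp (F.perp W) = W := by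
  apply le_antisymm
  · intro v hv
    by_contra hn
    obtain ⟨f, hf, hf'⟩ := Submodule.exists_dual_map_eq_bot_of_notMem hn inferInstance
    obtain ⟨b, -, hb⟩ := F.exists_pair ⊤ ⊤ (f.comp (⊤ : Submodule K V).subtype) (fun a ha => by
      have : (a : V) = 0 := F.nondeg a fun u => ha u trivial
      rw [LinearMap.comp_apply, Submodule.subtype_apply, this, map_zero])
    have hb' : ∀ v, f v = F.B v b := fun v => hb ⟨v, trivial⟩
    apply hf
    rw [hb']
    apply hv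
    intro w hw
    apply F.B_eq_zero
    rw [← hb']
    have : f w ∈ W.map f := ⟨w, hw, rfl⟩
    rw [hf'] at this
    exact (Submodule.mem_bot K).1 this
  · intro w hw v hv
    exact F.B_eq_zero (hv w hw)

/-- the isometries fixing `W` and trivial on `Wᗮ / W` -/
def TT (W : Submodule K V) : Subgroup F.iso where
  carrier := {g | W.map (F.iso.subtype g : V →ₗ[K] V) = W ∧ ∀ v ∈ F.perp W, (g : V ≃ₗ[K] V) v - v ∈ W}
  one_mem' := ⟨(stabW F.iso.subtype W).one_mem, fun v _ => by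
    change v - v ∈ W
    rw [sub_self]; exact W.zero_mem⟩
  mul_mem' := by
    rintro g h ⟨hg, hg'⟩ ⟨hh, hh'⟩
    refine ⟨(stabW F.iso.subtype W).mul_mem hg hh, fun v hv => ?_⟩
    have h1 : (h : V ≃ₗ[K] V) v ∈ F.perp W := by
      intro w hw
      rw [← hh] at hw
      obtain ⟨w', hw', rfl⟩ := hw
      exact (F.iso_B h v w').trans (hv w' hw')
    have e : ((g * h : F.iso) : V ≃ₗ[K] V) v - v = ((g : V ≃ₗ[K] V) ((h : V ≃ₗ[K] V) v) - (h : V ≃ₗ[K] V) v) +
        ((h : V ≃ₗ[K] V) v - v) := by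
      rw [Subgroup.coe_mul, LinearEquiv.mul_apply]; abel
    rw [e]
    exact W.add_mem (hg' _ h1) (hh' v hv)
  inv_mem' := by
    rintro g ⟨hg, hg'⟩
    have hi : W.map (F.iso.subtype g⁻¹ : V →ₗ[K] V) = W := (stabW F.iso.subtype W).inv_mem hg
    refine ⟨hi, fun v hv => ?_⟩
    have h1 := hg' v hv
    have h2 : ((g⁻¹ : F.iso) : V ≃ₗ[K] V) v - v = -((g⁻¹ : F.iso) : V ≃ₗ[K] V) ((g : V ≃ₗ[K] V) v - v) := by
      rw [map_sub]
      have : ((g⁻¹ : F.iso) : V ≃ₗ[K] V) ((g : V ≃ₗ[K] V) v) = v := (g : V ≃ₗ[K] V).symm_apply_apply v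
      rw [this]
      abel
    rw [h2]
    apply W.neg_mem
    rw [← hi]
    exact ⟨_, h1, rfl⟩

theorem mem_TT {W : Submodule K V} {g : F.iso} :
    g ∈ F.TT W ↔ W.map (F.iso.subtype g : V →ₗ[K] V) = W ∧ ∀ v ∈ F.perp W, (g : V ≃ₗ[K] V) v - v ∈ W := Iff.rfl

/-- for totally singular `W` the first condition is automatic -/
theorem mem_TT_of [FiniteDimensional K V] {W : Submodule K V} (hW : F.TS W) {g : F.iso}
    (h : ∀ v ∈ F.perp W, (g : V ≃ₗ[K] V) v - v ∈ W) : g ∈ F.TT W := by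
  refine ⟨map_eq_of_le F.iso.subtype fun w hw => ?_, h⟩
  have := W.add_mem (h w (hW.le_perp hw)) hw
  rwa [sub_add_cancel] at this

/-- singular vectors -/
def Sing (v : V) : Prop := F.Q v = 0 ∧ F.B v v = 0

theorem TS.sing {F : CForm K V} {W : Submodule K V} (h : F.TS W) {w : V} (hw : w ∈ W) : F.Sing w :=
  ⟨h.1 w hw, h.2 w hw w hw⟩

/-- **the root elements** -/
theorem exists_root [FiniteDimensional K V] {c b : V} (hc : F.Sing c) (hb : F.Sing b) (hcb : F.B c b = 0) :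
    ∃ g : F.iso, ∀ v, (g : V ≃ₗ[K] V) v = v + F.B v b • c - (F.ε⁻¹ * F.B v c) • b := by
  have hbc := F.B_eq_zero hcb
  let f : V →ₗ[K] V :=
    { toFun := fun v => v + F.B v b • c - (F.ε⁻¹ * F.B v c) • b
      map_add' := fun x y => by
        rw [F.B_add_left, F.B_add_left]
        module
      map_smul' := fun a x => by
        rw [F.B_smul_left, F.B_smul_left, RingHom.id_apply]
        module }
  refine F.exists_iso f (fun u v => ?_) (fun v => ?_)
  · change F.B (u + F.B u b • c - (F.ε⁻¹ * F.B u c) • b) (v + F.B v b • c - (F.ε⁻¹ * F.B v c) • b) = F.B u v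
    simp only [F.B_sub_left, F.B_sub_right, F.B_add_left, F.B_add_right, F.B_smul_left, F.B_smul_right, hcb, hbc, hc.2,
      hb.2, map_mul, F.σεi]
    rw [F.B_symm c v, F.B_symm b v]
    have := F.ε_ne
    field_simp
    ring
  · change F.Q (v + F.B v b • c - (F.ε⁻¹ * F.B v c) • b) = F.Q v
    have e1 : v + F.B v b • c - (F.ε⁻¹ * F.B v c) • b = v + (F.B v b • c + (-(F.ε⁻¹ * F.B v c)) • b) := by module
    rw [e1, F.Q_add, F.Q_add, F.Q_smul, F.Q_smul, hc.1, hb.1]
    simp only [F.B_add_right, F.B_smul_right, F.B_smul_left, hcb, mul_zero, T_zero, add_zero, map_neg, map_mul, F.σεi]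
    have h2 : F.σ (F.B v b) * F.B v c + -(F.ε * F.σ (F.B v c)) * F.B v b =
        F.σ (F.B v b) * F.B v c - F.ε * F.σ (F.σ (F.B v b) * F.B v c) := by
      rw [map_mul, F.σσ]; ring
    rw [h2, F.T_sub, F.T_symm, sub_self, add_zero]

theorem exists_dual [FiniteDimensional K V] (f : V →ₗ[K] K) : ∃ b : V, ∀ v, f v = F.B v b := by
  obtain ⟨b, -, hb⟩ := F.exists_pair ⊤ ⊤ (f.comp (⊤ : Submodule K V).subtype) (fun a ha => by
    have : (a : V) = 0 := F.nondeg a fun u => ha u trivial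
    rw [LinearMap.comp_apply, Submodule.subtype_apply, this, map_zero])
  exact ⟨b, fun v => hb ⟨v, trivial⟩⟩

/-- opposite subspaces: the adjoint of `a` -/
theorem exists_adj [FiniteDimensional K V] {W₀ W' : Submodule K V}
    (h1 : ∀ w ∈ W₀, (∀ w' ∈ W', F.B w w' = 0) → w = 0) (h2 : ∀ w' ∈ W', (∀ w ∈ W₀, F.B w w' = 0) → w' = 0)
    (a : W₀ ≃ₗ[K] W₀) : ∃ a' : W' →ₗ[K] W', ∀ (w : W₀) (w' : W'), F.B (a w) (a' w') = F.B w w' := by
  classical
  have key : ∀ w' : W', ∃ z : W', ∀ w : W₀, F.B w z = F.B (a.symm w) w' := by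
    intro w'
    obtain ⟨b, hb, hb'⟩ := F.exists_pair W₀ W' ((F.lf w').comp (W₀.subtype.comp (a.symm : W₀ →ₗ[K] W₀)))
      (fun w hw => by
        have := h1 w w.2 hw
        have e : w = 0 := Subtype.ext this
        rw [e, map_zero])
    exact ⟨⟨b, hb⟩, fun w => (hb' w).symm⟩
  choose f hf using key
  have huniq : ∀ z z' : W', (∀ w : W₀, F.B w z = F.B w z') → z = z' := by
    intro z z' h
    have : ((z - z' : W') : V) = 0 := h2 _ (z - z').2 fun w hw => by
      rw [Submodule.coe_sub, F.B_sub_right, h ⟨w, hw⟩, sub_self]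
    exact sub_eq_zero.1 (Subtype.ext this)
  refine ⟨⟨⟨f, fun x y => huniq _ _ fun w => ?_⟩, fun c x => huniq _ _ fun w => ?_⟩, fun w w' => ?_⟩
  · rw [hf, Submodule.coe_add, Submodule.coe_add, F.B_add_right, F.B_add_right, hf, hf]
  · rw [hf, RingHom.id_apply, Submodule.coe_smul, Submodule.coe_smul, F.B_smul_right, F.B_smul_right, hf]
  · change F.B (a w) (f w') = _
    rw [hf, a.symm_apply_apply]

/-- projection along the orthogonal space of `W'` -/
theorem exists_proj [FiniteDimensional K V] {W₀ W' : Submodule K V}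
    (h1 : ∀ w ∈ W₀, (∀ w' ∈ W', F.B w w' = 0) → w = 0) (h2 : ∀ w' ∈ W', (∀ w ∈ W₀, F.B w w' = 0) → w' = 0) :
    ∃ P : V →ₗ[K] W₀, ∀ v, ∀ w' ∈ W', F.B v w' = F.B (P v) w' := by
  classical
  have key : ∀ v : V, ∃ z : W₀, ∀ w' ∈ W', F.B v w' = F.B z w' := by
    intro v
    obtain ⟨b, hb, hb'⟩ := F.exists_pair W' W₀ ((F.lf v).comp W'.subtype) (fun w hw => by
        have := h2 w w.2 fun w1 hw1 => F.B_eq_zero (hw w1 hw1)
        have e : w = 0 := Subtype.ext this
        rw [e, map_zero])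
    refine ⟨⟨b, hb⟩, fun w' hw' => ?_⟩
    have := hb' ⟨w', hw'⟩
    change F.B w' v = F.B w' b at this
    rw [F.B_symm v w', this, ← F.B_symm]
  choose f hf using key
  have huniq : ∀ z z' : W₀, (∀ w' ∈ W', F.B z w' = F.B z' w') → z = z' := by
    intro z z' h
    have : ((z - z' : W₀) : V) = 0 := h1 _ (z - z').2 fun w hw => by
      rw [Submodule.coe_sub, F.B_sub_left, h w hw, sub_self]
    exact sub_eq_zero.1 (Subtype.ext this)
  refine ⟨⟨⟨f, fun x y => huniq _ _ fun w hw => ?_⟩, fun c x => huniq _ _ fun w hw => ?_⟩, hf⟩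
  · rw [← hf _ w hw, Submodule.coe_add, F.B_add_left, F.B_add_left, ← hf _ w hw, ← hf _ w hw]
  · rw [← hf _ w hw, RingHom.id_apply, Submodule.coe_smul, F.B_smul_left, F.B_smul_left, ← hf _ w hw]

/-- **the Levi elements**: for opposite totally singular subspaces -/
theorem exists_levi [FiniteDimensional K V] {W₀ W' : Submodule K V} (hW₀ : F.TS W₀) (hW' : F.TS W')
    (h1 : ∀ w ∈ W₀, (∀ w' ∈ W', F.B w w' = 0) → w = 0) (h2 : ∀ w' ∈ W', (∀ w ∈ W₀, F.B w w' = 0) → w' = 0)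
    (a : W₀ ≃ₗ[K] W₀) : ∃ g : F.iso, (∀ w : W₀, (g : V ≃ₗ[K] V) w = a w) ∧ (∀ w ∈ W', (g : V ≃ₗ[K] V) w ∈ W') ∧
      (∀ v, (∀ w ∈ W₀, F.B v w = 0) → (∀ w ∈ W', F.B v w = 0) → (g : V ≃ₗ[K] V) v = v) ∧
      g ∈ F.TT W₀ ⊓ F.TT W' := by
  obtain ⟨a', ha'⟩ := F.exists_adj h1 h2 a
  obtain ⟨P, hP⟩ := F.exists_proj h1 h2
  have h1' : ∀ w ∈ W', (∀ w' ∈ W₀, F.B w w' = 0) → w = 0 := fun w hw h => h2 w hw fun w' hw' => F.B_eq_zero (h w' hw')
  have h2' : ∀ w' ∈ W₀, (∀ w ∈ W', F.B w w' = 0) → w' = 0 := fun w hw h => h1 w hw fun w' hw' => F.B_eq_zero (h w' hw')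
  obtain ⟨P', hP'⟩ := F.exists_proj h1' h2'
  have PW₀ : ∀ w : W₀, P w = w := by
    intro w
    have : ((P w - w : W₀) : V) = 0 := h1 _ (P w - w).2 fun w' hw' => by
      rw [Submodule.coe_sub, F.B_sub_left, ← hP w w' hw', sub_self]
    exact sub_eq_zero.1 (Subtype.ext this)
  have P'W' : ∀ w : W', P' w = w := by
    intro w
    have : ((P' w - w : W') : V) = 0 := h1' _ (P' w - w).2 fun w' hw' => by
      rw [Submodule.coe_sub, F.B_sub_left, ← hP' w w' hw', sub_self]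
    exact sub_eq_zero.1 (Subtype.ext this)
  have P0 : ∀ v, (∀ w ∈ W', F.B v w = 0) → P v = 0 := by
    intro v hv
    have : ((P v : W₀) : V) = 0 := h1 _ (P v).2 fun w' hw' => by rw [← hP v w' hw', hv w' hw']
    exact Subtype.ext this
  have P'0 : ∀ v, (∀ w ∈ W₀, F.B v w = 0) → P' v = 0 := by
    intro v hv
    have : ((P' v : W') : V) = 0 := h1' _ (P' v).2 fun w' hw' => by rw [← hP' v w' hw', hv w' hw']
    exact Subtype.ext this
  -- the complement
  let R : V →ₗ[K] V := LinearMap.id - W₀.subtype ∘ₗ P - W'.subtype ∘ₗ P'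
  have hR : ∀ v, R v = v - P v - P' v := fun v => rfl
  have RW₀ : ∀ v, ∀ w ∈ W₀, F.B (R v) w = 0 := by
    intro v w hw
    rw [hR, F.B_sub_left, F.B_sub_left, hW₀.2 _ (P v).2 w hw, hP' v w hw]
    ring
  have RW' : ∀ v, ∀ w ∈ W', F.B (R v) w = 0 := by
    intro v w hw
    rw [hR, F.B_sub_left, F.B_sub_left, hW'.2 _ (P' v).2 w hw, hP v w hw]
    ring
  have hdec : ∀ v, v = R v + (P v + P' v) := fun v => by rw [hR]; abel
  let f : V →ₗ[K] V := R + (W₀.subtype ∘ₗ (a : W₀ →ₗ[K] W₀) ∘ₗ P + W'.subtype ∘ₗ a' ∘ₗ P')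
  have hf : ∀ v, f v = R v + ((a (P v) : V) + (a' (P' v) : V)) := fun v => rfl
  have comp : ∀ (x y : W₀) (x' y' : W') (v u : V), F.B (R v + (x + x')) (R u + (y + y')) =
      F.B (R v) (R u) + (F.B x y' + F.B x' y) := by
    intro x y x' y' v u
    simp only [F.B_add_left, F.B_add_right]
    rw [RW₀ v y y.2, RW' v y' y'.2, F.B_eq_zero (RW₀ u x x.2), F.B_eq_zero (RW' u x' x'.2), hW₀.2 x x.2 y y.2,
      hW'.2 x' x'.2 y' y'.2]
    ring
  have compQ : ∀ (x : W₀) (x' : W') (v : V), F.Q (R v + (x + x')) = F.Q (R v) + F.T (F.B x x') := by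
    intro x x' v
    rw [F.Q_add, F.Q_add, F.B_add_right, RW₀ v x x.2, RW' v x' x'.2, hW₀.1 x x.2, hW'.1 x' x'.2, add_zero, F.T_zero]
    ring
  obtain ⟨g, hg⟩ := F.exists_iso f (fun u v => by
    rw [hf, hf, comp]
    conv_rhs => rw [hdec u, hdec v]
    rw [comp, ha', F.B_symm (a' (P' u) : V), ha', ← F.B_symm]) (fun v => by
    rw [hf, compQ]
    conv_rhs => rw [hdec v]
    rw [compQ, ha'])
  have g1 : ∀ w : W₀, (g : V ≃ₗ[K] V) w = a w := by
    intro w
    have e1 : P' (w : V) = 0 := P'0 _ fun w' hw' => hW₀.2 w w.2 w' hw'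
    rw [hg, hf, hR, PW₀, e1, map_zero]
    simp
  have g2 : ∀ w ∈ W', (g : V ≃ₗ[K] V) w ∈ W' := by
    intro w hw
    have e1 : P w = 0 := P0 _ fun w' hw' => hW'.2 w hw w' hw'
    rw [hg, hf, hR, P'W' ⟨w, hw⟩, e1, map_zero]
    simp
  refine ⟨g, g1, g2, fun v hv hv' => ?_, F.mem_TT_of hW₀ fun v hv => ?_, F.mem_TT_of hW' fun v hv => ?_⟩
  · rw [hg, hf, hR, P0 v hv', P'0 v hv]
    simp
  · rw [hg, hf, hR, P'0 v hv, map_zero]
    have : v - (P v : V) - ((0 : W') : V) + ((a (P v) : V) + ((0 : W') : V)) - v = ((a (P v) - P v : W₀) : V) := by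
      rw [Submodule.coe_sub, Submodule.coe_zero]
      abel
    rw [this]
    exact Subtype.property _
  · rw [hg, hf, hR, P0 v hv, map_zero]
    have : v - ((0 : W₀) : V) - (P' v : V) + (((0 : W₀) : V) + (a' (P' v) : V)) - v = ((a' (P' v) - P' v : W') : V) := by
      rw [Submodule.coe_sub, Submodule.coe_zero]
      abel
    rw [this]
    exact Subtype.property _

end CForm

end Cfsg.Agent.H477.HC
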