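import Cfsg.Agent.H477.HC.VPt

/-!
# Harish-Chandra induction with a constituent of the permutation character on the points (hub H5, helper477)

`exists_hc_pt` : for `c` cuspidal, not self-dual, `ψ₀` an irreducible constituent of the permutation character of
`F'.iso` on `F'.Pt`, an irreducible character of `F.iso` of degree `dg F k * ψ₀ 1`.
-/

set_option autoImplicit false

open scoped ComplexConjugate
open Cfsg

namespace Cfsg.Agent.H477.HC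

open Cfsg.Agent.OddOrderCharacters.Clifford Cfsg.Agent.Characters MulAction Module Cfsg.Agent.H53.HC
open Cfsg.Agent.H749.Two

universe u v w

namespace CForm

variable {K : Type u} [Field K] {V : Type v} [AddCommGroup V] [Module K V] {F : CForm K V}
  {X : Type w} [AddCommGroup X] [Module K X] {F' : CForm K X} {j : X →ₗ[K] V} {W₀ : Submodule K V}

/-- an element stabilising `x (W₀ + j v)` fixes the point `v` -/
theorem pt_fix [FiniteDimensional K V] [FiniteDimensional K X] (h : Cmp F F' j W₀)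
    {ρ : stabW F.iso.subtype W₀ →* F'.iso}
    (hρ1 : ∀ (g : stabW F.iso.subtype W₀) y, ((g : F.iso) : V ≃ₗ[K] V) (j y) - j ((ρ g : X ≃ₗ[K] X) y) ∈ W₀)
    {W' : Submodule K V} {x : F.iso} (hx : W₀.map (F.iso.subtype x : V →ₗ[K] V) = W') {l : F.iso}
    (hl : x⁻¹ * l * x ∈ stabW F.iso.subtype W₀) {v : X} (h0 : v ≠ 0) (hv : F'.Sing v)
    (hu : (l : V ≃ₗ[K] V) ((x : V ≃ₗ[K] V) (j v)) ∈ W' ⊔ Submodule.span K {(x : V ≃ₗ[K] V) (j v)}) :
    ρ ⟨_, hl⟩ • F'.pt v h0 hv = F'.pt v h0 hv := by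
  classical
  obtain ⟨r, hr, hrj, hrW⟩ := h.exists_proj
  obtain ⟨w', hw', y, hy, e⟩ := Submodule.mem_sup.1 hu
  obtain ⟨t, rfl⟩ := Submodule.mem_span_singleton.1 hy
  have h1 := hρ1 ⟨_, hl⟩ v
  have h2 : ((x⁻¹ : F.iso) : V ≃ₗ[K] V) w' ∈ W₀ := by
    rw [← hx] at hw'
    obtain ⟨w, hw, rfl⟩ := hw'
    change ((x⁻¹ : F.iso) : V ≃ₗ[K] V) ((x : V ≃ₗ[K] V) w) ∈ W₀
    rw [show ((x⁻¹ : F.iso) : V ≃ₗ[K] V) ((x : V ≃ₗ[K] V) w) = w from (x : V ≃ₗ[K] V).symm_apply_apply w]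
    exact hw
  have h3 : (((⟨_, hl⟩ : stabW F.iso.subtype W₀) : F.iso) : V ≃ₗ[K] V) (j v) =
      ((x⁻¹ : F.iso) : V ≃ₗ[K] V) w' + t • j v := by
    change ((x⁻¹ : F.iso) : V ≃ₗ[K] V) ((l : V ≃ₗ[K] V) ((x : V ≃ₗ[K] V) (j v))) = _
    rw [← e, map_add, map_smul,
      show ((x⁻¹ : F.iso) : V ≃ₗ[K] V) ((x : V ≃ₗ[K] V) (j v)) = j v from (x : V ≃ₗ[K] V).symm_apply_apply _]
  have h4 := hrW _ h1
  rw [h3, map_sub, map_add, map_smul, hrW _ h2, hrj, hrj, zero_add, sub_eq_zero] at h4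
  rw [smul_pt, pt_eq_iff]
  refine ⟨t, ?_, h4.symm⟩
  rintro rfl
  rw [zero_smul] at h4
  exact h0 ((LinearEquiv.map_eq_zero_iff _).1 h4.symm)

open Classical in
theorem sum_ite_sub {L I : Type*} [Group L] [Fintype L] [Group I] (φ : L →* I) {Y : Type*} [MulAction I Y] (y : Y)
    (C : L → ℂ) [Fintype ((stabilizer I y).comap φ)] :
    ∑ l : L, (if φ l • y = y then C l else 0) = ∑ s : (stabilizer I y).comap φ, C s := by
  rw [sum_eq_sum_subgroup ((stabilizer I y).comap φ) (fun l => if φ l • y = y then C l else 0)]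
  · refine Finset.sum_congr rfl fun s _ => ?_
    rw [if_pos]
    exact s.2
  · intro g hg
    rw [if_neg]
    exact hg

/-- **the vanishing condition for the points**, `k ≥ 2` -/
theorem van_pt [FiniteDimensional K V] [FiniteDimensional K X] [Finite V] [Finite K] (h : Cmp F F' j W₀) {k : ℕ}
    (hk : 2 ≤ k) {c : GL (Fin k) K → ℂ}
    (hc : IsCharacter _ c) (hcusp : IsCusp c)
    {ψ₀ θ₀ : F'.iso → ℂ} (hψ : IsCharacter _ ψ₀) (hθ : IsCharacter _ θ₀)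
    (hsum : ∀ g, ψ₀ g + θ₀ g = (Nat.card {y : F'.Pt // g • y = y} : ℂ))
    {ρ : stabW F.iso.subtype W₀ →* F'.iso}
    (hρ1 : ∀ (g : stabW F.iso.subtype W₀) y, ((g : F.iso) : V ≃ₗ[K] V) (j y) - j ((ρ g : X ≃ₗ[K] X) y) ∈ W₀)
    (hρ2 : ∀ g : stabW F.iso.subtype W₀, (g : F.iso) ∈ F.TT W₀ → ρ g = 1)
    (hW₀ : W₀ ∈ F.Om k) {W' : Submodule K V} (hW' : W' ∈ F.Om k) (hperp : W₀ ≤ F.perp W') (h0 : W₀ ⊓ W' = ⊥) :
    F.Van c (psf F W₀ (ψ₀ ∘ ρ)) W₀ W' := by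
  classical
  have hjinj : Function.Injective j := by
    rw [injective_iff_map_eq_zero]
    intro y hy
    refine F'.nondeg y fun z => ?_
    rw [← h.jB, hy, F.B_zero_left]
  have hfX : Finite X := Finite.of_injective j hjinj
  have : Finite F'.Pt := inferInstanceAs (Finite {W : Submodule K X // W ∈ F'.Om 1})
  obtain ⟨x, hx⟩ := F.trans_Om hW₀ hW'
  refine van_perm hc hψ hθ hsum hρ2 hW₀ hW' hx fun φ hφ => ?_
  intro _ y
  obtain ⟨v, hv0, hv, rfl⟩ := F'.exists_pt y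
  let L : Subgroup F.iso := F.TT W₀ ⊓ F.fixW W'
  let _ : Fintype ((stabilizer F'.iso (F'.pt v hv0 hv)).comap φ) := Fintype.ofFinite _
  rw [sum_ite_sub φ (F'.pt v hv0 hv) (fun l : L => flagTerm F.iso.subtype c (l : F.iso) W₀)]
  let H : Subgroup F.iso := ((stabilizer F'.iso (F'.pt v hv0 hv)).comap φ).map L.subtype
  have : Finite F.iso := finite_iso F
  let _ : Fintype H := Fintype.ofFinite _
  have e1 : ∑ s : (stabilizer F'.iso (F'.pt v hv0 hv)).comap φ, flagTerm F.iso.subtype c ((s : L) : F.iso) W₀ =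
      ∑ l : H, flagTerm F.iso.subtype c l W₀ :=
    Fintype.sum_equiv (((stabilizer F'.iso (F'.pt v hv0 hv)).comap φ).equivMapOfInjective L.subtype
      L.subtype_injective).toEquiv _ _ fun s => rfl
  rw [e1]
  have hu : F.Sing ((x : V ≃ₗ[K] V) (j v)) := F.sing_map x ⟨by rw [h.jQ]; exact hv.1, by rw [h.jB]; exact hv.2⟩
  have huW : ∀ w ∈ W', F.B w ((x : V ≃ₗ[K] V) (j v)) = 0 := by
    intro w hw
    rw [← hx] at hw
    obtain ⟨w₀, hw₀, rfl⟩ := hw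
    change F.B ((x : V ≃ₗ[K] V) w₀) _ = 0
    rw [F.iso_B]
    exact F.B_eq_zero (h.j1 v w₀ hw₀)
  obtain ⟨D, hD, hD0, hD1, hgen⟩ := exists_D hk hW₀ hW' hperp h0 hu huW
  refine sum_cusp hc hcusp hW₀.2 D hD hD0 hD1 H ?_ fun y hy f hf => ?_
  · rintro _ ⟨s, -, rfl⟩
    exact s.2.1.1
  · obtain ⟨g, hg, hgu, hgw⟩ := hgen y hy f hf
    refine ⟨g, ⟨⟨g, hg⟩, ?_, rfl⟩, hgw⟩
    change φ ⟨g, hg⟩ • F'.pt v hv0 hv = F'.pt v hv0 hv
    obtain ⟨hl, e⟩ := hφ ⟨g, hg⟩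
    rw [e]
    refine pt_fix h hρ1 hx hl hv0 hv ?_
    change (g : V ≃ₗ[K] V) _ ∈ _
    rw [hgu]
    exact Submodule.mem_sup_right (Submodule.mem_span_singleton_self _)

/-- **the vanishing condition for the points**, `k = 1`, `c ≠ 1` -/
theorem van_pt1 [FiniteDimensional K V] [FiniteDimensional K X] [Finite V] [Finite K] (h : Cmp F F' j W₀)
    {c : GL (Fin 1) K → ℂ} (hc : IsIrrCharacter _ c) (hc1 : c ≠ 1)
    {ψ₀ θ₀ : F'.iso → ℂ} (hψ : IsCharacter _ ψ₀) (hθ : IsCharacter _ θ₀)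
    (hsum : ∀ g, ψ₀ g + θ₀ g = (Nat.card {y : F'.Pt // g • y = y} : ℂ))
    {ρ : stabW F.iso.subtype W₀ →* F'.iso}
    (hρ1 : ∀ (g : stabW F.iso.subtype W₀) y, ((g : F.iso) : V ≃ₗ[K] V) (j y) - j ((ρ g : X ≃ₗ[K] X) y) ∈ W₀)
    (hρ2 : ∀ g : stabW F.iso.subtype W₀, (g : F.iso) ∈ F.TT W₀ → ρ g = 1)
    (hW₀ : W₀ ∈ F.Om 1) {W' : Submodule K V} (hW' : W' ∈ F.Om 1) (hperp : W₀ ≤ F.perp W') (h0 : W₀ ⊓ W' = ⊥) :
    F.Van c (psf F W₀ (ψ₀ ∘ ρ)) W₀ W' := by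
  classical
  have hcc := Core.isIrr_isCharacter hc
  have hcf := Core.isIrr_isClassFunction hc
  have hjinj : Function.Injective j := by
    rw [injective_iff_map_eq_zero]
    intro y hy
    refine F'.nondeg y fun z => ?_
    rw [← h.jB, hy, F.B_zero_left]
  have hfX : Finite X := Finite.of_injective j hjinj
  have : Finite F'.Pt := inferInstanceAs (Finite {W : Submodule K X // W ∈ F'.Om 1})
  obtain ⟨x, hx⟩ := F.trans_Om hW₀ hW'
  refine van_perm hcc hψ hθ hsum hρ2 hW₀ hW' hx fun φ hφ => ?_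
  intro _ y
  obtain ⟨v, hv0, hv, rfl⟩ := F'.exists_pt y
  let L : Subgroup F.iso := F.TT W₀ ⊓ F.fixW W'
  let _ : Fintype ((stabilizer F'.iso (F'.pt v hv0 hv)).comap φ) := Fintype.ofFinite _
  rw [sum_ite_sub φ (F'.pt v hv0 hv) (fun l : L => flagTerm F.iso.subtype c (l : F.iso) W₀)]
  have hu : F.Sing ((x : V ≃ₗ[K] V) (j v)) := F.sing_map x ⟨by rw [h.jQ]; exact hv.1, by rw [h.jB]; exact hv.2⟩
  have huW : ∀ w ∈ W', F.B w ((x : V ≃ₗ[K] V) (j v)) = 0 := by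
    intro w hw
    rw [← hx] at hw
    obtain ⟨w₀, hw₀, rfl⟩ := hw
    change F.B ((x : V ≃ₗ[K] V) w₀) _ = 0
    rw [F.iso_B]
    exact F.B_eq_zero (h.j1 v w₀ hw₀)
  let b₀ : Basis (Fin 1) K W₀ := finBasisOfFinrankEq K W₀ hW₀.2
  let _ : Fintype (GL (Fin 1) K) := Fintype.ofFinite _
  let S : Subgroup L := (stabilizer F'.iso (F'.pt v hv0 hv)).comap φ
  let f : S →* GL (Fin 1) K :=
    (glE b₀).toMonoidHom.comp ((resHom F.iso.subtype W₀).comp
      ((Subgroup.inclusion (show L ≤ stabW F.iso.subtype W₀ from fun l hl => hl.1.1)).comp S.subtype))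
  have hf : Function.Surjective f := by
    intro A
    obtain ⟨a, rfl⟩ := (glE b₀).surjective A
    obtain ⟨g, hg, hgu, hgw⟩ := exists_L1 hW₀ hW'.1 hperp h0 hu huW a
    refine ⟨⟨⟨g, hg⟩, ?_⟩, ?_⟩
    · change φ ⟨g, hg⟩ • F'.pt v hv0 hv = F'.pt v hv0 hv
      obtain ⟨hl, e⟩ := hφ ⟨g, hg⟩
      rw [e]
      exact pt_fix h hρ1 hx hl hv0 hv hgu
    · change glE b₀ (res (F.iso.subtype g) W₀ _) = glE b₀ a
      congr 1
      ext w
      exact hgw w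
  have e1 : ∀ s : S, flagTerm F.iso.subtype c ((s : L) : F.iso) W₀ = c (f s) := by
    intro s
    rw [flagTerm_of F.iso.subtype c (s : L).2.1.1, cl_eq hcf b₀]
    rfl
  rw [Finset.sum_congr rfl fun s _ => e1 s, sum_comp_hom f hf c]
  have h4 := Core.classInner_irr_ne hc Core.isIrr_one hc1
  rw [Core.classInner_def] at h4
  rcases mul_eq_zero.1 h4 with h5 | h5
  · exact absurd h5 (inv_ne_zero card_ne_zero')
  · have : ∑ A, c A = 0 := by
      rw [← h5]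
      refine Finset.sum_congr rfl fun A _ => ?_
      rw [Pi.one_apply, map_one, mul_one]
    rw [this, mul_zero]

/-- **Harish-Chandra induction of `c ⊗ ψ₁`** -/
theorem exists_hc_van [Finite K] [FiniteDimensional K V] [Finite V] {k : ℕ} {Z : Kˣ → Prop} {c : GL (Fin k) K → ℂ}
    (hc : Cus K k F.σ Z c) (hW₀ : W₀ ∈ F.Om k) {ψ₁ : stabW F.iso.subtype W₀ → ℂ} (hψ : IsIrrCharacter _ ψ₁)
    (hT : ∀ g : stabW F.iso.subtype W₀, (g : F.iso) ∈ F.TT W₀ → ψ₁ g = ψ₁ 1)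
    (hW : ∀ W' ∈ F.Om k, W₀ ≤ F.perp W' → W₀ ⊓ W' = ⊥ → F.Van c (psf F W₀ ψ₁) W₀ W') :
    ∃ χ : F.iso → ℂ, IsIrrCharacter F.iso χ ∧ χ 1 = dg F k * ψ₁ 1 ∧
      ∀ (z : F.iso) (a : Kˣ), (∀ v, (z : V ≃ₗ[K] V) v = (a : K) • v) →
        (∀ hs : z ∈ stabW F.iso.subtype W₀, c (Matrix.GeneralLinearGroup.scalar (Fin k) a) * ψ₁ ⟨z, hs⟩ = c 1 * ψ₁ 1) →
        χ z = χ 1 := by
  classical
  have := finite_Om F k
  have := finite_iso F
  let _ := Fintype.ofFinite (F.Om k)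
  let _ := Fintype.ofFinite F.iso
  have hcl := Core.isIrr_isClassFunction hc.irr
  have hcl1 := Core.isIrr_isClassFunction hψ
  obtain ⟨W₁, hW₁, hopp⟩ := F.exists_opp hW₀
  have hψT : ∀ W ∈ F.Om k, ∀ g ∈ F.TT W, psf F W₀ ψ₁ g W = psf F W₀ ψ₁ 1 W := by
    intro W hWk g hg
    obtain ⟨x, hx⟩ := F.trans_Om hW₀ hWk
    have h1 := TT_conj hx hg
    have h2 : x⁻¹ * 1 * x ∈ stabW F.iso.subtype W₀ := by
      rw [mul_one, inv_mul_cancel]; exact Subgroup.one_mem _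
    rw [psf_eq hcl1 hx h1.1, psf_eq hcl1 hx h2, hT _ h1]
    congr 1
    apply Subtype.ext
    change 1 = x⁻¹ * 1 * x
    group
  have hirr : IsIrrCharacter (stabW F.iso.subtype W₀) (fun g => psf F W₀ ψ₁ g W₀) := by
    have : (fun g : stabW F.iso.subtype W₀ => psf F W₀ ψ₁ g W₀) = ψ₁ := by
      funext g
      exact psf_self hcl1 g
    rw [this]; exact hψ
  have hval1 : ∀ W ∈ F.Om k, psf F W₀ ψ₁ 1 W = ψ₁ 1 := by
    intro W hWk
    obtain ⟨x, hx⟩ := F.trans_Om hW₀ hWk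
    have h2 : x⁻¹ * 1 * x ∈ stabW F.iso.subtype W₀ := by
      rw [mul_one, inv_mul_cancel]; exact Subgroup.one_mem _
    rw [psf_eq hcl1 hx h2]
    congr 1
    apply Subtype.ext
    change x⁻¹ * 1 * x = 1
    group
  refine ⟨F.hc c (psf F W₀ ψ₁), F.isIrr_hc hc.irr hc.cusp hc.dual (psf_conj hcl1) hψT hW₀
    (fun W hWk => F.trans_Om hW₀ hWk) (F.isIrr_stab hc.irr hψT hW₀ hW₁ hopp hirr) hW, ?_, fun z a hz h => ?_⟩
  · rw [F.hc_one hcl _ hval1, hc.deg]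
    unfold dg
    push_cast
    ring
  · unfold CForm.hc
    refine Finset.sum_congr rfl fun W _ => ?_
    have hfix : ∀ U : Submodule K V, U.map (F.iso.subtype z : V →ₗ[K] V) = U := fun U =>
      map_eq_of_le F.iso.subtype fun w hw => by
        change (z : V ≃ₗ[K] V) w ∈ U
        rw [hz]; exact U.smul_mem _ hw
    have h' : W.1.map (F.iso.subtype 1 : V →ₗ[K] V) = W.1 := Submodule.map_id _
    rw [hval1 W.1 W.2, flagTerm_of F.iso.subtype c (hfix W.1), flagTerm_of F.iso.subtype c h',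
      cl_eq hcl (finBasisOfFinrankEq K W.1 W.2.2)]
    have e2 : res (F.iso.subtype 1) W.1 h' = 1 := by
      ext w
      rfl
    rw [e2, cl_one hcl (finBasisOfFinrankEq K W.1 W.2.2), ← h (hfix W₀)]
    obtain ⟨x, hx⟩ := F.trans_Om hW₀ W.2
    have hzx : x⁻¹ * z * x = z := by
      apply Subtype.ext
      ext v
      change ((x⁻¹ : F.iso) : V ≃ₗ[K] V) ((z : V ≃ₗ[K] V) ((x : V ≃ₗ[K] V) v)) = (z : V ≃ₗ[K] V) v
      rw [hz, hz, map_smul]
      congr 1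
      exact (x : V ≃ₗ[K] V).symm_apply_apply v
    have hzs : x⁻¹ * z * x ∈ stabW F.iso.subtype W₀ := by rw [hzx]; exact hfix W₀
    rw [psf_eq hcl1 hx hzs]
    congr 2
    · ext i j
      rw [coe_glE, LinearMap.toMatrix_apply]
      have e2 : (res (F.iso.subtype z) W.1 (hfix W.1) : W.1 →ₗ[K] W.1) (finBasisOfFinrankEq K W.1 W.2.2 j) =
          (a : K) • (finBasisOfFinrankEq K W.1 W.2.2 j) := Subtype.ext (hz _)
      rw [e2, map_smul, Finsupp.smul_apply, Basis.repr_self, smul_eq_mul, Matrix.GeneralLinearGroup.coe_scalar,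
        Matrix.scalar_apply, Matrix.diagonal_apply, Finsupp.single_apply]
      by_cases hij : i = j
      · simp [hij]
      · rw [if_neg hij, if_neg (Ne.symm hij), mul_zero]
    · exact Subtype.ext hzx

/-- **Harish-Chandra induction, `ψ₀` a constituent of the permutation character on the points.** -/
theorem exists_hc_pt [Finite K] [FiniteDimensional K V] [Finite V] [FiniteDimensional K X] (h : Cmp F F' j W₀)
    {k : ℕ} (hk : 0 < k) {Z : Kˣ → Prop} {c : GL (Fin k) K → ℂ}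
    (hc : Cus K k F.σ Z c) (hW₀ : W₀ ∈ F.Om k) {ψ₀ θ₀ : F'.iso → ℂ} (hψ : IsIrrCharacter _ ψ₀)
    (hθ : IsCharacter _ θ₀) (hsum : ∀ g, ψ₀ g + θ₀ g = (Nat.card {y : F'.Pt // g • y = y} : ℂ)) :
    ∃ χ : F.iso → ℂ, IsIrrCharacter F.iso χ ∧ χ 1 = dg F k * ψ₀ 1 ∧
      ∀ (z : F.iso) (a : Kˣ), (∀ v, (z : V ≃ₗ[K] V) v = (a : K) • v) →
        (∀ z' : F'.iso, (∀ x, (z' : X ≃ₗ[K] X) x = (a : K) • x) →
          c (Matrix.GeneralLinearGroup.scalar (Fin k) a) * ψ₀ z' = c 1 * ψ₀ 1) →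
        χ z = χ 1 := by
  classical
  obtain ⟨ρ, hρ1, hρ2, hρ3⟩ := h.exists_rho
  obtain ⟨r, hr, hrj, hrW⟩ := h.exists_proj
  have hsurj : Function.Surjective ρ := fun b => by
    obtain ⟨g, hg, -⟩ := hρ3 1 b
    exact ⟨g, hg⟩
  have hvan : ∀ W' ∈ F.Om k, W₀ ≤ F.perp W' → W₀ ⊓ W' = ⊥ → F.Van c (psf F W₀ (ψ₀ ∘ ρ)) W₀ W' := by
    intro W' hW' h1 h2
    rcases Nat.lt_or_ge k 2 with hk2 | hk2
    · obtain rfl : k = 1 := by omega
      refine van_pt1 h hc.irr (fun h1 => hc.dual ?_) (Core.isIrr_isCharacter hψ) hθ hsum hρ1 hρ2 hW₀ hW' ‹_› h2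
      rw [h1]
      rfl
    · exact van_pt h hk2 (Core.isIrr_isCharacter hc.irr) hc.cusp (Core.isIrr_isCharacter hψ) hθ hsum hρ1 hρ2 hW₀ hW'
        h1 h2
  obtain ⟨χ, hχ, hχ1, hχz⟩ := exists_hc_van hc hW₀ (Core.isIrr_comp ρ hsurj hψ) (fun g hg => by
    rw [Function.comp_apply, Function.comp_apply, hρ2 g hg, map_one]) hvan
  refine ⟨χ, hχ, by rw [hχ1, Function.comp_apply, map_one], fun z a hz h1 => hχz z a hz fun hs => ?_⟩
  rw [Function.comp_apply, Function.comp_apply, map_one]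
  refine h1 _ fun x => ?_
  have h2 := hrW _ (hρ1 ⟨z, hs⟩ x)
  rw [map_sub, hrj, sub_eq_zero] at h2
  rw [← h2]
  change r ((z : V ≃ₗ[K] V) (j x)) = _
  rw [hz, map_smul, hrj]

end CForm

end Cfsg.Agent.H477.HC
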