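import Cfsg.Agent.H53.HC.Orbit

/-!
# The two constituents of a Harish-Chandra induced character with a quadratic Hecke algebra (hub H5, helper477)

`P ≤ G`, `U ≤ P` normalised by `P`, `w`, an irreducible representation `ρ` of `P` trivial on `U`.
On the induced module `{f : G → M | f (g p) = ρ(p)⁻¹ f(g)}` the operator `T f (g) = ∑ u : U, f (g u w)` satisfies
`T² = A T + |U|` and has trace `0`. If the norm of the induced character is `2`, its two constituents have the degrees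
`-μ D / (λ - μ)` and `λ D / (λ - μ)`, `λ`, `μ` the roots of `t² = A t + |U|`, `D = |G : P| ψ(1)`.
-/

set_option autoImplicit false
set_option linter.unusedSectionVars false

open scoped ComplexConjugate
open Cfsg

namespace Cfsg.Agent.H477.HC

open Cfsg.Agent.OddOrderCharacters.Clifford Cfsg.Agent.Characters Module

universe u v

section Lin

variable {G : Type u} [Fintype G] {M : Type v} [AddCommGroup M] [Module ℂ M] [FiniteDimensional ℂ M]

open Classical in
theorem trace_fun (N : (G → M) →ₗ[ℂ] (G → M)) :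
    LinearMap.trace ℂ _ N = ∑ g, LinearMap.trace ℂ M
      ((LinearMap.proj g).comp (N.comp (LinearMap.single ℂ (fun _ => M) g))) := by
  have h : N = ∑ g, (N.comp (LinearMap.single ℂ (fun _ => M) g)).comp (LinearMap.proj g) := by
    refine LinearMap.ext fun f => ?_
    rw [LinearMap.sum_apply]
    have : f = ∑ g, Pi.single g (f g) := (Finset.univ_sum_single f).symm
    conv_lhs => rw [this]
    rw [map_sum]
    rfl
  conv_lhs => rw [h]
  rw [map_sum]
  refine Finset.sum_congr rfl fun g _ => ?_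
  exact LinearMap.trace_comp_comm' _ _

end Lin

/-- the character of the image of an equivariant idempotent -/
theorem isCharacter_idem {G : Type u} [Group G] {V : Type v} [AddCommGroup V] [Module ℂ V] [FiniteDimensional ℂ V]
    (τ : Representation ℂ G V) (π : V →ₗ[ℂ] V) (h1 : π * π = π) (h2 : ∀ g, τ g * π = π * τ g) :
    IsCharacter G (fun g => LinearMap.trace ℂ V (τ g * π)) := by
  let W : Subrepresentation τ :=
    { toSubmodule := LinearMap.range π
      apply_mem_toSubmodule := by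
        rintro g _ ⟨v, rfl⟩
        exact ⟨τ g v, (LinearMap.congr_fun (h2 g) v).symm⟩ }
  have h3 := Core.isCharacter_of_rep W.toRepresentation
  convert h3 using 1
  ext g
  have h4 : ∀ v, (τ g * π) v ∈ LinearMap.range π := fun v => ⟨τ g v, (LinearMap.congr_fun (h2 g) v).symm⟩
  rw [← LinearMap.trace_restrict_eq_of_forall_mem (LinearMap.range π) (τ g * π) h4]
  change _ = LinearMap.trace ℂ _ (W.toRepresentation g)
  congr 1
  refine LinearMap.ext fun v => ?_
  apply Subtype.ext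
  obtain ⟨v, v', rfl⟩ := v
  exact congrArg (τ g) (LinearMap.congr_fun h1 v')

/-- two characters of sum of norm `2` are irreducible -/
theorem isIrr_of_norm_two {G : Type u} [Group G] [Fintype G] {χ₁ χ₂ : G → ℂ} (h1 : IsCharacter G χ₁)
    (h2 : IsCharacter G χ₂) (h1' : χ₁ ≠ 0) (h2' : χ₂ ≠ 0) (h : classInner (χ₁ + χ₂) (χ₁ + χ₂) = 2) :
    IsIrrCharacter G χ₁ ∧ IsIrrCharacter G χ₂ := by
  obtain ⟨a, ea⟩ := Core.classInner_isNat h1 h1
  obtain ⟨b, eb⟩ := Core.classInner_isNat h1 h2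
  obtain ⟨c, ec⟩ := Core.classInner_isNat h2 h1
  obtain ⟨d, ed⟩ := Core.classInner_isNat h2 h2
  rw [Core.classInner_add_left, Core.classInner_add_right, Core.classInner_add_right, ea, eb, ec, ed] at h
  have h3 : a + b + (c + d) = 2 := by exact_mod_cast h
  have ha : a ≠ 0 := by
    rintro rfl
    rw [Nat.cast_zero] at ea
    exact h1' (Core.classInner_self_eq_zero ea)
  have hd : d ≠ 0 := by
    rintro rfl
    rw [Nat.cast_zero] at ed
    exact h2' (Core.classInner_self_eq_zero ed)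
  have ha1 : a = 1 := by omega
  have hd1 : d = 1 := by omega
  exact ⟨Core.isIrr_of_classInner_self h1 (by rw [ea, ha1, Nat.cast_one]),
    Core.isIrr_of_classInner_self h2 (by rw [ed, hd1, Nat.cast_one])⟩

theorem map_inv_of_one {P : Type u} [Group P] {M : Type v} [AddCommGroup M] [Module ℂ M] {ρ : Representation ℂ P M}
    {p : P} (h : ρ p = 1) : ρ p⁻¹ = 1 := by
  have h1 : ρ (p⁻¹ * p) = 1 := by rw [inv_mul_cancel, map_one]
  rwa [map_mul, h, mul_one] at h1

section Machine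

variable {G : Type u} [Group G] [Fintype G] (P : Subgroup G) [Fintype P] {M : Type v} [AddCommGroup M] [Module ℂ M]
  (ρ : Representation ℂ P M)

/-- left translation -/
def Lt : Representation ℂ G (G → M) where
  toFun x := { toFun := fun f g => f (x⁻¹ * g), map_add' := fun _ _ => rfl, map_smul' := fun _ _ => rfl }
  map_one' := by
    refine LinearMap.ext fun f => ?_
    ext g
    change f (1⁻¹ * g) = f g
    rw [inv_one, one_mul]
  map_mul' x y := by
    refine LinearMap.ext fun f => ?_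
    ext g
    change f ((x * y)⁻¹ * g) = f (y⁻¹ * (x⁻¹ * g))
    rw [mul_inv_rev, mul_assoc]

theorem Lt_apply (x : G) (f : G → M) (g : G) : Lt x f g = f (x⁻¹ * g) := rfl

/-- the projection on the induced module -/
noncomputable def Ep : (G → M) →ₗ[ℂ] (G → M) where
  toFun f g := (Nat.card P : ℂ)⁻¹ • ∑ p : P, ρ p (f (g * p))
  map_add' f f' := by
    ext g
    change (Nat.card P : ℂ)⁻¹ • ∑ p : P, ρ p (f (g * p) + f' (g * p)) = _ • _ + _ • _
    rw [← smul_add, ← Finset.sum_add_distrib]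
    congr 1
    exact Finset.sum_congr rfl fun p _ => map_add _ _ _
  map_smul' c f := by
    ext g
    change (Nat.card P : ℂ)⁻¹ • ∑ p : P, ρ p (c • f (g * p)) = c • (Nat.card P : ℂ)⁻¹ • ∑ p : P, ρ p (f (g * p))
    have h1 : ∑ p : P, ρ p (c • f (g * p)) = c • ∑ p : P, ρ p (f (g * p)) := by
      rw [Finset.smul_sum]
      exact Finset.sum_congr rfl fun p _ => LinearMap.map_smul (ρ p) c (f (g * p))
    rw [h1, smul_comm]

theorem Ep_apply (f : G → M) (g : G) : Ep P ρ f g = (Nat.card P : ℂ)⁻¹ • ∑ p : P, ρ p (f (g * p)) := rfl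

/-- the functions of the induced module -/
def InV (f : G → M) : Prop := ∀ (g : G) (p : P), ρ p (f (g * p)) = f g

theorem inV_Ep (f : G → M) : InV P ρ (Ep P ρ f) := by
  intro g p
  rw [Ep_apply, Ep_apply, map_smul, map_sum]
  congr 1
  refine Fintype.sum_equiv (Equiv.mulLeft p) _ _ fun p' => ?_
  rw [Equiv.coe_mulLeft, ← Module.End.mul_apply, ← map_mul, mul_assoc]
  rfl

theorem Ep_of_inV {f : G → M} (hf : InV P ρ f) : Ep P ρ f = f := by
  ext g
  rw [Ep_apply, Finset.sum_congr rfl fun (p : P) _ => hf g p, Finset.sum_const, Finset.card_univ,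
    ← Nat.card_eq_fintype_card, ← Nat.cast_smul_eq_nsmul ℂ, smul_smul, inv_mul_cancel₀ card_ne_zero', one_smul]

theorem InV.apply_mul {f : G → M} (hf : InV P ρ f) (g : G) (p : P) : f (g * p) = ρ p⁻¹ (f g) := by
  rw [← hf g p, ← Module.End.mul_apply, ← map_mul, inv_mul_cancel, map_one]
  rfl

theorem Ep_Ep : Ep P ρ * Ep P ρ = Ep P ρ := LinearMap.ext fun f => Ep_of_inV P ρ (inV_Ep P ρ f)

theorem Lt_Ep (x : G) : Lt x * Ep P ρ = Ep P ρ * Lt x := by
  refine LinearMap.ext fun f => ?_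
  ext g
  change (Nat.card P : ℂ)⁻¹ • ∑ p : P, ρ p (f (x⁻¹ * g * p)) = (Nat.card P : ℂ)⁻¹ • ∑ p : P, ρ p (f (x⁻¹ * (g * p)))
  congr 1
  exact Finset.sum_congr rfl fun p _ => by rw [mul_assoc]

theorem trace_Lt_Ep [FiniteDimensional ℂ M] (x : G) :
    LinearMap.trace ℂ _ (Lt x * Ep P ρ) = indFun P ρ.character x := by
  classical
  rw [trace_fun, indFun_apply, Finset.mul_sum]
  refine Finset.sum_congr rfl fun g _ => ?_
  have h : (LinearMap.proj g).comp ((Lt x * Ep P ρ).comp (LinearMap.single ℂ (fun _ => M) g)) =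
      (Nat.card P : ℂ)⁻¹ • ∑ p : P, if (p : G) = g⁻¹ * x * g then ρ p else 0 := by
    refine LinearMap.ext fun m => ?_
    change (Nat.card P : ℂ)⁻¹ • ∑ p : P, ρ p ((Pi.single g m : G → M) (x⁻¹ * g * p)) = _
    rw [LinearMap.smul_apply, LinearMap.sum_apply]
    congr 1
    refine Finset.sum_congr rfl fun p _ => ?_
    have h1 : x⁻¹ * g * p = g ↔ (p : G) = g⁻¹ * x * g := by
      constructor
      · intro h
        rw [← mul_left_cancel_iff (a := x⁻¹ * g), h]
        group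
      · intro h
        rw [h]
        group
    by_cases h2 : (p : G) = g⁻¹ * x * g
    · rw [if_pos h2, h1.2 h2, Pi.single_eq_same]
    · rw [if_neg h2, Pi.single_eq_of_ne (fun h => h2 (h1.1 h)), map_zero]
      rfl
  rw [h, map_smul, map_sum, smul_eq_mul]
  congr 1
  by_cases hx : g⁻¹ * x * g ∈ P
  · rw [ext_apply_mem _ _ _ hx, Finset.sum_eq_single (⟨g⁻¹ * x * g, hx⟩ : P)]
    · rw [if_pos rfl]
      rfl
    · intro p _ hp
      rw [if_neg fun h => hp (Subtype.ext h), map_zero]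
    · intro h
      exact absurd (Finset.mem_univ _) h
  · rw [ext_apply_not_mem _ _ _ hx]
    refine Finset.sum_eq_zero fun p _ => ?_
    rw [if_neg (fun h => hx (by rw [← h]; exact p.2)), map_zero]

/-- the operator `T` -/
noncomputable def Top (U : Subgroup G) [Fintype U] (w : G) : (G → M) →ₗ[ℂ] (G → M) where
  toFun f g := ∑ u : U, f (g * u * w)
  map_add' f f' := by
    ext g
    exact Finset.sum_add_distrib
  map_smul' c f := by
    ext g
    change ∑ u : U, c • f (g * u * w) = c • ∑ u : U, f (g * u * w)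
    exact Finset.smul_sum.symm

theorem Top_apply (U : Subgroup G) [Fintype U] (w : G) (f : G → M) (g : G) :
    Top U w f g = ∑ u : U, f (g * u * w) := rfl

theorem Lt_Top (U : Subgroup G) [Fintype U] (w : G) (x : G) :
    Lt x * (Top U w : (G → M) →ₗ[ℂ] (G → M)) = Top U w * Lt x := by
  refine LinearMap.ext fun f => ?_
  ext g
  change ∑ u : U, f (x⁻¹ * g * u * w) = ∑ u : U, f (x⁻¹ * (g * u * w))
  refine Finset.sum_congr rfl fun u _ => ?_
  simp only [mul_assoc]

/-- the data -/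
structure HD (P U : Subgroup G) (w : G) (ρ : Representation ℂ P M) : Prop where
  le : U ≤ P
  nor : ∀ p ∈ P, ∀ u ∈ U, p * u * p⁻¹ ∈ U
  triv : ∀ u : P, (u : G) ∈ U → ρ u = 1
  big : ∀ p : P, ∃ u ∈ U, ∃ p' : P, (p : G) * w = u * w * p' ∧ ρ p' = ρ p
  ww : ∃ p : P, (p : G) = w * w ∧ ρ p = 1
  van : ∀ x : G, x ∉ P → (¬ ∃ u ∈ U, ∃ p ∈ P, x = u * w * p) →
    ∀ m : M, (∀ v : P, x * v * x⁻¹ ∈ U → ρ v m = m) → m = 0
  opp : ∀ u ∈ U, w * u * w ∈ P → u = 1
  wP : w ∉ P

variable {P ρ} {U : Subgroup G} {w : G}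

/-- `ρ(p₁)⁻¹` for `w u w = u₁ w p₁` -/
noncomputable def rr (P : Subgroup G) (ρ : Representation ℂ P M) (U : Subgroup G) (w : G) (u : G) : M →ₗ[ℂ] M := by
  classical
  exact if h : ∃ p : P, ∃ u₁ ∈ U, w * u * w = u₁ * w * p then ρ (h.choose)⁻¹ else 0

theorem HD.inj (h : HD P U w ρ) {u u' : G} (hu : u ∈ U) (hu' : u' ∈ U) {p p' : G} (hp : p ∈ P) (hp' : p' ∈ P)
    (e : u * w * p = u' * w * p') : u = u' ∧ p = p' := by
  have h1 : w⁻¹ * (u'⁻¹ * u) * w = p' * p⁻¹ := by
    have h2 : u'⁻¹ * (u * w * p) * p⁻¹ = u'⁻¹ * (u' * w * p') * p⁻¹ := by rw [e]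
    have h3 : u'⁻¹ * u * w = w * p' * p⁻¹ := by
      calc u'⁻¹ * u * w = u'⁻¹ * (u * w * p) * p⁻¹ := by group
        _ = u'⁻¹ * (u' * w * p') * p⁻¹ := h2
        _ = w * p' * p⁻¹ := by group
    calc w⁻¹ * (u'⁻¹ * u) * w = w⁻¹ * (u'⁻¹ * u * w) := by group
      _ = w⁻¹ * (w * p' * p⁻¹) := by rw [h3]
      _ = p' * p⁻¹ := by group
  have h4 : w * (u'⁻¹ * u) * w ∈ P := by
    obtain ⟨q, hq, -⟩ := h.ww
    have : w * (u'⁻¹ * u) * w = (w * w) * (w⁻¹ * (u'⁻¹ * u) * w) := by group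
    rw [this, h1, ← hq]
    exact P.mul_mem q.2 (P.mul_mem hp' (P.inv_mem hp))
  have h5 := h.opp _ (U.mul_mem (U.inv_mem hu') hu) h4
  have h6 : u = u' := (inv_mul_eq_one.1 h5).symm
  refine ⟨h6, ?_⟩
  rw [h6] at e
  exact mul_left_cancel e

theorem HD.rr_eq (h : HD P U w ρ) {u u₁ : G} (hu₁ : u₁ ∈ U) (p : P) (e : w * u * w = u₁ * w * p) :
    rr P ρ U w u = ρ p⁻¹ := by
  classical
  have hx : ∃ p : P, ∃ u₁ ∈ U, w * u * w = u₁ * w * p := ⟨p, u₁, hu₁, e⟩
  unfold rr
  rw [dif_pos hx]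
  obtain ⟨u₂, hu₂, e₂⟩ := hx.choose_spec
  have := (h.inj hu₂ hu₁ hx.choose.2 p.2 (e₂.symm.trans e)).2
  rw [Subtype.ext this]

theorem HD.inV_Top (h : HD P U w ρ) [Fintype U] {f : G → M} (hf : InV P ρ f) : InV P ρ (Top U w f) := by
  intro g p
  rw [Top_apply, Top_apply, map_sum]
  obtain ⟨u₀, hu₀, p', e, e'⟩ := h.big p
  -- `u ↦ p u p⁻¹ u₀`
  let φ : U ≃ U :=
    { toFun := fun u => ⟨p * u * (p : G)⁻¹ * u₀, U.mul_mem (h.nor p p.2 u u.2) hu₀⟩
      invFun := fun u => ⟨(p : G)⁻¹ * (u * u₀⁻¹) * p, by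
        have := h.nor (p : G)⁻¹ (P.inv_mem p.2) (u * u₀⁻¹) (U.mul_mem u.2 (U.inv_mem hu₀))
        rwa [inv_inv] at this⟩
      left_inv := fun u => by
        apply Subtype.ext
        change (p : G)⁻¹ * (p * u * (p : G)⁻¹ * u₀ * u₀⁻¹) * p = u
        group
      right_inv := fun u => by
        apply Subtype.ext
        change (p : G) * ((p : G)⁻¹ * (u * u₀⁻¹) * p) * (p : G)⁻¹ * u₀ = u
        group }
  refine Fintype.sum_equiv φ _ _ fun u => ?_
  change ρ p (f (g * p * u * w)) = f (g * (p * u * (p : G)⁻¹ * u₀) * w)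
  have h1 : g * p * u * w = g * (p * u * (p : G)⁻¹ * u₀) * w * p' := by
    calc g * p * u * w = g * (p * u * (p : G)⁻¹) * (p * w) := by group
      _ = g * (p * u * (p : G)⁻¹) * (u₀ * w * p') := by rw [e]
      _ = _ := by group
  rw [h1, ← e']
  exact hf _ p'

theorem HD.sum_u (h : HD P U w ρ) [Fintype U] {f : G → M} (hf : InV P ρ f) (g : G) :
    ∑ u : U, f (g * u) = (Nat.card U : ℂ) • f g := by
  have h1 : ∀ u : U, f (g * u) = f g := by
    intro u
    have h2 := hf.apply_mul P ρ g ⟨u, h.le u.2⟩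
    rw [h.triv _ (by exact U.inv_mem u.2)] at h2
    exact h2
  rw [Finset.sum_congr rfl fun u _ => h1 u, Finset.sum_const, Finset.card_univ, ← Nat.card_eq_fintype_card,
    Nat.cast_smul_eq_nsmul]

/-- **`T² = (∑ u, ρ(p₁(u))⁻¹) T + |U|`** -/
theorem HD.Top_Top (h : HD P U w ρ) [Fintype U] {f : G → M} (hf : InV P ρ f) (g : G) :
    Top U w (Top U w f) g = (Nat.card U : ℂ) • f g + (∑ u : U, rr P ρ U w u) (Top U w f g) := by
  classical
  have h0 : Top U w (Top U w f) g = ∑ u' : U, ∑ u : U, f (g * u * (w * u' * w)) := by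
    rw [Top_apply, Finset.sum_comm]
    refine Finset.sum_congr rfl fun u _ => ?_
    rw [Top_apply]
    refine Finset.sum_congr rfl fun u' _ => ?_
    congr 1
    group
  have key : ∀ u' : U, ∑ u : U, f (g * u * (w * u' * w)) =
      (if u' = 1 then (Nat.card U : ℂ) • f g else 0) + rr P ρ U w u' (Top U w f g) := by
    intro u'
    by_cases h1 : u' = 1
    · -- `u' = 1`
      have h3 : rr P ρ U w u' = 0 := by
        unfold rr
        rw [dif_neg]
        rintro ⟨p, u₁, hu₁, e⟩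
        rw [h1] at e
        obtain ⟨q, hq, -⟩ := h.ww
        have hq' : w * w = q := hq.symm
        have e2 : w = u₁⁻¹ * (w * w) * (p : G)⁻¹ := by
          have : w * w = u₁ * w * p := by simpa using e
          rw [this]; group
        apply h.wP
        rw [e2, hq']
        exact P.mul_mem (P.mul_mem (P.inv_mem (h.le hu₁)) q.2) (P.inv_mem p.2)
      rw [if_pos h1, h3, LinearMap.zero_apply, add_zero, ← h.sum_u hf]
      refine Finset.sum_congr rfl fun u _ => ?_
      obtain ⟨q, hq, hq1⟩ := h.ww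
      have e3 : g * u * (w * u' * w) = g * u * q := by
        rw [h1, hq, OneMemClass.coe_one, mul_one]
      rw [e3, hf.apply_mul P ρ, map_inv_of_one hq1]
      rfl
    · rw [if_neg h1, zero_add]
      by_cases hB : ∃ p : P, ∃ u₁ ∈ U, w * u' * w = u₁ * w * p
      · obtain ⟨p, u₁, hu₁, e⟩ := hB
        rw [h.rr_eq hu₁ p e, Top_apply, map_sum]
        refine Fintype.sum_equiv (Equiv.mulRight (⟨u₁, hu₁⟩ : U)) _ _ fun u => ?_
        change f (g * u * (w * u' * w)) = ρ p⁻¹ (f (g * (u * u₁) * w))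
        rw [← hf.apply_mul P ρ, e]
        congr 1
        group
      · have h3 : rr P ρ U w u' = 0 := by
          unfold rr
          rw [dif_neg hB]
        rw [h3, LinearMap.zero_apply]
        refine h.van (w * u' * w) (fun hP => h1 (Subtype.ext (h.opp u' u'.2 hP)))
          (fun ⟨u₁, hu₁, p, hp, e⟩ => hB ⟨⟨p, hp⟩, u₁, hu₁, e⟩) _ fun v hv => ?_
        have e4 : ∑ u : U, f (g * u * (w * u' * w)) =
            ∑ u : U, f (g * (u * ((w * u' * w) * v * (w * u' * w)⁻¹)) * (w * u' * w)) :=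
          (Fintype.sum_equiv (Equiv.mulRight (⟨_, hv⟩ : U)) _ _ fun u => rfl).symm
        conv_lhs => rw [e4, map_sum]
        refine Finset.sum_congr rfl fun u _ => ?_
        have e5 : g * (u * ((w * u' * w) * v * (w * u' * w)⁻¹)) * (w * u' * w) = g * u * (w * u' * w) * v := by group
        rw [e5]
        exact hf _ v
  rw [h0, Finset.sum_congr rfl fun u' _ => key u', Finset.sum_add_distrib, LinearMap.sum_apply]
  congr 1
  rw [Finset.sum_ite_eq' Finset.univ (1 : U) (fun _ => (Nat.card U : ℂ) • f g), if_pos (Finset.mem_univ _)]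

theorem HD.trace_Top (h : HD P U w ρ) [Fintype U] [FiniteDimensional ℂ M] :
    LinearMap.trace ℂ _ (Top U w * Ep P ρ) = 0 := by
  classical
  rw [trace_fun]
  refine Finset.sum_eq_zero fun g _ => ?_
  have h0 : (LinearMap.proj g).comp ((Top U w * Ep P ρ).comp (LinearMap.single ℂ (fun _ => M) g)) = 0 := by
    refine LinearMap.ext fun m => ?_
    change ∑ u : U, ((Nat.card P : ℂ)⁻¹ • ∑ p : P, ρ p ((Pi.single g m : G → M) (g * u * w * p))) = 0
    refine Finset.sum_eq_zero fun u _ => ?_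
    rw [Finset.sum_eq_zero, smul_zero]
    intro p _
    rw [Pi.single_eq_of_ne, map_zero]
    intro e
    apply h.wP
    have : w = (u : G)⁻¹ * (p : G)⁻¹ := by
      calc w = (u : G)⁻¹ * g⁻¹ * (g * u * w * p) * (p : G)⁻¹ := by group
        _ = (u : G)⁻¹ * g⁻¹ * g * (p : G)⁻¹ := by rw [e]
        _ = _ := by group
    rw [this]
    exact P.mul_mem (P.inv_mem (h.le u.2)) (P.inv_mem p.2)
  rw [h0, map_zero]

/-! ### the norm -/

theorem character_mul_of_one {P : Type u} [Group P] {M : Type v} [AddCommGroup M] [Module ℂ M]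
    {ρ : Representation ℂ P M} {u : P} (h : ρ u = 1) (p : P) : ρ.character (u * p) = ρ.character p := by
  unfold Representation.character
  rw [map_mul, h, one_mul]

theorem HD.char_w (h : HD P U w ρ) (t : P) (ht : w⁻¹ * (t : G) * w ∈ P) :
    ρ.character ⟨w⁻¹ * (t : G) * w, ht⟩ = ρ.character t := by
  obtain ⟨u, hu, p', e, e'⟩ := h.big t
  have h1 : u * w * p' = 1 * w * (⟨w⁻¹ * (t : G) * w, ht⟩ : P) := by
    rw [← e]
    change (t : G) * w = 1 * w * (w⁻¹ * (t : G) * w)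
    group
  obtain ⟨-, h2⟩ := h.inj hu U.one_mem p'.2 (⟨w⁻¹ * (t : G) * w, ht⟩ : P).2 h1
  have h3 : p' = ⟨w⁻¹ * (t : G) * w, ht⟩ := Subtype.ext h2
  rw [← h3]
  unfold Representation.character
  rw [e']

theorem HD.twist_big (h : HD P U w ρ) [FiniteDimensional ℂ M] {u p : G} (hu : u ∈ U) (hp : p ∈ P) :
    twist P ρ.character ρ.character (u * w * p) = twist P ρ.character ρ.character w := by
  have hcf : IsClassFunction P ρ.character := Core.isCharacter_isClassFunction (Core.isCharacter_of_rep ρ)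
  have hext : ∀ y : G, extendByZero P ρ.character (p⁻¹ * y * p) = extendByZero P ρ.character y := by
    intro y
    by_cases hy : y ∈ P
    · rw [ext_apply_mem _ _ _ hy, ext_apply_mem _ _ _ (P.mul_mem (P.mul_mem (P.inv_mem hp) hy) hp)]
      have := hcf ⟨y, hy⟩ (⟨p, hp⟩⁻¹ : P)
      rw [← this]
      congr 1
      apply Subtype.ext
      change p⁻¹ * y * p = p⁻¹ * y * p⁻¹⁻¹
      rw [inv_inv]
    · rw [ext_apply_not_mem _ _ _ hy, ext_apply_not_mem]
      intro h'
      apply hy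
      have := P.mul_mem (P.mul_mem hp h') (P.inv_mem hp)
      have e : p * (p⁻¹ * y * p) * p⁻¹ = y := by group
      rwa [e] at this
  rw [twist_def, twist_def]
  have hu' : u ∈ P := h.le hu
  refine (Fintype.sum_equiv (MulAut.conj (⟨u, hu'⟩ : P)).toEquiv _ _ fun t => ?_).symm
  change ρ.character t * conj (extendByZero P ρ.character (w⁻¹ * t * w)) =
    ρ.character ((⟨u, hu'⟩ : P) * t * (⟨u, hu'⟩ : P)⁻¹) *
      conj (extendByZero P ρ.character ((u * w * p)⁻¹ * (u * t * u⁻¹) * (u * w * p)))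
  rw [hcf]
  congr 2
  have e : (u * w * p)⁻¹ * (u * t * u⁻¹) * (u * w * p) = p⁻¹ * (w⁻¹ * t * w) * p := by group
  rw [e, hext]

open Classical in
theorem HD.card_twist (h : HD P U w ρ) [Fintype U] [FiniteDimensional ℂ M] (hirr : IsIrrCharacter P ρ.character) :
    (Nat.card U : ℂ) * twist P ρ.character ρ.character w = Nat.card P := by
  have h1 : twist P ρ.character ρ.character w =
      ∑ t : {t : P // w⁻¹ * (t : G) * w ∈ P}, ρ.character t * conj (ρ.character t) := by
    rw [twist_def]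
    rw [← Finset.sum_subtype (Finset.univ.filter fun t : P => w⁻¹ * (t : G) * w ∈ P) (fun t => by simp)
      (fun t : P => ρ.character t * conj (ρ.character t)), Finset.sum_filter]
    refine Finset.sum_congr rfl fun t _ => ?_
    split_ifs with ht
    · rw [ext_apply_mem _ _ _ ht, h.char_w t ht]
    · rw [ext_apply_not_mem _ _ _ ht, map_zero, mul_zero]
  have h2 := Core.classInner_irr_self hirr
  rw [Core.classInner_def] at h2
  have h3 : ∑ p : P, ρ.character p * conj (ρ.character p) = Nat.card P := by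
    have h0 : (Nat.card P : ℂ) ≠ 0 := Core.card_ne_zero_complex
    rw [← mul_one (Nat.card P : ℂ), ← h2, ← mul_assoc, mul_inv_cancel₀ h0, one_mul]
  let φ : U × {t : P // w⁻¹ * (t : G) * w ∈ P} → P := fun x => ⟨x.1, h.le x.1.2⟩ * x.2
  have hφ : Function.Bijective φ := by
    constructor
    · rintro ⟨u, t, ht⟩ ⟨u', t', ht'⟩ e
      have e1 : (u : G) * t = u' * t' := congrArg (Subtype.val) e
      have e2 : (u : G) * w * (w⁻¹ * (t : G) * w) = u' * w * (w⁻¹ * (t' : G) * w) := by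
        calc (u : G) * w * (w⁻¹ * (t : G) * w) = (u * t) * w := by group
          _ = (u' * t') * w := by rw [e1]
          _ = _ := by group
      obtain ⟨e3, e4⟩ := h.inj u.2 u'.2 ht ht' e2
      have e5 : u = u' := Subtype.ext e3
      have e6 : (t : G) = t' := by
        rw [e3] at e1
        exact mul_left_cancel e1
      have e7 : t = t' := Subtype.ext e6
      subst e5; subst e7
      rfl
    · intro p
      obtain ⟨u, hu, p', e, -⟩ := h.big p
      have e1 : (u : G)⁻¹ * p = w * p' * w⁻¹ := by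
        calc (u : G)⁻¹ * p = u⁻¹ * (p * w) * w⁻¹ := by group
          _ = u⁻¹ * (u * w * p') * w⁻¹ := by rw [e]
          _ = _ := by group
      refine ⟨⟨⟨u, hu⟩, ⟨⟨u, h.le hu⟩⁻¹ * p, ?_⟩⟩, ?_⟩
      · change w⁻¹ * (u⁻¹ * (p : G)) * w ∈ P
        rw [e1]
        have : w⁻¹ * (w * (p' : G) * w⁻¹) * w = p' := by group
        rw [this]
        exact p'.2
      · apply Subtype.ext
        change u * (u⁻¹ * (p : G)) = p
        group
  rw [h1, ← h3, ← (Equiv.ofBijective φ hφ).sum_comp, Fintype.sum_prod_type]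
  have h4 : ∀ u : U, ∑ t : {t : P // w⁻¹ * (t : G) * w ∈ P}, ρ.character (Equiv.ofBijective φ hφ (u, t)) *
      conj (ρ.character (Equiv.ofBijective φ hφ (u, t))) =
      ∑ t : {t : P // w⁻¹ * (t : G) * w ∈ P}, ρ.character t * conj (ρ.character t) := by
    intro u
    refine Finset.sum_congr rfl fun t _ => ?_
    have : ρ.character (Equiv.ofBijective φ hφ (u, t)) = ρ.character t :=
      character_mul_of_one (h.triv ⟨u, h.le u.2⟩ u.2) _
    rw [this]
  rw [Finset.sum_congr rfl fun u _ => h4 u, Finset.sum_const, Finset.card_univ, ← Nat.card_eq_fintype_card,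
    nsmul_eq_mul]

theorem HD.twist_van (h : HD P U w ρ) [Fintype U] [FiniteDimensional ℂ M] {x : G} (hx : x ∉ P)
    (hx' : ¬ ∃ u ∈ U, ∃ p ∈ P, x = u * w * p) : twist P ρ.character ρ.character x = 0 := by
  classical
  have hx1 : x⁻¹ ∉ P := fun h' => hx (by simpa using P.inv_mem h')
  have hx2 : ¬ ∃ u ∈ U, ∃ p ∈ P, x⁻¹ = u * w * p := by
    rintro ⟨u, hu, p, hp, e⟩
    apply hx'
    obtain ⟨q, hq, -⟩ := h.ww
    -- `x = p⁻¹ w⁻¹ u⁻¹ = p⁻¹ w (w w)⁻¹ u⁻¹`
    obtain ⟨u₂, hu₂, p₂, e₂, -⟩ := h.big (⟨p, hp⟩⁻¹ : P)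
    have e2' : p⁻¹ * w = u₂ * w * p₂ := e₂
    refine ⟨u₂, hu₂, p₂ * ((q : G)⁻¹ * u⁻¹), P.mul_mem p₂.2 (P.mul_mem (P.inv_mem q.2) (P.inv_mem (h.le hu))), ?_⟩
    calc x = (x⁻¹)⁻¹ := (inv_inv x).symm
      _ = (u * w * p)⁻¹ := by rw [e]
      _ = (p⁻¹ * w) * ((w * w)⁻¹ * u⁻¹) := by group
      _ = (u₂ * w * p₂) * ((q : G)⁻¹ * u⁻¹) := by rw [e2', hq]
      _ = _ := by group
  let L : Subgroup G := P ⊓ (U.comap (MulAut.conj x⁻¹).toMonoidHom)
  have hL : ∀ l : G, l ∈ L ↔ l ∈ P ∧ x⁻¹ * l * x ∈ U := by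
    intro l
    change l ∈ P ∧ x⁻¹ * l * x⁻¹⁻¹ ∈ U ↔ _
    rw [inv_inv]
  let _ : Fintype L := Fintype.ofFinite _
  have hchar := Core.isCharacter_of_rep ρ
  refine Cfsg.Agent.H53.HC.twist_eq_zero_of_sub P hchar hchar x L (fun l hl => ((hL l).1 hl).1)
    (fun l hl => h.le ((hL l).1 hl).2) ?_
  have h1 : ∀ l : L, ρ.character ⟨l, ((hL l).1 l.2).1⟩ *
      conj (ρ.character ⟨x⁻¹ * l * x, h.le ((hL l).1 l.2).2⟩) =
      ρ.character ⟨l, ((hL l).1 l.2).1⟩ * conj (ρ.character 1) := by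
    intro l
    congr 2
    change LinearMap.trace ℂ M (ρ _) = LinearMap.trace ℂ M (ρ 1)
    rw [h.triv _ ((hL l).1 l.2).2, map_one ρ]
  rw [Finset.sum_congr rfl fun l _ => h1 l, ← Finset.sum_mul]
  have h2 : ∑ l : L, ρ ⟨l, ((hL l).1 l.2).1⟩ = 0 := by
    refine LinearMap.ext fun m => ?_
    refine h.van x⁻¹ hx1 hx2 _ fun v hv => ?_
    rw [inv_inv] at hv
    rw [LinearMap.sum_apply, map_sum]
    have hvL : (v : G) ∈ L := (hL v).2 ⟨v.2, hv⟩
    refine Fintype.sum_equiv (Equiv.mulLeft (⟨v, hvL⟩ : L)) _ _ fun l => ?_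
    rw [← Module.End.mul_apply, ← map_mul]
    rfl
  have h3 : ∑ l : L, ρ.character ⟨l, ((hL l).1 l.2).1⟩ = 0 := by
    have := congrArg (LinearMap.trace ℂ M) h2
    rw [map_sum, map_zero] at this
    exact this
  rw [h3, zero_mul]

theorem HD.norm_two (h : HD P U w ρ) [Fintype U] [FiniteDimensional ℂ M] (hirr : IsIrrCharacter P ρ.character) :
    classInner (indFun P ρ.character) (indFun P ρ.character) = 2 := by
  classical
  rw [classInner_indFun_indFun]
  let φ : U × P → G := fun x => x.1 * w * x.2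
  have hφ : Function.Injective φ := by
    rintro ⟨u, p⟩ ⟨u', p'⟩ e
    obtain ⟨e1, e2⟩ := h.inj u.2 u'.2 p.2 p'.2 e
    rw [Subtype.ext e1, Subtype.ext e2]
  have hφP : ∀ x, φ x ∉ P := by
    rintro ⟨u, p⟩ hP
    apply h.wP
    have : w = (u : G)⁻¹ * (u * w * p) * (p : G)⁻¹ := by group
    rw [this]
    exact P.mul_mem (P.mul_mem (P.inv_mem (h.le u.2)) hP) (P.inv_mem p.2)
  have h0 : (Nat.card P : ℂ) ≠ 0 := card_ne_zero'
  have h1 : ∑ x : G, twist P ρ.character ρ.character x =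
      ∑ x : G, (if x ∈ P then twist P ρ.character ρ.character x else 0) +
        ∑ x : G, (if x ∈ Set.range φ then twist P ρ.character ρ.character x else 0) := by
    rw [← Finset.sum_add_distrib]
    refine Finset.sum_congr rfl fun x _ => ?_
    by_cases hx : x ∈ P
    · rw [if_pos hx, if_neg, add_zero]
      rintro ⟨y, rfl⟩
      exact hφP y hx
    · rw [if_neg hx, zero_add]
      split_ifs with hx'
      · rfl
      · refine h.twist_van hx ?_
        rintro ⟨u, hu, p, hp, rfl⟩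
        exact hx' ⟨(⟨u, hu⟩, ⟨p, hp⟩), rfl⟩
  have h2 : ∑ x : G, (if x ∈ P then twist P ρ.character ρ.character x else 0) = (Nat.card P : ℂ) * Nat.card P := by
    rw [sum_eq_sum_subgroup P _ (fun g hg => if_neg hg)]
    have : ∀ x : P, (if (x : G) ∈ P then twist P ρ.character ρ.character x else 0) = (Nat.card P : ℂ) := by
      intro x
      rw [if_pos x.2, twist_of_mem P _ _ (Core.isIrr_isClassFunction hirr) _ x.2, Core.classInner_irr_self hirr,
        mul_one]
    rw [Finset.sum_congr rfl fun x _ => this x, Finset.sum_const, Finset.card_univ, ← Nat.card_eq_fintype_card,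
      nsmul_eq_mul]
  have h3 : ∑ x : G, (if x ∈ Set.range φ then twist P ρ.character ρ.character x else 0) =
      (Nat.card P : ℂ) * Nat.card P := by
    rw [← Fintype.sum_of_injective φ hφ (fun _ => twist P ρ.character ρ.character w)
      (fun x => if x ∈ Set.range φ then twist P ρ.character ρ.character x else 0) (fun x hx => if_neg hx)
      (fun x => by
        rw [if_pos ⟨x, rfl⟩]
        exact (h.twist_big x.1.2 x.2.2).symm)]
    rw [Finset.sum_const, Finset.card_univ, Fintype.card_prod, ← Nat.card_eq_fintype_card,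
      ← Nat.card_eq_fintype_card, nsmul_eq_mul, Nat.cast_mul]
    rw [← h.card_twist hirr]
    ring
  rw [h1, h2, h3]
  field_simp
  ring

/-- **The two constituents.** -/
theorem HD.exists_chars (h : HD P U w ρ) [Fintype U] [FiniteDimensional ℂ M] (hirr : IsIrrCharacter P ρ.character)
    {A lam mu : ℂ} (hA : ∑ u : U, rr P ρ U w u = A • (1 : M →ₗ[ℂ] M)) (h1 : lam + mu = A)
    (h2 : lam * mu = -(Nat.card U : ℂ)) (hne : lam ≠ mu) :
    ∃ χ₁ χ₂ : G → ℂ, IsIrrCharacter G χ₁ ∧ IsIrrCharacter G χ₂ ∧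
      (lam - mu) * χ₁ 1 = -mu * ((P.index : ℂ) * ρ.character 1) ∧
      (lam - mu) * χ₂ 1 = lam * ((P.index : ℂ) * ρ.character 1) ∧
      ∀ z : P, (∀ g : G, g * z = z * g) → ρ z = 1 → χ₁ z = χ₁ 1 ∧ χ₂ z = χ₂ 1 := by
  classical
  have hU : (Nat.card U : ℂ) ≠ 0 := card_ne_zero'
  have hlam : lam ≠ 0 := by
    rintro rfl
    rw [zero_mul] at h2
    exact hU (neg_eq_zero.1 h2.symm)
  have hmu : mu ≠ 0 := by
    rintro rfl
    rw [mul_zero] at h2
    exact hU (neg_eq_zero.1 h2.symm)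
  have hd : lam - mu ≠ 0 := sub_ne_zero.2 hne
  let E := Ep P ρ
  let T := Top U w * Ep P ρ
  have hEE : E * E = E := Ep_Ep P ρ
  have hET : E * T = T := LinearMap.ext fun f => Ep_of_inV P ρ (h.inV_Top (inV_Ep P ρ f))
  have hTE : T * E = T := by
    change Top U w * Ep P ρ * Ep P ρ = Top U w * Ep P ρ
    rw [mul_assoc, Ep_Ep]
  have hTT : T * T = A • T + (Nat.card U : ℂ) • E := by
    refine LinearMap.ext fun f => ?_
    have hf := inV_Ep P ρ f
    change Top U w (Ep P ρ (Top U w (Ep P ρ f))) = A • Top U w (Ep P ρ f) + (Nat.card U : ℂ) • Ep P ρ f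
    rw [Ep_of_inV P ρ (h.inV_Top hf)]
    ext g
    rw [h.Top_Top hf, hA, add_comm]
    rfl
  have hLE : ∀ g : G, Lt g * E = E * Lt g := Lt_Ep P ρ
  have hLT : ∀ g : G, Lt g * T = T * Lt g := by
    intro g
    change Lt g * (Top U w * Ep P ρ) = Top U w * Ep P ρ * Lt g
    rw [← mul_assoc, Lt_Top, mul_assoc, Lt_Ep, mul_assoc]
  let π₁ : (G → M) →ₗ[ℂ] (G → M) := (lam - mu)⁻¹ • (T - mu • E)
  let π₂ : (G → M) →ₗ[ℂ] (G → M) := (lam - mu)⁻¹ • (lam • E - T)
  have hA' : A = lam + mu := h1.symm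
  have hU' : (Nat.card U : ℂ) = -(lam * mu) := by rw [h2, neg_neg]
  have i1 : (T - mu • E) * (T - mu • E) = (lam - mu) • (T - mu • E) := by
    rw [sub_mul, mul_sub, mul_sub, hTT, smul_mul_assoc, smul_mul_assoc, mul_smul_comm, mul_smul_comm, hET, hTE, hEE,
      hA', hU']
    module
  have i2 : (lam • E - T) * (lam • E - T) = (lam - mu) • (lam • E - T) := by
    rw [sub_mul, mul_sub, mul_sub, hTT, smul_mul_assoc, smul_mul_assoc, mul_smul_comm, mul_smul_comm, hET, hTE, hEE,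
      hA', hU']
    module
  have p1 : π₁ * π₁ = π₁ := by
    change ((lam - mu)⁻¹ • (T - mu • E)) * ((lam - mu)⁻¹ • (T - mu • E)) = (lam - mu)⁻¹ • (T - mu • E)
    rw [smul_mul_smul_comm, i1, smul_smul]
    congr 1
    field_simp
  have p2 : π₂ * π₂ = π₂ := by
    change ((lam - mu)⁻¹ • (lam • E - T)) * ((lam - mu)⁻¹ • (lam • E - T)) = (lam - mu)⁻¹ • (lam • E - T)
    rw [smul_mul_smul_comm, i2, smul_smul]
    congr 1
    field_simp
  have c1 : ∀ g : G, Lt g * π₁ = π₁ * Lt g := by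
    intro g
    change Lt g * ((lam - mu)⁻¹ • (T - mu • E)) = ((lam - mu)⁻¹ • (T - mu • E)) * Lt g
    rw [mul_smul_comm, smul_mul_assoc, mul_sub, sub_mul, mul_smul_comm, smul_mul_assoc, hLE, hLT]
  have c2 : ∀ g : G, Lt g * π₂ = π₂ * Lt g := by
    intro g
    change Lt g * ((lam - mu)⁻¹ • (lam • E - T)) = ((lam - mu)⁻¹ • (lam • E - T)) * Lt g
    rw [mul_smul_comm, smul_mul_assoc, mul_sub, sub_mul, mul_smul_comm, smul_mul_assoc, hLE, hLT]
  have k1 := isCharacter_idem (Lt : Representation ℂ G (G → M)) π₁ p1 c1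
  have k2 := isCharacter_idem (Lt : Representation ℂ G (G → M)) π₂ p2 c2
  set χ₁ : G → ℂ := fun g => LinearMap.trace ℂ _ (Lt g * π₁) with hχ₁
  set χ₂ : G → ℂ := fun g => LinearMap.trace ℂ _ (Lt g * π₂) with hχ₂
  have hsum : π₁ + π₂ = E := by
    change (lam - mu)⁻¹ • (T - mu • E) + (lam - mu)⁻¹ • (lam • E - T) = E
    rw [← smul_add]
    have : T - mu • E + (lam • E - T) = (lam - mu) • E := by module
    rw [this, smul_smul, inv_mul_cancel₀ hd, one_smul]
  have hs : χ₁ + χ₂ = indFun P ρ.character := by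
    ext g
    rw [← trace_Lt_Ep]
    change LinearMap.trace ℂ _ (Lt g * π₁) + LinearMap.trace ℂ _ (Lt g * π₂) = LinearMap.trace ℂ _ (Lt g * E)
    rw [← map_add, ← mul_add, hsum]
  have hL1 : (Lt (1 : G) : (G → M) →ₗ[ℂ] (G → M)) = 1 := map_one _
  have htE : LinearMap.trace ℂ _ E = (P.index : ℂ) * ρ.character 1 := by
    have h3 := trace_Lt_Ep P ρ 1
    rw [hL1, one_mul, Cfsg.Agent.H53.HC.indFun_one] at h3
    exact h3
  have htT : LinearMap.trace ℂ _ T = 0 := h.trace_Top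
  have d1 : (lam - mu) * χ₁ 1 = -mu * ((P.index : ℂ) * ρ.character 1) := by
    change (lam - mu) * LinearMap.trace ℂ _ (Lt (1 : G) * ((lam - mu)⁻¹ • (T - mu • E))) = _
    rw [hL1, one_mul, map_smul, map_sub, map_smul, htE, htT, smul_eq_mul, smul_eq_mul, ← mul_assoc,
      mul_inv_cancel₀ hd, one_mul]
    ring
  have d2 : (lam - mu) * χ₂ 1 = lam * ((P.index : ℂ) * ρ.character 1) := by
    change (lam - mu) * LinearMap.trace ℂ _ (Lt (1 : G) * ((lam - mu)⁻¹ • (lam • E - T))) = _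
    rw [hL1, one_mul, map_smul, map_sub, map_smul, htE, htT, smul_eq_mul, smul_eq_mul, ← mul_assoc,
      mul_inv_cancel₀ hd, one_mul]
    ring
  have hD : (P.index : ℂ) * ρ.character 1 ≠ 0 :=
    mul_ne_zero (Nat.cast_ne_zero.2 P.index_ne_zero_of_finite) (Core.isIrr_apply_one_ne_zero hirr)
  have n1 : χ₁ ≠ 0 := by
    intro h0
    rw [h0, Pi.zero_apply, mul_zero] at d1
    exact mul_ne_zero (neg_ne_zero.2 hmu) hD d1.symm
  have n2 : χ₂ ≠ 0 := by
    intro h0
    rw [h0, Pi.zero_apply, mul_zero] at d2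
    exact mul_ne_zero hlam hD d2.symm
  obtain ⟨r1, r2⟩ := isIrr_of_norm_two k1 k2 n1 n2 (by rw [hs]; exact h.norm_two hirr)
  refine ⟨χ₁, χ₂, r1, r2, d1, d2, fun z hz hz1 => ?_⟩
  have hLE1 : Lt (z : G) * E = E := by
    refine LinearMap.ext fun f => ?_
    have hf := inV_Ep P ρ f
    ext g
    change Ep P ρ f ((z : G)⁻¹ * g) = Ep P ρ f g
    have e1 : (z : G)⁻¹ * g = g * (z⁻¹ : P) := by
      have := hz g
      calc (z : G)⁻¹ * g = (z : G)⁻¹ * (g * z) * (z : G)⁻¹ := by group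
        _ = (z : G)⁻¹ * (z * g) * (z : G)⁻¹ := by rw [this]
        _ = g * (z⁻¹ : P) := by
          change _ = g * (z : G)⁻¹
          group
    rw [e1, hf.apply_mul P ρ, inv_inv, hz1]
    rfl
  have hLT1 : Lt (z : G) * T = T := by rw [← hET, ← mul_assoc, hLE1]
  have hP1 : Lt (z : G) * π₁ = π₁ := by
    change Lt (z : G) * ((lam - mu)⁻¹ • (T - mu • E)) = (lam - mu)⁻¹ • (T - mu • E)
    rw [mul_smul_comm, mul_sub, mul_smul_comm, hLE1, hLT1]
  have hP2 : Lt (z : G) * π₂ = π₂ := by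
    change Lt (z : G) * ((lam - mu)⁻¹ • (lam • E - T)) = (lam - mu)⁻¹ • (lam • E - T)
    rw [mul_smul_comm, mul_sub, mul_smul_comm, hLE1, hLT1]
  constructor
  · change LinearMap.trace ℂ _ (Lt (z : G) * π₁) = LinearMap.trace ℂ _ (Lt (1 : G) * π₁)
    rw [hP1, hL1, one_mul]
  · change LinearMap.trace ℂ _ (Lt (z : G) * π₂) = LinearMap.trace ℂ _ (Lt (1 : G) * π₂)
    rw [hP2, hL1, one_mul]

end Machine

end Cfsg.Agent.H477.HC
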