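import Cfsg.Agent.H477.HC.Form
import Cfsg.Agent.Characters.Values

/-!
# Harish-Chandra induction in classical groups (hub H5, helper477)

`F : CForm K V`, `F.Om k` the set of totally singular `k`-subspaces, `c` a class function of `GL (Fin k) K`,
`ψ : F.iso → Submodule K V → ℂ` (a function of the action on `Wᗮ / W`).

`F.hc c ψ g = ∑ c (g | W) ψ g W` over the `g`-invariant `W ∈ F.Om k`.

`isIrr_hc` : it is irreducible if `c` is a cuspidal irreducible character with `c ∘ F.iota ≠ c`, `c ⊗ ψ` is irreducible on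
the stabiliser of `W₀` (+ a condition `hperp` on the orthogonal disjoint pairs, see `hperp_of_one`).
-/

set_option autoImplicit false

open scoped ComplexConjugate
open Cfsg

namespace Cfsg.Agent.H477.HC

open Cfsg.Agent.OddOrderCharacters.Clifford Cfsg.Agent.Characters MulAction Module Cfsg.Agent.H53.HC

universe u v w

/-- a character is constant on the cosets of its kernel -/
theorem kernel_mul {L : Type*} [Group L] [Finite L] {χ : L → ℂ} (hχ : IsCharacter L χ) {k : L} (hk : χ k = χ 1)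
    (x : L) : χ (x * k) = χ x := by
  obtain ⟨n, ρ, rfl⟩ := hχ
  have h1 : ρ k = LinearMap.id := by
    rw [← Cfsg.Agent.Characters.Values.character_eq_finrank_iff, hk]
    simp
  have h2 : ρ (x * k) = ρ x := by
    rw [map_mul, h1]
    rfl
  change LinearMap.trace ℂ _ (ρ (x * k)) = LinearMap.trace ℂ _ (ρ x)
  rw [h2]

section Rad

variable {K : Type u} [Field K] {W : Type v} [AddCommGroup W] [Module K W]

/-- the automorphism `1 + a`, `a` of image in `D` and trivial on `D` -/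
noncomputable def oneAdd (D : Submodule K W) (a : W →ₗ[K] W) (h1 : ∀ w, a w ∈ D) (h2 : ∀ d ∈ D, a d = 0) :
    W ≃ₗ[K] W :=
  LinearEquiv.ofLinearMap (LinearMap.id + a) (LinearMap.id - a)
    (by ext w; simp [h2 _ (h1 w)]) (by ext w; simp [h2 _ (h1 w)])

@[simp] theorem oneAdd_apply (D : Submodule K W) (a : W →ₗ[K] W) (h1 : ∀ w, a w ∈ D) (h2 : ∀ d ∈ D, a d = 0) (w : W) :
    oneAdd D a h1 h2 w = w + a w := rfl

/-- `radU D` is generated by the transvections -/
theorem mem_of_transv [FiniteDimensional K W] (D : Submodule K W) (H : Subgroup (W ≃ₗ[K] W))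
    (h : ∀ c ∈ D, ∀ f : W →ₗ[K] K, (∀ d ∈ D, f d = 0) → ∃ u ∈ H, ∀ w, u w = w + f w • c) :
    radU D ≤ H := by
  classical
  intro u hu
  let b := finBasis K D
  -- coordinates
  let a : W →ₗ[K] D := ((u : W →ₗ[K] W) - LinearMap.id).codRestrict D hu.1
  have ha : ∀ w, (a w : W) = u w - w := fun w => rfl
  let f : Fin (finrank K D) → (W →ₗ[K] K) := fun j => (b.coord j).comp a
  have hf0 : ∀ j, ∀ d ∈ D, f j d = 0 := by
    intro j d hd
    have : a d = 0 := Subtype.ext (by rw [ha, hu.2 d hd, sub_self]; rfl)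
    change b.coord j (a d) = 0
    rw [this, map_zero]
  have key : ∀ s : Finset (Fin (finrank K D)), ∃ v ∈ H, ∀ w, v w = w + ∑ j ∈ s, f j w • (b j : W) := by
    intro s
    induction s using Finset.induction_on with
    | empty => exact ⟨1, H.one_mem, fun w => by simp⟩
    | insert i s hi ih =>
      obtain ⟨v, hv, hv'⟩ := ih
      obtain ⟨t, ht, ht'⟩ := h (b i) (b i).2 (f i) (hf0 i)
      refine ⟨t * v, H.mul_mem ht hv, fun w => ?_⟩
      have e1 : f i (v w) = f i w := by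
        rw [hv', map_add, map_sum]
        rw [Finset.sum_eq_zero, add_zero]
        intro j _
        rw [map_smul, hf0 i _ (b j).2, smul_zero]
      rw [LinearEquiv.mul_apply, ht', e1, hv', Finset.sum_insert hi]
      abel
  obtain ⟨v, hv, hv'⟩ := key Finset.univ
  have : v = u := by
    ext w
    rw [hv']
    have e2 : ∑ j, f j w • (b j : W) = (a w : W) := by
      conv_rhs => rw [← b.sum_repr (a w)]
      rw [Submodule.coe_sum]
      rfl
    rw [e2, ha]
    abel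
  rw [← this]
  exact hv

end Rad

section Iota

variable {K : Type u} [Field K]

/-- the inverse transpose -/
def invT (n : ℕ) : GL (Fin n) K →* GL (Fin n) K where
  toFun A := ⟨(((A⁻¹ : GL (Fin n) K) : Matrix (Fin n) (Fin n) K)).transpose, ((A : Matrix (Fin n) (Fin n) K)).transpose,
    by rw [← Matrix.transpose_mul, ← Units.val_mul, mul_inv_cancel, Units.val_one, Matrix.transpose_one],
    by rw [← Matrix.transpose_mul, ← Units.val_mul, inv_mul_cancel, Units.val_one, Matrix.transpose_one]⟩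
  map_one' := by
    ext i j
    change ((((1 : GL (Fin n) K)⁻¹ : GL (Fin n) K) : Matrix (Fin n) (Fin n) K)).transpose i j = _
    rw [inv_one, Units.val_one, Matrix.transpose_one]
  map_mul' A B := by
    ext i j
    change ((((A * B)⁻¹ : GL (Fin n) K) : Matrix (Fin n) (Fin n) K)).transpose i j =
      ((((A⁻¹ : GL (Fin n) K) : Matrix (Fin n) (Fin n) K)).transpose *
        (((B⁻¹ : GL (Fin n) K) : Matrix (Fin n) (Fin n) K)).transpose) i j
    rw [mul_inv_rev, Units.val_mul, Matrix.transpose_mul]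

theorem invT_val {n : ℕ} (A : GL (Fin n) K) :
    ((invT n A : GL (Fin n) K) : Matrix (Fin n) (Fin n) K) =
      ((A⁻¹ : GL (Fin n) K) : Matrix (Fin n) (Fin n) K).transpose := rfl

theorem invT_invT {n : ℕ} (A : GL (Fin n) K) : invT n (invT n A) = A := by
  ext i j
  rw [invT_val, ← map_inv, invT_val, inv_inv, Matrix.transpose_transpose]

end Iota

namespace CForm

variable {K : Type u} [Field K] {V : Type v} [AddCommGroup V] [Module K V] (F : CForm K V)

/-- the totally singular subspaces of dimension `k` -/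
def Om (k : ℕ) : Set (Submodule K V) := {W | F.TS W ∧ finrank K W = k}

/-- the automorphism `A ↦ (σ A)⁻ᵀ` -/
def iota (k : ℕ) : GL (Fin k) K →* GL (Fin k) K := (Matrix.GeneralLinearGroup.map F.σ).comp (invT k)

theorem iota_iota {k : ℕ} (A : GL (Fin k) K) : F.iota k (F.iota k A) = A := by
  have h : ∀ A : GL (Fin k) K, invT k (Matrix.GeneralLinearGroup.map F.σ A) =
      Matrix.GeneralLinearGroup.map F.σ (invT k A) := by
    intro A
    ext i j
    rw [invT_val, ← map_inv]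
    rfl
  unfold iota
  rw [MonoidHom.comp_apply, MonoidHom.comp_apply, h, invT_invT]
  ext i j
  exact F.σσ _

theorem iota_surjective (k : ℕ) : Function.Surjective (F.iota k) := fun A => ⟨F.iota k A, F.iota_iota A⟩

theorem Om_map {k : ℕ} (g : F.iso) (W : Submodule K V) (hW : W ∈ F.Om k) :
    W.map (F.iso.subtype g : V →ₗ[K] V) ∈ F.Om k :=
  ⟨hW.1.map g, by rw [← hW.2]; exact LinearEquiv.finrank_map_eq (g : V ≃ₗ[K] V) W⟩

/-- the Harish-Chandra induced function -/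
noncomputable def hc {k : ℕ} [Fintype (F.Om k)] (c : GL (Fin k) K → ℂ) (ψ : F.iso → Submodule K V → ℂ) :
    F.iso → ℂ := fun g => ∑ W : F.Om k, flagTerm F.iso.subtype c g W.1 * ψ g W.1

theorem hc_eq_orbSum {k : ℕ} [Fintype (F.Om k)] (c : GL (Fin k) K → ℂ) (ψ : F.iso → Submodule K V → ℂ) :
    F.hc c ψ = letI := subAct F.iso.subtype (F.Om k) F.Om_map
      orbSum (fun g (W : F.Om k) => flagTerm F.iso.subtype c g W.1 * ψ g W.1) := by
  classical
  let _ := subAct F.iso.subtype (F.Om k) F.Om_map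
  ext g
  unfold hc orbSum
  refine Finset.sum_congr rfl fun W _ => ?_
  split_ifs with h
  · rfl
  · unfold flagTerm
    rw [dif_neg, zero_mul]
    intro h'
    exact h (Subtype.ext h')

/-- the vanishing condition at a pair of subspaces -/
def Van {k : ℕ} (c : GL (Fin k) K → ℂ) (ψ : F.iso → Submodule K V → ℂ) (W₀ W' : Submodule K V) : Prop :=
  ∃ L : Subgroup F.iso, L ≤ stabW F.iso.subtype W₀ ∧ L ≤ stabW F.iso.subtype W' ∧
    ∀ [Fintype L], ∑ l : L, (flagTerm F.iso.subtype c l W₀ * ψ l W₀) *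
      conj (flagTerm F.iso.subtype c l W' * ψ l W') = 0

variable {F}

theorem van_of_root [FiniteDimensional K V] [Finite V] {k : ℕ} {c : GL (Fin k) K → ℂ} (hcf : IsClassFunction _ c)
    (hcusp : IsCusp c) {ψ : F.iso → Submodule K V → ℂ} {W₀ W' : Submodule K V} (hW₀ : finrank K W₀ = k)
    (hW' : finrank K W' = k) (D : Submodule K V) (hD : D ≤ W₀) (hD0 : D ≠ ⊥) (hD1 : D ≠ W₀) (S : Subgroup F.iso)
    (hS : ∀ g ∈ S, ψ g W₀ = ψ 1 W₀ ∧ ψ g W' = ψ 1 W')
    (hgen : ∀ c ∈ D, ∀ f : W₀ →ₗ[K] K, (∀ w : W₀, (w : V) ∈ D → f w = 0) →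
      ∃ g ∈ S, (∀ w' ∈ W', (g : V ≃ₗ[K] V) w' = w') ∧ ∀ w : W₀, (g : V ≃ₗ[K] V) w = w + f w • c) :
    F.Van c ψ W₀ W' := by
  classical
  have b₀ : Basis (Fin k) K W₀ := finBasisOfFinrankEq K W₀ hW₀
  have b₁ : Basis (Fin k) K W' := finBasisOfFinrankEq K W' hW'
  let D₀ : Submodule K W₀ := D.comap W₀.subtype
  have hD₀0 : D₀ ≠ ⊥ := by
    intro h
    apply hD0
    rw [Submodule.eq_bot_iff] at h ⊢
    intro x hx
    have := h ⟨x, hD hx⟩ hx
    exact congrArg Subtype.val this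
  have hD₀1 : D₀ ≠ ⊤ := by
    intro h
    apply hD1
    apply le_antisymm hD
    intro x hx
    have : (⟨x, hx⟩ : W₀) ∈ D₀ := by rw [h]; trivial
    exact this
  let L : Subgroup F.iso :=
    { carrier := {g | g ∈ S ∧ (∀ w' ∈ W', (g : V ≃ₗ[K] V) w' = w') ∧ (∀ w ∈ W₀, (g : V ≃ₗ[K] V) w - w ∈ D) ∧
        ∀ d ∈ D, (g : V ≃ₗ[K] V) d = d}
      one_mem' := ⟨S.one_mem, fun _ _ => rfl, fun w _ => by
        change w - w ∈ D
        rw [sub_self]; exact D.zero_mem, fun _ _ => rfl⟩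
      mul_mem' := by
        rintro x y ⟨hx0, hx1, hx2, hx3⟩ ⟨hy0, hy1, hy2, hy3⟩
        refine ⟨S.mul_mem hx0 hy0, fun w' hw' => ?_, fun w hw => ?_, fun d hd => ?_⟩
        · rw [Subgroup.coe_mul, LinearEquiv.mul_apply, hy1 w' hw', hx1 w' hw']
        · have h1 : (y : V ≃ₗ[K] V) w ∈ W₀ := by
            have := W₀.add_mem (hD (hy2 w hw)) hw
            rwa [sub_add_cancel] at this
          have : ((x * y : F.iso) : V ≃ₗ[K] V) w - w =
              ((x : V ≃ₗ[K] V) ((y : V ≃ₗ[K] V) w) - (y : V ≃ₗ[K] V) w) + ((y : V ≃ₗ[K] V) w - w) := by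
            rw [Subgroup.coe_mul, LinearEquiv.mul_apply]; abel
          rw [this]
          exact D.add_mem (hx2 _ h1) (hy2 w hw)
        · rw [Subgroup.coe_mul, LinearEquiv.mul_apply, hy3 d hd, hx3 d hd]
      inv_mem' := by
        rintro x ⟨hx0, hx1, hx2, hx3⟩
        have key : ∀ v, (x : V ≃ₗ[K] V) v = v → ((x⁻¹ : F.iso) : V ≃ₗ[K] V) v = v := by
          intro v hv
          have h1 : ((x⁻¹ : F.iso) : V ≃ₗ[K] V) ((x : V ≃ₗ[K] V) v) = v := (x : V ≃ₗ[K] V).symm_apply_apply v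
          rwa [hv] at h1
        refine ⟨S.inv_mem hx0, fun w' hw' => key _ (hx1 w' hw'), fun w hw => ?_, fun d hd => key _ (hx3 d hd)⟩
        have h1 := hx2 w hw
        have h2 := key _ (hx3 _ h1)
        rw [map_sub] at h2
        have h3 : ((x⁻¹ : F.iso) : V ≃ₗ[K] V) ((x : V ≃ₗ[K] V) w) = w := (x : V ≃ₗ[K] V).symm_apply_apply w
        rw [h3] at h2
        have h4 : ((x⁻¹ : F.iso) : V ≃ₗ[K] V) w - w = -((x : V ≃ₗ[K] V) w - w) := by rw [← h2]; abel
        rw [h4]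
        exact D.neg_mem h1 }
  have hL0 : ∀ l ∈ L, W₀.map (F.iso.subtype l : V →ₗ[K] V) = W₀ := fun l hl => map_eq_of_le F.iso.subtype fun w hw => by
    have := W₀.add_mem (hD (hl.2.2.1 w hw)) hw
    rwa [sub_add_cancel] at this
  have hL1 : ∀ l ∈ L, W'.map (F.iso.subtype l : V →ₗ[K] V) = W' := fun l hl => map_eq_of_le F.iso.subtype fun w hw => by
    have := hl.2.1 w hw
    change (l : V ≃ₗ[K] V) w ∈ W'
    rw [this]; exact hw
  refine ⟨L, fun l hl => hL0 l hl, fun l hl => hL1 l hl, fun {_} => ?_⟩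
  have hfinW : Finite (W₀ ≃ₗ[K] W₀) :=
    Finite.of_injective (fun e : W₀ ≃ₗ[K] W₀ => (e : W₀ → W₀)) DFunLike.coe_injective
  letI : Fintype (radU D₀) := Fintype.ofFinite _
  let f : L →* radU D₀ :=
    { toFun := fun l => ⟨res (F.iso.subtype l) W₀ (hL0 l l.2), fun w => l.2.2.2.1 w w.2, fun d hd => by
          apply Subtype.ext
          exact l.2.2.2.2 d hd⟩
      map_one' := by
        apply Subtype.ext
        ext w
        rfl
      map_mul' := fun x y => by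
        apply Subtype.ext
        ext w
        rfl }
  have hf : Function.Surjective f := by
    have h1 := mem_of_transv D₀ (f.range.map (radU D₀).subtype) (by
      intro c hc f' hf'
      obtain ⟨g, hgS, hg1, hg2⟩ := hgen c hc f' (fun w hw => hf' w hw)
      have hgL : g ∈ L := by
        refine ⟨hgS, hg1, fun w hw => ?_, fun d hd => ?_⟩
        · rw [hg2 ⟨w, hw⟩, add_sub_cancel_left]
          exact D.smul_mem _ hc
        · rw [hg2 ⟨d, hD hd⟩, hf' _ hd, zero_smul, add_zero]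
      refine ⟨_, ⟨f ⟨g, hgL⟩, ⟨⟨g, hgL⟩, rfl⟩, rfl⟩, fun w => ?_⟩
      apply Subtype.ext
      exact hg2 w)
    rintro ⟨u, hu⟩
    obtain ⟨_, ⟨l, rfl⟩, h2⟩ := h1 hu
    exact ⟨l, Subtype.ext h2⟩
  have e1 : ∀ l : L, (flagTerm F.iso.subtype c l W₀ * ψ l W₀) * conj (flagTerm F.iso.subtype c l W' * ψ l W') =
      (fun u : radU D₀ => cl c (u : W₀ ≃ₗ[K] W₀) * (ψ 1 W₀ * conj (c 1 * ψ 1 W'))) (f l) := by
    intro l
    rw [flagTerm_of F.iso.subtype c (hL0 l l.2), flagTerm_of F.iso.subtype c (hL1 l l.2), (hS l l.2.1).1,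
      (hS l l.2.1).2]
    have e2 : res (F.iso.subtype (l : F.iso)) W' (hL1 l l.2) = 1 := by
      ext w
      exact l.2.2.1 w w.2
    rw [e2, cl_one hcf b₁]
    change _ * _ * _ = _ * (_ * _)
    rw [mul_assoc]
    rfl
  rw [Finset.sum_congr rfl fun l _ => e1 l,
    sum_comp_hom f hf (fun u : radU D₀ => cl c (u : W₀ ≃ₗ[K] W₀) * (ψ 1 W₀ * conj (c 1 * ψ 1 W'))), ← Finset.sum_mul,
    hcusp.sum_eq hcf b₀ D₀ hD₀0 hD₀1, zero_mul, mul_zero]

/-- case `0 < W₀ ∩ W'ᗮ < W₀` -/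
theorem van_case1 [FiniteDimensional K V] [Finite V] {k : ℕ} {c : GL (Fin k) K → ℂ} (hcf : IsClassFunction _ c)
    (hcusp : IsCusp c) {ψ : F.iso → Submodule K V → ℂ} (hψT : ∀ W ∈ F.Om k, ∀ g ∈ F.TT W, ψ g W = ψ 1 W)
    {W₀ W' : Submodule K V} (hW₀ : W₀ ∈ F.Om k) (hW' : W' ∈ F.Om k) (h0 : W₀ ⊓ F.perp W' ≠ ⊥)
    (h1 : W₀ ⊓ F.perp W' ≠ W₀) : F.Van c ψ W₀ W' := by
  refine van_of_root hcf hcusp hW₀.2 hW'.2 (W₀ ⊓ F.perp W') inf_le_left h0 h1 (F.TT W₀ ⊓ F.TT W')
    (fun g hg => ⟨hψT _ hW₀ g hg.1, hψT _ hW' g hg.2⟩) fun x hx f hf => ?_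
  obtain ⟨b, hb, hb'⟩ := F.exists_pair W₀ W' f (fun w hw => hf w ⟨w.2, fun w' hw' => hw w' hw'⟩)
  obtain ⟨g, hg⟩ := F.exists_root (hW₀.1.sing hx.1) (hW'.1.sing hb) (hx.2 b hb)
  refine ⟨g, ⟨F.mem_TT_of hW₀.1 fun v hv => ?_, F.mem_TT_of hW'.1 fun v hv => ?_⟩, fun w' hw' => ?_, fun w => ?_⟩
  · rw [hg, hv x hx.1]
    have : v + F.B v b • x - (F.ε⁻¹ * 0) • b - v = F.B v b • x := by module
    rw [this]
    exact W₀.smul_mem _ hx.1
  · rw [hg, hv b hb]
    have : v + (0 : K) • x - (F.ε⁻¹ * F.B v x) • b - v = (-(F.ε⁻¹ * F.B v x)) • b := by module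
    rw [this]
    exact W'.smul_mem _ hb
  · rw [hg, hW'.1.2 w' hw' b hb, F.B_eq_zero (hx.2 w' hw')]
    module
  · rw [hg, hb', hW₀.1.2 w w.2 x hx.1]
    module

/-- a singular vector inducing a given functional on `W₀` and orthogonal to `W'` -/
theorem exists_sing_dual [FiniteDimensional K V] {W₀ W' : Submodule K V} (hW₀ : F.TS W₀)
    (hperp : W₀ ≤ F.perp W') (f : W₀ →ₗ[K] K) (hf : ∀ w : W₀, (w : V) ∈ W' → f w = 0) (hf0 : f ≠ 0) :
    ∃ b : V, F.Sing b ∧ (∀ w : W₀, f w = F.B w b) ∧ ∀ w' ∈ W', F.B w' b = 0 := by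
  obtain ⟨b, hb, hb'⟩ := F.exists_pair W₀ (F.perp W') f (fun w hw => hf w (by
    have : (w : V) ∈ F.perp (F.perp W') := fun v hv => hw v hv
    rwa [F.perp_perp] at this))
  obtain ⟨w₀, hw₀⟩ : ∃ w₀ : W₀, f w₀ ≠ 0 := by
    by_contra h
    push Not at h
    exact hf0 (LinearMap.ext h)
  obtain ⟨t, ht⟩ := F.Q_range b
  have hbw : F.B b w₀ ≠ 0 := by
    intro h
    apply hw₀
    rw [hb']
    exact F.B_eq_zero h
  let α : K := F.σ (t / F.B b w₀)
  have hα : F.B b (α • (w₀ : V)) = t := by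
    rw [F.B_smul_right, F.σσ, div_mul_cancel₀ _ hbw]
  have hQ : F.Q (b + α • (w₀ : V)) = 0 := by
    rw [F.Q_add, F.Q_smul, hW₀.1 w₀ w₀.2, hα, ht]
    ring
  refine ⟨b + α • (w₀ : V), ⟨hQ, F.alt _ hQ⟩, fun w => ?_, fun w' hw' => ?_⟩
  · rw [F.B_add_right, F.B_smul_right, hW₀.2 w w.2 w₀ w₀.2, mul_zero, add_zero, hb']
  · rw [F.B_add_right, F.B_smul_right, F.B_eq_zero (hperp w₀.2 w' hw'), F.B_eq_zero (hb w' hw'), mul_zero, add_zero]

/-- the root elements of the orthogonal cases -/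
theorem exists_root_perp [FiniteDimensional K V] {W₀ W' : Submodule K V} (hW₀ : F.TS W₀) (hW' : F.TS W')
    (hperp : W₀ ≤ F.perp W') {x : V} (hx : x ∈ W₀) (f : W₀ →ₗ[K] K) (hf : ∀ w : W₀, (w : V) ∈ W' → f w = 0)
    (hfx : f ⟨x, hx⟩ = 0) :
    ∃ g : F.iso, g ∈ F.TT W₀ ∧ (x ∈ W' → g ∈ F.TT W') ∧ (∀ w' ∈ W', (g : V ≃ₗ[K] V) w' = w') ∧
      ∀ w : W₀, (g : V ≃ₗ[K] V) w = w + f w • x := by
  by_cases hf0 : f = 0
  · refine ⟨1, (F.TT W₀).one_mem, fun _ => (F.TT W').one_mem, fun _ _ => rfl, fun w => ?_⟩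
    rw [hf0, LinearMap.zero_apply, zero_smul, add_zero]
    rfl
  obtain ⟨b, hb, hb1, hb2⟩ := exists_sing_dual hW₀ hperp f hf hf0
  have hxb : F.B x b = 0 := by rw [← hfx, hb1]
  obtain ⟨g, hg⟩ := F.exists_root (hW₀.sing hx) hb hxb
  refine ⟨g, F.mem_TT_of hW₀ fun v hv => ?_, fun hx' => F.mem_TT_of hW' fun v hv => ?_, fun w' hw' => ?_, fun w => ?_⟩
  · rw [hg, hv x hx]
    have : v + F.B v b • x - (F.ε⁻¹ * 0) • b - v = F.B v b • x := by module
    rw [this]
    exact W₀.smul_mem _ hx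
  · rw [hg, hv x hx']
    have : v + F.B v b • x - (F.ε⁻¹ * 0) • b - v = F.B v b • x := by module
    rw [this]
    exact W'.smul_mem _ hx'
  · rw [hg, hb2 w' hw', F.B_eq_zero (hperp hx w' hw')]
    module
  · rw [hg, hb1, hW₀.2 w w.2 x hx]
    module

/-- case `W₀ ⟂ W'`, `W₀ ∩ W' ≠ 0` -/
theorem van_case2 [FiniteDimensional K V] [Finite V] {k : ℕ} {c : GL (Fin k) K → ℂ} (hcf : IsClassFunction _ c)
    (hcusp : IsCusp c) {ψ : F.iso → Submodule K V → ℂ} (hψT : ∀ W ∈ F.Om k, ∀ g ∈ F.TT W, ψ g W = ψ 1 W)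
    {W₀ W' : Submodule K V} (hW₀ : W₀ ∈ F.Om k) (hW' : W' ∈ F.Om k) (hperp : W₀ ≤ F.perp W') (h0 : W₀ ⊓ W' ≠ ⊥)
    (h1 : W' ≠ W₀) : F.Van c ψ W₀ W' := by
  refine van_of_root hcf hcusp hW₀.2 hW'.2 (W₀ ⊓ W') inf_le_left h0 (fun h => h1 ?_) (F.TT W₀ ⊓ F.TT W')
    (fun g hg => ⟨hψT _ hW₀ g hg.1, hψT _ hW' g hg.2⟩) fun x hx f hf => ?_
  · symm
    apply Submodule.eq_of_le_of_finrank_eq
    · rw [← h]; exact inf_le_right
    · rw [hW₀.2, hW'.2]
  obtain ⟨g, hg1, hg2, hg3, hg4⟩ := exists_root_perp hW₀.1 hW'.1 hperp hx.1 f (fun w hw => hf w ⟨w.2, hw⟩)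
    (hf ⟨x, hx.1⟩ hx)
  exact ⟨g, ⟨hg1, hg2 hx.2⟩, hg3, hg4⟩

/-- case `W₀ ⟂ W'`, `W₀ ∩ W' = 0`, for `ψ` trivial -/
theorem van_case3 [FiniteDimensional K V] [Finite V] {k : ℕ} (hk : 2 ≤ k) {c : GL (Fin k) K → ℂ}
    (hcf : IsClassFunction _ c)
    (hcusp : IsCusp c) {ψ : F.iso → Submodule K V → ℂ} (hψ1 : ∀ g W, ψ g W = ψ 1 W)
    {W₀ W' : Submodule K V} (hW₀ : W₀ ∈ F.Om k) (hW' : W' ∈ F.Om k) (hperp : W₀ ≤ F.perp W') (h0 : W₀ ⊓ W' = ⊥) :
    F.Van c ψ W₀ W' := by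
  classical
  obtain ⟨x, hx, hx0⟩ : ∃ x ∈ W₀, x ≠ 0 := by
    by_contra h
    push Not at h
    have : W₀ = ⊥ := (Submodule.eq_bot_iff _).2 h
    have h2 := hW₀.2
    rw [this, finrank_bot] at h2
    omega
  refine van_of_root hcf hcusp hW₀.2 hW'.2 (K ∙ x) ((Submodule.span_singleton_le_iff_mem _ _).2 hx)
    (fun h => hx0 (Submodule.span_singleton_eq_bot.1 h)) (fun h => ?_) ⊤
    (fun g _ => ⟨hψ1 g _, hψ1 g _⟩) fun y hy f hf => ?_
  · have h2 := hW₀.2
    rw [← h, finrank_span_singleton hx0] at h2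
    omega
  · have hyW : y ∈ W₀ := ((Submodule.span_singleton_le_iff_mem _ _).2 hx) hy
    obtain ⟨g, -, -, hg3, hg4⟩ := exists_root_perp hW₀.1 hW'.1 hperp hyW f (fun w hw => by
      have : (w : V) ∈ W₀ ⊓ W' := ⟨w.2, hw⟩
      rw [h0] at this
      have e : w = 0 := Subtype.ext ((Submodule.mem_bot K).1 this)
      rw [e, map_zero]) (hf ⟨y, hyW⟩ hy)
    exact ⟨g, trivial, hg3, hg4⟩

/-- dual bases of opposite subspaces -/
theorem exists_dual_basis [FiniteDimensional K V] {k : ℕ} {W₀ W' : Submodule K V} (hW₀ : finrank K W₀ = k)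
    (hW' : finrank K W' = k) (h0 : W₀ ⊓ F.perp W' = ⊥) :
    ∃ (b : Basis (Fin k) K W₀) (b' : Basis (Fin k) K W'), ∀ i j, F.B (b i) (b' j) = if i = j then 1 else 0 := by
  classical
  let b : Basis (Fin k) K W₀ := finBasisOfFinrankEq K W₀ hW₀
  have hz : ∀ w : W₀, (∀ w' ∈ W', F.B w w' = 0) → w = 0 := by
    intro w hw
    have : (w : V) ∈ W₀ ⊓ F.perp W' := ⟨w.2, hw⟩
    rw [h0] at this
    exact Subtype.ext ((Submodule.mem_bot K).1 this)
  have key : ∀ j, ∃ z : W', ∀ w : W₀, b.coord j w = F.B w z := by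
    intro j
    obtain ⟨z, hz1, hz2⟩ := F.exists_pair W₀ W' (b.coord j) (fun w hw => by rw [hz w hw, map_zero])
    exact ⟨⟨z, hz1⟩, hz2⟩
  choose z hz' using key
  have hB : ∀ i j, F.B (b i) (z j) = if i = j then 1 else 0 := by
    intro i j
    rw [← hz', Basis.coord_apply, Basis.repr_self, Finsupp.single_apply]
  have hli : LinearIndependent K z := by
    rw [Fintype.linearIndependent_iff]
    intro g hg i
    have h1 : F.B (b i) ((∑ j, g j • z j : W') : V) = F.σ (g i) := by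
      rw [Submodule.coe_sum]
      have h2 : ∀ s : Finset (Fin k), F.B (b i) (∑ j ∈ s, ((g j • z j : W') : V)) = ∑ j ∈ s, F.σ (g j) * F.B (b i) (z j) := by
        intro s
        induction s using Finset.induction_on with
        | empty => simp
        | insert a s ha ih =>
          rw [Finset.sum_insert ha, Finset.sum_insert ha, F.B_add_right, ih, Submodule.coe_smul, F.B_smul_right]
      rw [h2, Finset.sum_eq_single i]
      · rw [hB, if_pos rfl, mul_one]
      · intro j _ hj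
        rw [hB, if_neg (Ne.symm hj), mul_zero]
      · intro h; exact absurd (Finset.mem_univ _) h
    rw [hg, Submodule.coe_zero, F.B_zero_right] at h1
    have := congrArg F.σ h1
    rw [F.σσ, map_zero] at this
    exact this.symm
  let b' : Basis (Fin k) K W' := Basis.mk hli
    (by rw [hli.span_eq_top_of_card_eq_finrank' (by rw [Fintype.card_fin, hW'])])
  refine ⟨b, b', fun i j => ?_⟩
  have : b' j = z j := Basis.mk_apply _ _ _
  rw [this, hB]

theorem opp_symm [FiniteDimensional K V] {k : ℕ} {W₀ W' : Submodule K V} (hW₀ : finrank K W₀ = k)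
    (hW' : finrank K W' = k) (h0 : W₀ ⊓ F.perp W' = ⊥) : W' ⊓ F.perp W₀ = ⊥ := by
  classical
  obtain ⟨b, b', hb⟩ := exists_dual_basis hW₀ hW' h0
  rw [Submodule.eq_bot_iff]
  rintro x ⟨hx, hx'⟩
  have h1 : ∀ i, b'.repr ⟨x, hx⟩ i = 0 := by
    intro i
    have h2 := F.B_eq_zero (hx' (b i) (b i).2)
    have h3 : (x : V) = ((∑ j, b'.repr ⟨x, hx⟩ j • b' j : W') : V) := by rw [b'.sum_repr]
    rw [h3, Submodule.coe_sum] at h2
    have h4 : ∀ s : Finset (Fin k), F.B (b i) (∑ j ∈ s, ((b'.repr ⟨x, hx⟩ j • b' j : W') : V)) =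
        ∑ j ∈ s, F.σ (b'.repr ⟨x, hx⟩ j) * F.B (b i) (b' j) := by
      intro s
      induction s using Finset.induction_on with
      | empty => simp
      | insert a s ha ih =>
        rw [Finset.sum_insert ha, Finset.sum_insert ha, F.B_add_right, ih, Submodule.coe_smul, F.B_smul_right]
    rw [h4, Finset.sum_eq_single i] at h2
    · rw [hb, if_pos rfl, mul_one] at h2
      have := congrArg F.σ h2
      rwa [F.σσ, map_zero] at this
    · intro j _ hj
      rw [hb, if_neg (Ne.symm hj), mul_zero]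
    · intro h; exact absurd (Finset.mem_univ _) h
  have h2 : (⟨x, hx⟩ : W') = 0 := by
    rw [← b'.sum_repr ⟨x, hx⟩]
    exact Finset.sum_eq_zero fun i _ => by rw [h1, zero_smul]
  exact congrArg Subtype.val h2

/-- the matrices on opposite subspaces -/
theorem glE_opp {k : ℕ} {W₀ W' : Submodule K V} {b : Basis (Fin k) K W₀}
    {b' : Basis (Fin k) K W'} (hb : ∀ i j, F.B (b i) (b' j) = if i = j then 1 else 0) {g : F.iso}
    (h : W₀.map (F.iso.subtype g : V →ₗ[K] V) = W₀) (h' : W'.map (F.iso.subtype g : V →ₗ[K] V) = W') :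
    glE b' (res (F.iso.subtype g) W' h') = F.iota k (glE b (res (F.iso.subtype g) W₀ h)) := by
  classical
  set A : GL (Fin k) K := glE b (res (F.iso.subtype g) W₀ h) with hA
  set A' : GL (Fin k) K := glE b' (res (F.iso.subtype g) W' h') with hA'
  have e1 : ∀ i, (g : V ≃ₗ[K] V) (b i) = ∑ m, (A : Matrix _ _ K) m i • (b m : V) := by
    intro i
    have : res (F.iso.subtype g) W₀ h (b i) = ∑ m, (A : Matrix _ _ K) m i • b m := by
      rw [hA, coe_glE]
      conv_lhs => rw [← b.sum_repr (res (F.iso.subtype g) W₀ h (b i))]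
      exact Finset.sum_congr rfl fun m _ => by rw [LinearMap.toMatrix_apply]; rfl
    have h2 := congrArg (Subtype.val) this
    rw [Submodule.coe_sum] at h2
    exact h2
  have e2 : ∀ i, (g : V ≃ₗ[K] V) (b' i) = ∑ m, (A' : Matrix _ _ K) m i • (b' m : V) := by
    intro i
    have : res (F.iso.subtype g) W' h' (b' i) = ∑ m, (A' : Matrix _ _ K) m i • b' m := by
      rw [hA', coe_glE]
      conv_lhs => rw [← b'.sum_repr (res (F.iso.subtype g) W' h' (b' i))]
      exact Finset.sum_congr rfl fun m _ => by rw [LinearMap.toMatrix_apply]; rfl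
    have h2 := congrArg (Subtype.val) this
    rw [Submodule.coe_sum] at h2
    exact h2
  have hsl : ∀ (s : Finset (Fin k)) (f : Fin k → K) (x : Fin k → V) (y : V), F.B (∑ m ∈ s, f m • x m) y =
      ∑ m ∈ s, f m * F.B (x m) y := by
    intro s f x y
    induction s using Finset.induction_on with
    | empty => simp
    | insert a s ha ih => rw [Finset.sum_insert ha, Finset.sum_insert ha, F.B_add_left, ih, F.B_smul_left]
  have hsr : ∀ (s : Finset (Fin k)) (f : Fin k → K) (x : Fin k → V) (y : V), F.B y (∑ m ∈ s, f m • x m) =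
      ∑ m ∈ s, F.σ (f m) * F.B y (x m) := by
    intro s f x y
    induction s using Finset.induction_on with
    | empty => simp
    | insert a s ha ih => rw [Finset.sum_insert ha, Finset.sum_insert ha, F.B_add_right, ih, F.B_smul_right]
  have e3 : (A : Matrix _ _ K).transpose * (A' : Matrix (Fin k) (Fin k) K).map F.σ = 1 := by
    ext i j
    have h1 := F.iso_B g (b i) (b' j)
    rw [hb, e1, e2, hsl] at h1
    rw [Matrix.mul_apply, Matrix.one_apply, ← h1]
    refine Finset.sum_congr rfl fun m _ => ?_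
    rw [Matrix.transpose_apply, Matrix.map_apply, hsr, Finset.sum_eq_single m]
    · rw [hb, if_pos rfl, mul_one]
    · intro n _ hn
      rw [hb, if_neg (Ne.symm hn), mul_zero]
    · intro h; exact absurd (Finset.mem_univ _) h
  have e4 : (Matrix.GeneralLinearGroup.map F.σ A' : GL (Fin k) K) = invT k A := by
    ext1
    rw [invT_val]
    have h2 : ((A⁻¹ : GL (Fin k) K) : Matrix (Fin k) (Fin k) K).transpose *
        (A : Matrix (Fin k) (Fin k) K).transpose = 1 := by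
      rw [← Matrix.transpose_mul, ← Units.val_mul, mul_inv_cancel, Units.val_one, Matrix.transpose_one]
    calc ((Matrix.GeneralLinearGroup.map F.σ A' : GL (Fin k) K) : Matrix (Fin k) (Fin k) K)
        = (A' : Matrix (Fin k) (Fin k) K).map F.σ := rfl
      _ = (((A⁻¹ : GL (Fin k) K) : Matrix (Fin k) (Fin k) K).transpose * (A : Matrix (Fin k) (Fin k) K).transpose) *
          (A' : Matrix (Fin k) (Fin k) K).map F.σ := by rw [h2, one_mul]
      _ = _ := by rw [mul_assoc, e3, mul_one]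
  unfold iota
  rw [MonoidHom.comp_apply, ← e4]
  ext i j
  exact (F.σσ _).symm

/-- case `W₀ ∩ W'ᗮ = 0` -/
theorem van_case4 [FiniteDimensional K V] [Finite V] {k : ℕ} {c : GL (Fin k) K → ℂ}
    [Finite K] (hc : IsIrrCharacter _ c) (hdual : c ∘ F.iota k ≠ c)
    {ψ : F.iso → Submodule K V → ℂ} (hψT : ∀ W ∈ F.Om k, ∀ g ∈ F.TT W, ψ g W = ψ 1 W)
    {W₀ W' : Submodule K V} (hW₀ : W₀ ∈ F.Om k) (hW' : W' ∈ F.Om k) (h0 : W₀ ⊓ F.perp W' = ⊥) :
    F.Van c ψ W₀ W' := by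
  classical
  have hcf := Core.isIrr_isClassFunction hc
  obtain ⟨b, b', hb⟩ := exists_dual_basis hW₀.2 hW'.2 h0
  have h0' := opp_symm hW₀.2 hW'.2 h0
  letI : Fintype (GL (Fin k) K) := Fintype.ofFinite _
  refine ⟨F.TT W₀ ⊓ F.TT W', fun l hl => hl.1.1, fun l hl => hl.2.1, fun {_} => ?_⟩
  let f : (F.TT W₀ ⊓ F.TT W' : Subgroup F.iso) →* GL (Fin k) K :=
    (glE b).toMonoidHom.comp ((resHom F.iso.subtype W₀).comp
      (Subgroup.inclusion (show F.TT W₀ ⊓ F.TT W' ≤ stabW F.iso.subtype W₀ from fun l hl => hl.1.1)))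
  have hf : Function.Surjective f := by
    intro A
    obtain ⟨a, rfl⟩ := (glE b).surjective A
    obtain ⟨g, hg1, -, -, hg2⟩ := F.exists_levi hW₀.1 hW'.1
      (fun w hw hw' => by
        have : w ∈ W₀ ⊓ F.perp W' := ⟨hw, hw'⟩
        rw [h0] at this
        exact (Submodule.mem_bot K).1 this)
      (fun w hw hw' => by
        have : w ∈ W' ⊓ F.perp W₀ := ⟨hw, fun w' hw'' => F.B_eq_zero (hw' w' hw'')⟩
        rw [h0'] at this
        exact (Submodule.mem_bot K).1 this) a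
    refine ⟨⟨g, hg2⟩, ?_⟩
    change glE b (res (F.iso.subtype g) W₀ _) = glE b a
    congr 1
    ext w
    exact hg1 w
  have e1 : ∀ l : (F.TT W₀ ⊓ F.TT W' : Subgroup F.iso), (flagTerm F.iso.subtype c l W₀ * ψ l W₀) *
      conj (flagTerm F.iso.subtype c l W' * ψ l W') =
      (fun A => (c A * conj (c (F.iota k A))) * (ψ 1 W₀ * conj (ψ 1 W'))) (f l) := by
    intro l
    rw [flagTerm_of F.iso.subtype c l.2.1.1, flagTerm_of F.iso.subtype c l.2.2.1, cl_eq hcf b, cl_eq hcf b',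
      glE_opp hb l.2.1.1 l.2.2.1, hψT _ hW₀ l l.2.1, hψT _ hW' l l.2.2, map_mul]
    change _ * _ * _ = _ * _ * (_ * _)
    rw [mul_mul_mul_comm]
    rfl
  rw [Finset.sum_congr rfl fun l _ => e1 l, sum_comp_hom f hf
    (fun A => (c A * conj (c (F.iota k A))) * (ψ 1 W₀ * conj (ψ 1 W')))]
  have h3 : IsIrrCharacter _ (c ∘ F.iota k) := Core.isIrr_comp (F.iota k) (F.iota_surjective k) hc
  have h4 := Core.classInner_irr_ne hc h3 (Ne.symm hdual)
  rw [Core.classInner_def] at h4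
  rcases mul_eq_zero.1 h4 with h5 | h5
  · exact absurd h5 (inv_ne_zero card_ne_zero')
  · rw [← Finset.sum_mul]
    change (Nat.card f.ker : ℂ) * ((∑ A, c A * conj ((c ∘ F.iota k) A)) * _) = 0
    rw [h5, zero_mul, mul_zero]

variable (F)

/-- **Irreducibility.** -/
theorem isIrr_hc [Finite K] [FiniteDimensional K V] [Finite V] [Fintype F.iso] {k : ℕ} [Fintype (F.Om k)]
    {c : GL (Fin k) K → ℂ} (hc : IsIrrCharacter _ c) (hcusp : IsCusp c) (hdual : c ∘ F.iota k ≠ c)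
    {ψ : F.iso → Submodule K V → ℂ}
    (hψ : ∀ x g W, ψ (x * g * x⁻¹) (W.map (F.iso.subtype x : V →ₗ[K] V)) = ψ g W)
    (hψT : ∀ W ∈ F.Om k, ∀ g ∈ F.TT W, ψ g W = ψ 1 W) {W₀ : Submodule K V} (hW₀ : W₀ ∈ F.Om k)
    (htr : ∀ W ∈ F.Om k, ∃ g : F.iso, W₀.map (F.iso.subtype g : V →ₗ[K] V) = W)
    (hirr : IsIrrCharacter (stabW F.iso.subtype W₀) (fun g => flagTerm F.iso.subtype c g W₀ * ψ g W₀))
    (hperp : ∀ W' ∈ F.Om k, W₀ ≤ F.perp W' → W₀ ⊓ W' = ⊥ → F.Van c ψ W₀ W') :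
    IsIrrCharacter F.iso (F.hc c ψ) := by
  classical
  have hcf := Core.isIrr_isClassFunction hc
  letI := subAct F.iso.subtype (F.Om k) F.Om_map
  have : IsPretransitive F.iso (F.Om k) := by
    refine ⟨fun W W' => ?_⟩
    obtain ⟨g, hg⟩ := htr W.1 W.2
    obtain ⟨g', hg'⟩ := htr W'.1 W'.2
    refine ⟨g' * g⁻¹, ?_⟩
    have e1 : g • (⟨W₀, hW₀⟩ : F.Om k) = W := Subtype.ext hg
    have e2 : g' • (⟨W₀, hW₀⟩ : F.Om k) = W' := Subtype.ext hg'
    rw [← e1, mul_smul, inv_smul_smul, e2]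
  rw [hc_eq_orbSum F]
  have hst : ∀ g : F.iso, g ∈ stabilizer F.iso (⟨W₀, hW₀⟩ : F.Om k) ↔ g ∈ stabW F.iso.subtype W₀ := fun g =>
    ⟨fun h => congrArg Subtype.val (mem_stabilizer_iff.1 h), fun h => mem_stabilizer_iff.2 (Subtype.ext h)⟩
  refine isIrr_orbSum (fun g (W : F.Om k) => flagTerm F.iso.subtype c g W.1 * ψ g W.1) (fun x g W => ?_)
    ⟨W₀, hW₀⟩ ?_ ?_
  · have h1 := flagTerm_conj F.iso.subtype hcf x g W.1
    have h2 := hψ x g W.1
    exact congrArg₂ (· * ·) h1 h2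
  · let f : stabilizer F.iso (⟨W₀, hW₀⟩ : F.Om k) →* stabW F.iso.subtype W₀ :=
      { toFun := fun g => ⟨g, (hst _).1 g.2⟩
        map_one' := rfl
        map_mul' := fun _ _ => rfl }
    have hf : Function.Surjective f := fun g => ⟨⟨g, (hst _).2 g.2⟩, rfl⟩
    exact Core.isIrr_comp f hf hirr
  · rintro ⟨W', hW'⟩ hne
    have hne' : W' ≠ W₀ := fun e => hne (Subtype.ext e)
    have key : F.Van c ψ W₀ W' := by
      by_cases h0 : W₀ ⊓ F.perp W' = ⊥
      · exact van_case4 hc hdual hψT hW₀ hW' h0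
      · by_cases h1 : W₀ ⊓ F.perp W' = W₀
        · have h1' : W₀ ≤ F.perp W' := inf_eq_left.1 h1
          by_cases h2 : W₀ ⊓ W' = ⊥
          · exact hperp W' hW' h1' h2
          · exact van_case2 hcf hcusp hψT hW₀ hW' h1' h2 hne'
        · exact van_case1 hcf hcusp hψT hW₀ hW' h0 h1
    obtain ⟨L, hL1, hL2, hL3⟩ := key
    exact ⟨L, fun l hl => (hst l).2 (hL1 hl), fun l hl => mem_stabilizer_iff.2 (Subtype.ext (hL2 hl)), fun {_} => hL3⟩

/-- Gallagher: `c ⊗ ψ` is irreducible on the stabiliser -/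
theorem isIrr_stab [Finite K] [FiniteDimensional K V] [Finite V] {k : ℕ}
    {c : GL (Fin k) K → ℂ} (hc : IsIrrCharacter _ c)
    {ψ : F.iso → Submodule K V → ℂ}
    (hψT : ∀ W ∈ F.Om k, ∀ g ∈ F.TT W, ψ g W = ψ 1 W) {W₀ W₁ : Submodule K V} (hW₀ : W₀ ∈ F.Om k)
    (hW₁ : W₁ ∈ F.Om k) (hopp : W₀ ⊓ F.perp W₁ = ⊥)
    (hψirr : IsIrrCharacter (stabW F.iso.subtype W₀) (fun g => ψ g W₀)) :
    IsIrrCharacter (stabW F.iso.subtype W₀) (fun g => flagTerm F.iso.subtype c g W₀ * ψ g W₀) := by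
  classical
  have hcf := Core.isIrr_isClassFunction hc
  have hfinG : Finite F.iso := by
    have : Finite (V ≃ₗ[K] V) := Finite.of_injective (fun e : V ≃ₗ[K] V => (e : V → V)) DFunLike.coe_injective
    infer_instance
  let b : Basis (Fin k) K W₀ := finBasisOfFinrankEq K W₀ hW₀.2
  have h0' := opp_symm hW₀.2 hW₁.2 hopp
  let f : stabW F.iso.subtype W₀ →* GL (Fin k) K := (glE b).toMonoidHom.comp (resHom F.iso.subtype W₀)
  have hft : ∀ g : stabW F.iso.subtype W₀, flagTerm F.iso.subtype c g W₀ = c (f g) := by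
    intro g
    rw [flagTerm_of F.iso.subtype c g.2, cl_eq hcf b]
    rfl
  have hle : F.TT W₀ ≤ stabW F.iso.subtype W₀ := fun l hl => hl.1
  have hf : ∀ A, ∃ g : stabW F.iso.subtype W₀, (g : F.iso) ∈ F.TT W₀ ∧ f g = A := by
    intro A
    obtain ⟨a, rfl⟩ := (glE b).surjective A
    obtain ⟨g, hg1, -, -, hg2⟩ := F.exists_levi hW₀.1 hW₁.1
      (fun w hw hw' => by
        have : w ∈ W₀ ⊓ F.perp W₁ := ⟨hw, hw'⟩
        rw [hopp] at this
        exact (Submodule.mem_bot K).1 this)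
      (fun w hw hw' => by
        have : w ∈ W₁ ⊓ F.perp W₀ := ⟨hw, fun w' hw'' => F.B_eq_zero (hw' w' hw'')⟩
        rw [h0'] at this
        exact (Submodule.mem_bot K).1 this) a
    refine ⟨⟨g, hle hg2.1⟩, hg2.1, ?_⟩
    change glE b (res (F.iso.subtype g) W₀ _) = glE b a
    congr 1
    ext w
    exact hg1 w
  have hsurj : Function.Surjective f := fun A => by
    obtain ⟨g, -, hg⟩ := hf A
    exact ⟨g, hg⟩
  have hc' : IsIrrCharacter _ (c ∘ f) := Core.isIrr_comp f hsurj hc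
  let _ : Fintype (stabW F.iso.subtype W₀) := Fintype.ofFinite _
  let _ : Fintype (GL (Fin k) K) := Fintype.ofFinite _
  have hfun : (fun g : stabW F.iso.subtype W₀ => flagTerm F.iso.subtype c g W₀ * ψ g W₀) =
      (c ∘ f) * (fun g : stabW F.iso.subtype W₀ => ψ g W₀) := by
    ext g
    rw [hft]
    rfl
  rw [hfun]
  apply Core.isIrr_of_classInner_self
    (Core.isCharacter_mul (Core.isIrr_isCharacter hc') (Core.isIrr_isCharacter hψirr))
  -- the subgroup `N`
  let N : Subgroup (stabW F.iso.subtype W₀) := (F.TT W₀).comap (stabW F.iso.subtype W₀).subtype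
  let _ : Fintype N := Fintype.ofFinite _
  let ψ' : stabW F.iso.subtype W₀ → ℂ := fun g => ψ g W₀
  have hψN : ∀ (h : stabW F.iso.subtype W₀) (n : N), ψ' (h * n) = ψ' h := by
    intro h n
    have h1 : ψ' n = ψ' 1 := hψT _ hW₀ _ n.2
    exact Cfsg.Agent.H477.HC.kernel_mul (Core.isIrr_isCharacter hψirr) h1 h
  let F1 : N →* GL (Fin k) K := f.comp N.subtype
  have hF1 : Function.Surjective F1 := by
    intro A
    obtain ⟨g, hg1, hg2⟩ := hf A
    exact ⟨⟨g, hg1⟩, hg2⟩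
  have hcN : ∀ h : stabW F.iso.subtype W₀, ∑ n : N, (c (f (h * n))) * conj (c (f (h * n))) = Nat.card N := by
    intro h
    have e1 : ∀ n : N, (c (f (h * n))) * conj (c (f (h * n))) = (fun A => c (f h * A) * conj (c (f h * A))) (F1 n) := by
      intro n
      change _ = c (f h * f n) * conj (c (f h * f n))
      rw [map_mul]
    rw [Finset.sum_congr rfl fun n _ => e1 n, sum_comp_hom F1 hF1 (fun A => c (f h * A) * conj (c (f h * A)))]
    have e2 : ∑ A, c (f h * A) * conj (c (f h * A)) = ∑ A, c A * conj (c A) :=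
      Fintype.sum_equiv (Equiv.mulLeft (f h)) _ _ fun A => rfl
    have e3 := Core.classInner_irr_self hc
    rw [Core.classInner_def] at e3
    have e4 : ∑ A, c A * conj (c A) = (Nat.card (GL (Fin k) K) : ℂ) := by
      have h0 : (Nat.card (GL (Fin k) K) : ℂ) ≠ 0 := Core.card_ne_zero_complex
      rw [← mul_one (Nat.card (GL (Fin k) K) : ℂ), ← e3, ← mul_assoc, mul_inv_cancel₀ h0, one_mul]
    rw [e2, e4, ← Nat.cast_mul]
    congr 1
    rw [← Nat.card_congr (QuotientGroup.quotientKerEquivOfSurjective F1 hF1).toEquiv, mul_comm,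
      ← Subgroup.card_eq_card_quotient_mul_card_subgroup]
  -- the norm
  have hN0 : (Nat.card N : ℂ) ≠ 0 := Core.card_ne_zero_complex
  have hS : ∑ g : stabW F.iso.subtype W₀, ((c ∘ f) * ψ') g * conj (((c ∘ f) * ψ') g) =
      ∑ g : stabW F.iso.subtype W₀, ψ' g * conj (ψ' g) := by
    have e1 : ∀ n : N, ∑ g : stabW F.iso.subtype W₀, ((c ∘ f) * ψ') g * conj (((c ∘ f) * ψ') g) =
        ∑ g : stabW F.iso.subtype W₀, (c (f (g * n)) * conj (c (f (g * n)))) * (ψ' g * conj (ψ' g)) := by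
      intro n
      rw [← Equiv.sum_comp (Equiv.mulRight (n : stabW F.iso.subtype W₀))]
      refine Finset.sum_congr rfl fun g _ => ?_
      rw [Equiv.coe_mulRight, Pi.mul_apply, Function.comp_apply, hψN, map_mul (starRingEnd ℂ)]
      ring
    have e2 : (Nat.card N : ℂ) * ∑ g : stabW F.iso.subtype W₀, ((c ∘ f) * ψ') g * conj (((c ∘ f) * ψ') g) =
        (Nat.card N : ℂ) * ∑ g : stabW F.iso.subtype W₀, ψ' g * conj (ψ' g) := by
      calc (Nat.card N : ℂ) * ∑ g : stabW F.iso.subtype W₀, ((c ∘ f) * ψ') g * conj (((c ∘ f) * ψ') g)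
          = ∑ n : N, ∑ g : stabW F.iso.subtype W₀, ((c ∘ f) * ψ') g * conj (((c ∘ f) * ψ') g) := by
            rw [Finset.sum_const, Finset.card_univ, ← Nat.card_eq_fintype_card, nsmul_eq_mul]
        _ = ∑ n : N, ∑ g : stabW F.iso.subtype W₀,
              (c (f (g * n)) * conj (c (f (g * n)))) * (ψ' g * conj (ψ' g)) :=
            Finset.sum_congr rfl fun n _ => e1 n
        _ = ∑ g : stabW F.iso.subtype W₀, ∑ n : N,
              (c (f (g * n)) * conj (c (f (g * n)))) * (ψ' g * conj (ψ' g)) := Finset.sum_comm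
        _ = ∑ g : stabW F.iso.subtype W₀, (Nat.card N : ℂ) * (ψ' g * conj (ψ' g)) := by
            refine Finset.sum_congr rfl fun g _ => ?_
            rw [← Finset.sum_mul, hcN]
        _ = _ := by rw [Finset.mul_sum]
    exact mul_left_cancel₀ hN0 e2
  rw [Core.classInner_def]
  have e5 := Core.classInner_irr_self hψirr
  rw [Core.classInner_def] at e5
  change (Nat.card _ : ℂ)⁻¹ * ∑ g : stabW F.iso.subtype W₀, ((c ∘ f) * ψ') g * conj (((c ∘ f) * ψ') g) = 1
  rw [hS]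
  exact e5

/-- the degree -/
theorem hc_one {k : ℕ} [Fintype (F.Om k)] [FiniteDimensional K V] {c : GL (Fin k) K → ℂ} (hcl : IsClassFunction _ c)
    (ψ : F.iso → Submodule K V → ℂ) {d : ℂ} (hd : ∀ W ∈ F.Om k, ψ 1 W = d) :
    F.hc c ψ 1 = (Nat.card (F.Om k) : ℂ) * c 1 * d := by
  classical
  unfold CForm.hc
  have h1 : ∀ W : F.Om k, flagTerm F.iso.subtype c 1 W.1 * ψ 1 W.1 = c 1 * d := by
    intro W
    have h : W.1.map (F.iso.subtype 1 : V →ₗ[K] V) = W.1 := Submodule.map_id _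
    rw [flagTerm_of F.iso.subtype c h, hd W.1 W.2]
    have e2 : res (F.iso.subtype 1) W.1 h = 1 := by
      ext w
      rfl
    rw [e2, cl_one hcl (finBasisOfFinrankEq K W.1 W.2.2)]
  rw [Finset.sum_congr rfl fun W _ => h1 W, Finset.sum_const, Finset.card_univ, ← Nat.card_eq_fintype_card,
    nsmul_eq_mul, mul_assoc]

/-- the value at a scalar -/
theorem hc_scalar {k : ℕ} [Fintype (F.Om k)] [FiniteDimensional K V] {c : GL (Fin k) K → ℂ} (hcl : IsClassFunction _ c)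
    (ψ : F.iso → Submodule K V → ℂ) {z : F.iso} {a : Kˣ} (hz : ∀ v, (z : V ≃ₗ[K] V) v = (a : K) • v)
    (hca : c (Matrix.GeneralLinearGroup.scalar (Fin k) a) = c 1) (hψ : ∀ W ∈ F.Om k, ψ z W = ψ 1 W) :
    F.hc c ψ z = F.hc c ψ 1 := by
  classical
  unfold CForm.hc
  refine Finset.sum_congr rfl fun W _ => ?_
  rw [hψ W.1 W.2]
  congr 1
  have h : W.1.map (F.iso.subtype z : V →ₗ[K] V) = W.1 := map_eq_of_le F.iso.subtype fun w hw => by
    change (z : V ≃ₗ[K] V) w ∈ W.1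
    rw [hz]; exact W.1.smul_mem _ hw
  have h' : W.1.map (F.iso.subtype 1 : V →ₗ[K] V) = W.1 := Submodule.map_id _
  rw [flagTerm_of F.iso.subtype c h, flagTerm_of F.iso.subtype c h', cl_eq hcl (finBasisOfFinrankEq K W.1 W.2.2)]
  have e2 : res (F.iso.subtype 1) W.1 h' = 1 := by
    ext w
    rfl
  rw [e2, cl_one hcl (finBasisOfFinrankEq K W.1 W.2.2), ← hca]
  congr 1
  ext i j
  rw [coe_glE, LinearMap.toMatrix_apply]
  have e2 : (res (F.iso.subtype z) W.1 h : W.1 →ₗ[K] W.1) (finBasisOfFinrankEq K W.1 W.2.2 j) =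
      (a : K) • (finBasisOfFinrankEq K W.1 W.2.2 j) := Subtype.ext (hz _)
  rw [e2, map_smul, Finsupp.smul_apply, Basis.repr_self, smul_eq_mul, Matrix.GeneralLinearGroup.coe_scalar,
    Matrix.scalar_apply, Matrix.diagonal_apply, Finsupp.single_apply]
  by_cases hij : i = j
  · simp [hij]
  · rw [if_neg hij, if_neg (Ne.symm hij), mul_zero]

end CForm

end Cfsg.Agent.H477.HC
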