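import Cfsg.Agent.H477.HC.N9

/-!
# The parameter modulo `3`, for `k = 2` over `𝔽₂` (hub H5, helper477)

`Frm.A_ne_zero` : `A ≠ 0` if `3 ∤ n₀`; `Ω⁺₁₀(2)` : a character of degree divisible by `14`.
-/

set_option autoImplicit false
set_option linter.unusedSimpArgs false
set_option linter.unusedSectionVars false

open scoped ComplexConjugate
open Cfsg

namespace Cfsg.Agent.H477.HC

open Cfsg.Agent.OddOrderCharacters.Clifford Cfsg.Agent.Characters MulAction Module Cfsg.Agent.H53.HC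
open Cfsg.Agent.H749.Two

universe u v w x

namespace CForm

section

variable {V : Type v} [AddCommGroup V] [Module (ZMod 2) V] [FiniteDimensional (ZMod 2) V] [Finite V]
  {F : CForm (ZMod 2) V} {X : Type w} [AddCommGroup X] [Module (ZMod 2) X] {F' : CForm (ZMod 2) X} {e f : Fin 2 → V}
  {j : X →ₗ[ZMod 2] V}

theorem add_self_V (v : V) : v + v = 0 := by
  rw [← two_smul (ZMod 2), show (2 : ZMod 2) = 0 from rfl, zero_smul]

theorem Frm.ef00 (h : Frm F F' e f j) : F.B (e 0) (f 0) = 1 := by rw [h.hef, if_pos rfl]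
theorem Frm.ef11 (h : Frm F F' e f j) : F.B (e 1) (f 1) = 1 := by rw [h.hef, if_pos rfl]
theorem Frm.ef01 (h : Frm F F' e f j) : F.B (e 0) (f 1) = 0 := by rw [h.hef, if_neg (by decide)]
theorem Frm.ef10 (h : Frm F F' e f j) : F.B (e 1) (f 0) = 0 := by rw [h.hef, if_neg (by decide)]
theorem Frm.fe00 (h : Frm F F' e f j) : F.B (f 0) (e 0) = 1 := by rw [h.hfe, if_pos rfl, ε_two]
theorem Frm.fe11 (h : Frm F F' e f j) : F.B (f 1) (e 1) = 1 := by rw [h.hfe, if_pos rfl, ε_two]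
theorem Frm.fe01 (h : Frm F F' e f j) : F.B (f 0) (e 1) = 0 := by rw [h.hfe, if_neg (by decide)]
theorem Frm.fe10 (h : Frm F F' e f j) : F.B (f 1) (e 0) = 0 := by rw [h.hfe, if_neg (by decide)]

theorem one_add_one2 : (1 : ZMod 2) + 1 = 0 := by decide

/-- the long root element -/
theorem Frm.exists_z (h : Frm F F' e f j) :
    ∃ z : F.iso, z ∈ Us F e ∧ (z : V ≃ₗ[ZMod 2] V) (f 0) = f 0 + e 1 ∧ (z : V ≃ₗ[ZMod 2] V) (f 1) = f 1 + e 0 ∧
      ∀ v, (∀ i, F.B v (e i) = 0) → (z : V ≃ₗ[ZMod 2] V) v = v := by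
  obtain ⟨u, h1, h2, h3⟩ := h.exists_unip (y := ![f 0 + e 1, f 1 + e 0])
    (by
      intro i l
      fin_cases i <;> fin_cases l <;>
        simp [F.B_add_right, h.hee, h.ef00, h.ef01, h.ef10, h.ef11])
    (by
      intro i l
      fin_cases i <;> fin_cases l <;>
        simp [F.B_add_right, F.B_add_left, h.hee, h.hff, h.ef00, h.ef01, h.ef10, h.ef11, h.fe00, h.fe01, h.fe10,
          h.fe11, one_add_one2])
    (by
      intro i
      fin_cases i <;> simp [F.Q_add, h.hQe, h.hQf, h.fe01, h.fe10, F.T_zero])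
  have h4 : ∀ v, (∀ i, F.B v (e i) = 0) → (u : V ≃ₗ[ZMod 2] V) v = v := by
    intro v hv
    rw [h3 v hv, Fin.sum_univ_two]
    simp [F.B_sub_right, F.B_add_right, hv]
  refine ⟨u, ⟨h1, fun v hv => by rw [h4 v hv, sub_self]; exact Submodule.zero_mem _⟩, h2 0, h2 1, h4⟩

/-- a second frame on the same subspaces -/
theorem Frm.frame' (h : Frm F F' e f j) : Frm F F' ![e 0, e 0 + e 1] ![f 0 + f 1, f 1] j where
  hee := by
    intro i l
    fin_cases i <;> fin_cases l <;> simp [F.B_add_right, F.B_add_left, h.hee]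
  hff := by
    intro i l
    fin_cases i <;> fin_cases l <;> simp [F.B_add_right, F.B_add_left, h.hff]
  hef := by
    intro i l
    fin_cases i <;> fin_cases l <;>
      simp [F.B_add_right, F.B_add_left, h.ef00, h.ef01, h.ef10, h.ef11, one_add_one2]
  hQe := by
    intro i
    fin_cases i <;> simp [F.Q_add, h.hQe, h.hee, F.T_zero]
  hQf := by
    intro i
    fin_cases i <;> simp [F.Q_add, h.hQf, h.hff, F.T_zero]
  hjB := h.hjB
  hjQ := h.hjQ
  hje := by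
    intro x i
    fin_cases i <;> simp [F.B_add_right, h.hje]
  hjf := by
    intro x i
    fin_cases i <;> simp [F.B_add_right, h.hjf]
  hdim := h.hdim

/-- the element of order three -/
theorem Frm.exists_t (h : Frm F F' e f j) {w : F.iso}
    (hw1 : ∀ i, (w : V ≃ₗ[ZMod 2] V) (e i) = f i) (hw2 : ∀ i, (w : V ≃ₗ[ZMod 2] V) (f i) = F.ε • e i)
    (hw3 : ∀ v, (∀ i, F.B v (e i) = 0) → (∀ i, F.B v (f i) = 0) → (w : V ≃ₗ[ZMod 2] V) v = v) :
    ∃ t : F.iso, t * w = w * t⁻¹ ∧ t⁻¹ * w = w * t ∧ (t : V ≃ₗ[ZMod 2] V) (e 0) = e 1 ∧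
      (t : V ≃ₗ[ZMod 2] V) (e 1) = e 0 + e 1 ∧ (t : V ≃ₗ[ZMod 2] V) (f 0) = f 0 + f 1 ∧
      (t : V ≃ₗ[ZMod 2] V) (f 1) = f 0 ∧
      (∀ v, (∀ i, F.B v (e i) = 0) → (∀ i, F.B v (f i) = 0) → (t : V ≃ₗ[ZMod 2] V) v = v) ∧ t ^ 3 = 1 := by
  have hww := h.w_sq ε_two hw1 hw2 hw3
  obtain ⟨w', a1, a2, a3⟩ := h.frame'.exists_w
  have hww' := h.frame'.w_sq ε_two a1 a2 a3
  have b1 : (w' : V ≃ₗ[ZMod 2] V) (e 0) = f 0 + f 1 := a1 0
  have b2 : (w' : V ≃ₗ[ZMod 2] V) (e 0 + e 1) = f 1 := a1 1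
  have b3 : (w' : V ≃ₗ[ZMod 2] V) (f 0 + f 1) = e 0 := by
    have := a2 0
    rw [ε_two, one_smul] at this
    exact this
  have b4 : (w' : V ≃ₗ[ZMod 2] V) (f 1) = e 0 + e 1 := by
    have := a2 1
    rw [ε_two, one_smul] at this
    exact this
  have b5 : (w' : V ≃ₗ[ZMod 2] V) (e 1) = f 0 := by
    have e1 : e 1 = (e 0 + e 1) + e 0 := by
      rw [add_comm (e 0) (e 1), add_assoc, add_self_V, add_zero]
    rw [e1, map_add, b2, b1, add_comm (f 0) (f 1), ← add_assoc, add_self_V, zero_add]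
  have b6 : (w' : V ≃ₗ[ZMod 2] V) (f 0) = e 1 := by
    have e1 : f 0 = (f 0 + f 1) + f 1 := by rw [add_assoc, add_self_V, add_zero]
    rw [e1, map_add, b3, b4, ← add_assoc, add_self_V, zero_add]
  have b7 : ∀ v, (∀ i, F.B v (e i) = 0) → (∀ i, F.B v (f i) = 0) → (w' : V ≃ₗ[ZMod 2] V) v = v := by
    intro v h1 h2
    refine a3 v (fun i => ?_) (fun i => ?_)
    · fin_cases i <;> simp [F.B_add_right, h1]
    · fin_cases i <;> simp [F.B_add_right, h2]
  have c1 : ((w' * w : F.iso) : V ≃ₗ[ZMod 2] V) (e 0) = e 1 := by rw [mul_apply', hw1, b6]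
  have c2 : ((w' * w : F.iso) : V ≃ₗ[ZMod 2] V) (e 1) = e 0 + e 1 := by rw [mul_apply', hw1, b4]
  have c3 : ((w' * w : F.iso) : V ≃ₗ[ZMod 2] V) (f 0) = f 0 + f 1 := by
    rw [mul_apply', hw2, ε_two, one_smul, b1]
  have c4 : ((w' * w : F.iso) : V ≃ₗ[ZMod 2] V) (f 1) = f 0 := by
    rw [mul_apply', hw2, ε_two, one_smul, b5]
  have c5 : ∀ v, (∀ i, F.B v (e i) = 0) → (∀ i, F.B v (f i) = 0) → ((w' * w : F.iso) : V ≃ₗ[ZMod 2] V) v = v := by
    intro v h1 h2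
    rw [mul_apply', hw3 v h1 h2, b7 v h1 h2]
  have hinv : (w' * w)⁻¹ = w * w' := by
    rw [mul_inv_rev, inv_eq_of_mul_eq_one_left hww, inv_eq_of_mul_eq_one_left hww']
  refine ⟨w' * w, ?_, ?_, c1, c2, c3, c4, c5, ?_⟩
  · rw [hinv, mul_assoc, hww, mul_one, ← mul_assoc, hww, one_mul]
  · rw [hinv, mul_assoc]
  · -- order three
    have d1 : ∀ v, (((w' * w) ^ 3 : F.iso) : V ≃ₗ[ZMod 2] V) v = ((w' * w : F.iso) : V ≃ₗ[ZMod 2] V)
        (((w' * w : F.iso) : V ≃ₗ[ZMod 2] V) (((w' * w : F.iso) : V ≃ₗ[ZMod 2] V) v)) := by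
      intro v
      rw [pow_succ, pow_two, mul_apply', mul_apply']
    have d2 : ∀ i, (((w' * w) ^ 3 : F.iso) : V ≃ₗ[ZMod 2] V) (e i) = e i := by
      intro i
      rw [d1]
      fin_cases i
      · change ((w' * w : F.iso) : V ≃ₗ[ZMod 2] V) (((w' * w : F.iso) : V ≃ₗ[ZMod 2] V)
          (((w' * w : F.iso) : V ≃ₗ[ZMod 2] V) (e 0))) = e 0
        rw [c1, c2, map_add, c1, c2, add_comm (e 0) (e 1), ← add_assoc, add_self_V, zero_add]
      · change ((w' * w : F.iso) : V ≃ₗ[ZMod 2] V) (((w' * w : F.iso) : V ≃ₗ[ZMod 2] V)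
          (((w' * w : F.iso) : V ≃ₗ[ZMod 2] V) (e 1))) = e 1
        rw [c2, map_add, c1, c2, add_comm (e 0) (e 1), ← add_assoc, add_self_V, zero_add, c1]
    have d3 : ∀ i, (((w' * w) ^ 3 : F.iso) : V ≃ₗ[ZMod 2] V) (f i) = f i := by
      intro i
      rw [d1]
      fin_cases i
      · change ((w' * w : F.iso) : V ≃ₗ[ZMod 2] V) (((w' * w : F.iso) : V ≃ₗ[ZMod 2] V)
          (((w' * w : F.iso) : V ≃ₗ[ZMod 2] V) (f 0))) = f 0
        rw [c3, map_add, c3, c4, add_comm (f 0) (f 1), add_assoc, add_self_V, add_zero, c4]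
      · change ((w' * w : F.iso) : V ≃ₗ[ZMod 2] V) (((w' * w : F.iso) : V ≃ₗ[ZMod 2] V)
          (((w' * w : F.iso) : V ≃ₗ[ZMod 2] V) (f 1))) = f 1
        rw [c4, c3, map_add, c3, c4, add_comm (f 0) (f 1), add_assoc, add_self_V, add_zero]
    refine h.Us_eq_one ⟨d2, fun v hv => ?_⟩ (fun i => by rw [d3]; exact Submodule.subset_span ⟨i, rfl⟩)
    -- `v = (∑ B v f e) + s`
    have d4 : ∀ s : V, (∀ i, F.B s (e i) = 0) → (∀ i, F.B s (f i) = 0) →
        (((w' * w) ^ 3 : F.iso) : V ≃ₗ[ZMod 2] V) s = s := by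
      intro s h1 h2
      rw [d1, c5 s h1 h2, c5 s h1 h2, c5 s h1 h2]
    have d5 := d4 (v - ∑ i, F.B v (f i) • e i)
      (fun l => by
        rw [F.B_sub_left, B_sum_left, hv, zero_sub, neg_eq_zero]
        exact Finset.sum_eq_zero fun i _ => by rw [h.hee, mul_zero])
      (fun l => by
        rw [F.B_sub_left, B_sum_left]
        simp only [h.hef]
        rw [sum_delta (fun i => F.B v (f i)) l, sub_self])
    have d6 : (((w' * w) ^ 3 : F.iso) : V ≃ₗ[ZMod 2] V) (∑ i, F.B v (f i) • e i) = ∑ i, F.B v (f i) • e i := by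
      rw [map_sum]
      exact Finset.sum_congr rfl fun i _ => by rw [map_smul, d2]
    rw [map_sub, d6, sub_left_inj] at d5
    rw [d5, sub_self]
    exact Submodule.zero_mem _

/-- the centralizer of `t` in the unipotent radical -/
theorem Frm.cent_t [FiniteDimensional (ZMod 2) X] (h : Frm F F' e f j)
    (hσ : F.σ = F'.σ) (hT : ∀ x, F.T x = x) {t : F.iso}
    (t1 : (t : V ≃ₗ[ZMod 2] V) (e 0) = e 1) (t2 : (t : V ≃ₗ[ZMod 2] V) (e 1) = e 0 + e 1)
    (t3 : (t : V ≃ₗ[ZMod 2] V) (f 0) = f 0 + f 1) (t4 : (t : V ≃ₗ[ZMod 2] V) (f 1) = f 0)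
    (t5 : ∀ v, (∀ i, F.B v (e i) = 0) → (∀ i, F.B v (f i) = 0) → (t : V ≃ₗ[ZMod 2] V) v = v)
    {z : F.iso} (hz : z ∈ Us F e) (z1 : (z : V ≃ₗ[ZMod 2] V) (f 0) = f 0 + e 1)
    (z2 : (z : V ≃ₗ[ZMod 2] V) (f 1) = f 1 + e 0) {u : F.iso} (hu : u ∈ Us F e) (htu : t * u = u * t) :
    u = 1 ∨ u = z := by
  obtain ⟨q, hq, hqj, hqW⟩ := (h.cmp hσ).exists_proj
  have hmem : ∀ i, (u : V ≃ₗ[ZMod 2] V) (f i) - f i ∈ F.perp (Submodule.span (ZMod 2) (Set.range e)) := by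
    intro i w hw
    have h1 : F.B ((u : V ≃ₗ[ZMod 2] V) (f i) - f i) w = 0 := by
      rw [F.B_sub_left]
      nth_rw 1 [← Us_span hu hw]
      rw [F.iso_B, sub_self]
    exact h1
  have hdec : ∀ i, ∃ w ∈ Submodule.span (ZMod 2) (Set.range e), ∃ x, (u : V ≃ₗ[ZMod 2] V) (f i) = f i + (w + j x) := by
    intro i
    obtain ⟨w, hw, x, hx⟩ := (h.cmp hσ).j2 _ (hmem i)
    exact ⟨w, hw, x, by rw [← hx]; abel⟩
  obtain ⟨w0, hw0, x0, e0⟩ := hdec 0
  obtain ⟨w1, hw1, x1, e1⟩ := hdec 1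
  have htw : ∀ w ∈ Submodule.span (ZMod 2) (Set.range e), (t : V ≃ₗ[ZMod 2] V) w ∈ Submodule.span (ZMod 2) (Set.range e) := by
    intro w hw
    refine par_mem ((mem_par e t).2 fun i => ?_) hw
    fin_cases i
    · change (t : V ≃ₗ[ZMod 2] V) (e 0) ∈ _
      rw [t1]; exact Submodule.subset_span ⟨1, rfl⟩
    · change (t : V ≃ₗ[ZMod 2] V) (e 1) ∈ _
      rw [t2]; exact Submodule.add_mem _ (Submodule.subset_span ⟨0, rfl⟩) (Submodule.subset_span ⟨1, rfl⟩)
  have htj : ∀ x, (t : V ≃ₗ[ZMod 2] V) (j x) = j x := fun x => t5 _ (h.hje x) (h.hjf x)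
  have hcomm : ∀ v, (t : V ≃ₗ[ZMod 2] V) ((u : V ≃ₗ[ZMod 2] V) v) = (u : V ≃ₗ[ZMod 2] V) ((t : V ≃ₗ[ZMod 2] V) v) := by
    intro v
    rw [← mul_apply', htu, mul_apply']
  -- the components in `X`
  have hx1 : x0 = x1 := by
    have h1 := hcomm (f 1)
    rw [t4, e0, e1, map_add, t4, map_add, htj] at h1
    have h2 := congrArg q (add_left_cancel h1)
    rw [map_add, map_add, hqj, hqj, hqW _ hw0, hqW _ (htw _ hw1), zero_add, zero_add] at h2
    exact h2.symm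
  have hx0 : x1 = 0 := by
    have h1 := hcomm (f 0)
    rw [t3, map_add, e0, e1, map_add, t3, map_add, htj] at h1
    have h3 : f 0 + (w0 + j x0) + (f 1 + (w1 + j x1)) = f 0 + f 1 + ((w0 + j x0) + (w1 + j x1)) := by abel
    rw [h3] at h1
    have h2 := congrArg q (add_left_cancel h1)
    rw [map_add, map_add, map_add, map_add, hqj, hqj, hqW _ hw0, hqW _ hw1, hqW _ (htw _ hw0), zero_add, zero_add] at h2
    exact (add_eq_left.1 h2.symm)
  rw [hx1, hx0, map_zero, add_zero] at e0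
  rw [hx0, map_zero, add_zero] at e1
  obtain ⟨a, ha⟩ := (Submodule.mem_span_range_iff_exists_fun (ZMod 2)).1 hw0
  obtain ⟨b, hb⟩ := (Submodule.mem_span_range_iff_exists_fun (ZMod 2)).1 hw1
  rw [Fin.sum_univ_two] at ha hb
  rw [← ha] at e0
  rw [← hb] at e1
  have q0 : a 0 = 0 := by
    have h1 : F.Q ((u : V ≃ₗ[ZMod 2] V) (f 0)) = F.Q (f 0) := F.iso_Q u _
    rw [e0, F.Q_add, h.hQf, hT, F.B_add_right, F.B_smul_right, F.B_smul_right, h.fe00, h.fe01, σ_two, σ_two, F.Q_add,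
      F.Q_smul, F.Q_smul, h.hQe, h.hQe, hT, F.B_smul_left, F.B_smul_right, h.hee] at h1
    simpa using h1
  have q1 : b 1 = 0 := by
    have h1 : F.Q ((u : V ≃ₗ[ZMod 2] V) (f 1)) = F.Q (f 1) := F.iso_Q u _
    rw [e1, F.Q_add, h.hQf, hT, F.B_add_right, F.B_smul_right, F.B_smul_right, h.fe10, h.fe11, σ_two, σ_two, F.Q_add,
      F.Q_smul, F.Q_smul, h.hQe, h.hQe, hT, F.B_smul_left, F.B_smul_right, h.hee] at h1
    simpa using h1
  rw [q0, zero_smul, zero_add] at e0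
  rw [q1, zero_smul, add_zero] at e1
  have q2 : b 0 + a 1 = 0 := by
    have h1 : F.B ((u : V ≃ₗ[ZMod 2] V) (f 0)) ((u : V ≃ₗ[ZMod 2] V) (f 1)) = F.B (f 0) (f 1) := F.iso_B u _ _
    rw [e0, e1, F.B_add_left, F.B_add_right, F.B_add_right, F.B_smul_right, F.B_smul_right, F.B_smul_left,
      F.B_smul_left, h.hff, h.fe00, h.ef11, h.hee, σ_two] at h1
    simpa using h1
  have q3 : b 0 = a 1 := by
    have : ∀ x y : ZMod 2, x + y = 0 → x = y := by decide
    exact this _ _ q2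
  rcases eq_or_ne (a 1) 0 with h0 | h0
  · left
    rw [h0, zero_smul, add_zero] at e0
    rw [q3, h0, zero_smul, add_zero] at e1
    refine h.Us_eq_one hu fun i => ?_
    fin_cases i
    · change (u : V ≃ₗ[ZMod 2] V) (f 0) ∈ _
      rw [e0]; exact Submodule.subset_span ⟨0, rfl⟩
    · change (u : V ≃ₗ[ZMod 2] V) (f 1) ∈ _
      rw [e1]; exact Submodule.subset_span ⟨1, rfl⟩
  · right
    have h1 := eq_one2 _ h0
    rw [h1, one_smul] at e0
    rw [q3, h1, one_smul] at e1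
    have h2 : z⁻¹ * u = 1 := by
      refine h.Us_eq_one (Subgroup.mul_mem _ (Subgroup.inv_mem _ hz) hu) fun i => ?_
      rw [mul_apply']
      fin_cases i
      · change ((z⁻¹ : F.iso) : V ≃ₗ[ZMod 2] V) ((u : V ≃ₗ[ZMod 2] V) (f 0)) ∈ _
        rw [e0, ← z1, inv_apply']; exact Submodule.subset_span ⟨0, rfl⟩
      · change ((z⁻¹ : F.iso) : V ≃ₗ[ZMod 2] V) ((u : V ≃ₗ[ZMod 2] V) (f 1)) ∈ _
        rw [e1, ← z2, inv_apply']; exact Submodule.subset_span ⟨1, rfl⟩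
    exact (inv_mul_eq_one.1 h2).symm

/-- **`A ≠ 0`** -/
theorem Frm.A_ne_zero [FiniteDimensional (ZMod 2) X] (h : Frm F F' e f j)
    (hσ : F.σ = F'.σ) (hT : ∀ x, F.T x = x)
    [Fintype F.iso] [Fintype (stabW F.iso.subtype (Submodule.span (ZMod 2) (Set.range e)))] [Fintype (Us F e)]
    {w : F.iso} (hw1 : ∀ i, (w : V ≃ₗ[ZMod 2] V) (e i) = f i) (hw2 : ∀ i, (w : V ≃ₗ[ZMod 2] V) (f i) = F.ε • e i)
    (hw3 : ∀ v, (∀ i, F.B v (e i) = 0) → (∀ i, F.B v (f i) = 0) → (w : V ≃ₗ[ZMod 2] V) v = v)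
    (b : Basis (Fin 2) (ZMod 2) (Submodule.span (ZMod 2) (Set.range e)))
    {pr : stabW F.iso.subtype (Submodule.span (ZMod 2) (Set.range e)) →* F'.iso}
    (hρ1 : ∀ (g : stabW F.iso.subtype (Submodule.span (ZMod 2) (Set.range e))) y,
      ((g : F.iso) : V ≃ₗ[ZMod 2] V) (j y) - j ((pr g : X ≃ₗ[ZMod 2] X) y) ∈ Submodule.span (ZMod 2) (Set.range e))
    {M : Type x} [AddCommGroup M] [Module ℂ M] [FiniteDimensional ℂ M] (ρ₀ : Representation ℂ F'.iso M)
    {n₀ : ℕ} (hψ1 : ρ₀.character 1 = n₀) (h3 : ¬ 3 ∣ n₀)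
    (hn : HN (stabW F.iso.subtype (Submodule.span (ZMod 2) (Set.range e))) (Us F e) w (crep b sgnGL pr ρ₀))
    {A : ℂ} (hTT : (Top (Us F e) w * Ep (stabW F.iso.subtype (Submodule.span (ZMod 2) (Set.range e))) (crep b sgnGL pr ρ₀)) *
        (Top (Us F e) w * Ep (stabW F.iso.subtype (Submodule.span (ZMod 2) (Set.range e))) (crep b sgnGL pr ρ₀)) =
        A • (Top (Us F e) w * Ep (stabW F.iso.subtype (Submodule.span (ZMod 2) (Set.range e))) (crep b sgnGL pr ρ₀)) +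
        (Nat.card (Us F e) : ℂ) • Ep (stabW F.iso.subtype (Submodule.span (ZMod 2) (Set.range e))) (crep b sgnGL pr ρ₀)) :
    A ≠ 0 := by
  classical
  have hww := h.w_sq ε_two hw1 hw2 hw3
  obtain ⟨t, s1, s2, t1, t2, t3, t4, t5, t6⟩ := h.exists_t hw1 hw2 hw3
  obtain ⟨z, hz, z1, z2, z3⟩ := h.exists_z
  have htP : t ∈ stabW F.iso.subtype (Submodule.span (ZMod 2) (Set.range e)) := by
    rw [mem_par]
    intro i
    fin_cases i
    · change (t : V ≃ₗ[ZMod 2] V) (e 0) ∈ _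
      rw [t1]; exact Submodule.subset_span ⟨1, rfl⟩
    · change (t : V ≃ₗ[ZMod 2] V) (e 1) ∈ _
      rw [t2]; exact Submodule.add_mem _ (Submodule.subset_span ⟨0, rfl⟩) (Submodule.subset_span ⟨1, rfl⟩)
  have t7 : t⁻¹ ^ 3 = 1 := by rw [inv_pow, t6, inv_one]
  obtain ⟨c, hc, hA⟩ := hn.A_mod' hTT Nat.prime_three htP (Subgroup.inv_mem _ htP) t6 t7 s1 s2
    (Finset.univ.filter (fun x : Us F e × Us F e => t⁻¹ * (x.1 : F.iso) = x.1 * t⁻¹ ∧ t * (x.2 : F.iso) = x.2 * t))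
    (fun x => by simp only [Finset.mem_filter, Finset.mem_univ, true_and])
  have hwz : ∀ i, (z : V ≃ₗ[ZMod 2] V) (e i) = e i := fun i => Us_e hz i
  have w1' : ∀ i, (w : V ≃ₗ[ZMod 2] V) (f i) = e i := fun i => by rw [hw2, ε_two, one_smul]
  -- the element `g₀`
  have g1 : ((w * z * w * z * w : F.iso) : V ≃ₗ[ZMod 2] V) (e 0) = e 1 := by
    rw [mul_apply', mul_apply', mul_apply', mul_apply', hw1, z1, map_add, w1', hw1, map_add, hwz, z2, add_comm (f 1),
      ← add_assoc, add_self_V, zero_add, w1']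
  have g2 : ((w * z * w * z * w : F.iso) : V ≃ₗ[ZMod 2] V) (e 1) = e 0 := by
    rw [mul_apply', mul_apply', mul_apply', mul_apply', hw1, z2, map_add, w1', hw1, map_add, hwz, z1, add_comm (f 0),
      ← add_assoc, add_self_V, zero_add, w1']
  have g3 : ∀ y, ((w * z * w * z * w : F.iso) : V ≃ₗ[ZMod 2] V) (j y) = j y := by
    intro y
    have a1 : (w : V ≃ₗ[ZMod 2] V) (j y) = j y := hw3 _ (h.hje y) (h.hjf y)
    have a2 : (z : V ≃ₗ[ZMod 2] V) (j y) = j y := z3 _ (h.hje y)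
    rw [mul_apply', mul_apply', mul_apply', mul_apply', a1, a2, a1, a2, a1]
  have g4 : (w * z * w * z * w : F.iso) ∈ stabW F.iso.subtype (Submodule.span (ZMod 2) (Set.range e)) := by
    rw [mem_par]
    intro i
    fin_cases i
    · change ((w * z * w * z * w : F.iso) : V ≃ₗ[ZMod 2] V) (e 0) ∈ _
      rw [g1]; exact Submodule.subset_span ⟨1, rfl⟩
    · change ((w * z * w * z * w : F.iso) : V ≃ₗ[ZMod 2] V) (e 1) ∈ _
      rw [g2]; exact Submodule.subset_span ⟨0, rfl⟩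
  -- its image
  obtain ⟨q, hq, hqj, hqW⟩ := (h.cmp hσ).exists_proj
  have g5 : pr ⟨w * z * w * z * w, g4⟩ = 1 := by
    apply Subtype.ext
    apply LinearEquiv.ext
    intro y
    have a1 := hqW _ (hρ1 ⟨w * z * w * z * w, g4⟩ y)
    rw [map_sub, hqj, sub_eq_zero] at a1
    rw [← a1]
    change q (((w * z * w * z * w : F.iso) : V ≃ₗ[ZMod 2] V) (j y)) = y
    rw [g3, hqj]
  let R := resHom F.iso.subtype (Submodule.span (ZMod 2) (Set.range e)) ⟨w * z * w * z * w, g4⟩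
  have hR : ∀ v : Submodule.span (ZMod 2) (Set.range e), ((R v : Submodule.span (ZMod 2) (Set.range e)) : V) =
      ((w * z * w * z * w : F.iso) : V ≃ₗ[ZMod 2] V) v := fun _ => rfl
  have g6 : R * R = 1 := by
    apply LinearEquiv.ext
    intro v
    apply Subtype.ext
    change ((R (R v) : Submodule.span (ZMod 2) (Set.range e)) : V) = v
    rw [hR, hR]
    obtain ⟨a, ha⟩ := (Submodule.mem_span_range_iff_exists_fun (ZMod 2)).1 v.2
    rw [← ha, Fin.sum_univ_two, map_add, map_add, map_smul, map_smul, map_smul, map_smul, g1, g2, g1]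
  have g7 : R ≠ 1 := by
    intro h1
    have h2 : ((w * z * w * z * w : F.iso) : V ≃ₗ[ZMod 2] V) (e 0) = e 0 :=
      congrArg Subtype.val (LinearEquiv.congr_fun h1 ⟨e 0, Submodule.subset_span ⟨0, rfl⟩⟩)
    rw [g1] at h2
    have h3 := h.ef11
    rw [h2, h.ef01] at h3
    exact absurd h3 (by decide)
  have g8 : ((sgnGL (glE b R) : ℂˣ) : ℂ) = -1 := by
    rw [sgnGL_val, sgM_invol]
    · norm_num
    · have : glE b R * glE b R = 1 := by rw [← map_mul, g6, map_one]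
      exact congrArg Units.val this
    · intro h1
      apply g7
      apply (glE b).injective
      rw [map_one]
      exact Units.ext h1
  have g9 : extendByZero (stabW F.iso.subtype (Submodule.span (ZMod 2) (Set.range e))) (crep b sgnGL pr ρ₀).character
      (w * z * w * z * w)⁻¹ = -(n₀ : ℂ) := by
    rw [ext_apply_mem _ _ _ (Subgroup.inv_mem _ g4)]
    have e1 : (⟨(w * z * w * z * w)⁻¹, Subgroup.inv_mem _ g4⟩ :
        stabW F.iso.subtype (Submodule.span (ZMod 2) (Set.range e))) = ⟨w * z * w * z * w, g4⟩⁻¹ := rfl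
    have e2 : sgnGL (glE b R) = -1 := Units.ext g8
    rw [e1, crep_char, flagTerm_cfun b, map_inv, map_inv, map_inv, Function.comp_apply, map_inv, g5, inv_one, hψ1]
    change (((sgnGL (glE b R))⁻¹ : ℂˣ) : ℂ) * (n₀ : ℂ) = _
    rw [e2]
    simp
  have hchar1 : (crep b sgnGL pr ρ₀).character 1 = n₀ := by
    rw [crep_char, flagTerm_cfun b, Function.comp_apply, map_one pr, hψ1, map_one, map_one, map_one, Units.val_one,
      one_mul]
  rw [hchar1, Finset.sum_eq_single ((⟨z, hz⟩, ⟨z, hz⟩) : Us F e × Us F e)] at hA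
  · intro h0
    rw [h0, zero_mul, g9] at hA
    have h4 : (n₀ : ℂ) = 3 * c := by
      push_cast at hA
      linear_combination hA
    have h5 : c = (((n₀ : ℚ) / 3 : ℚ) : ℂ) := by
      push_cast
      rw [h4]
      field_simp
    obtain ⟨m, hm⟩ := int_of_rat hc h5
    rw [hm] at h4
    have h6 : (n₀ : ℤ) = 3 * m := by exact_mod_cast h4
    exact h3 (by exact_mod_cast Dvd.intro _ h6.symm)
  · rintro ⟨u, u'⟩ hx hne
    rw [Finset.mem_filter] at hx
    obtain ⟨-, h1, h2⟩ := hx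
    have h1' : t * (u : F.iso) = u * t := by
      have h1'' : t⁻¹ * (u : F.iso) = u * t⁻¹ := h1
      calc t * (u : F.iso) = t * (u * t⁻¹) * t := by group
        _ = t * (t⁻¹ * u) * t := by rw [h1'']
        _ = u * t := by group
    have wP := hn.wP
    have c1 := h.cent_t hσ hT t1 t2 t3 t4 t5 hz z1 z2 u.2 h1'
    have c2 := h.cent_t hσ hT t1 t2 t3 t4 t5 hz z1 z2 u'.2 h2
    rw [ext_apply_not_mem]
    intro hP
    have hP' := Subgroup.inv_mem _ hP
    rw [inv_inv] at hP'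
    rcases c1 with c1 | c1
    · change w * (u : F.iso) * w * (u' : F.iso) * w ∈ _ at hP'
      rw [c1, mul_one, hww, one_mul] at hP'
      apply wP
      have := Subgroup.mul_mem _ (Subgroup.inv_mem _ (hn.le u'.2)) hP'
      rwa [inv_mul_cancel_left] at this
    · rcases c2 with c2 | c2
      · change w * (u : F.iso) * w * (u' : F.iso) * w ∈ _ at hP'
        rw [c2, mul_one, mul_assoc, hww, mul_one] at hP'
        apply wP
        have := Subgroup.mul_mem _ hP' (Subgroup.inv_mem _ (hn.le u.2))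
        rwa [mul_inv_cancel_right] at this
      · exact hne (Prod.ext (Subtype.ext c1) (Subtype.ext c2))
  · intro h1
    have k0 : ((t⁻¹ : F.iso) : V ≃ₗ[ZMod 2] V) (f 0) = f 1 := by
      have := inv_apply' t (f 1)
      rwa [t4] at this
    have k1 : ((t⁻¹ : F.iso) : V ≃ₗ[ZMod 2] V) (f 1) = f 0 + f 1 := by
      have := inv_apply' t (f 0)
      rw [t3, map_add, k0] at this
      calc ((t⁻¹ : F.iso) : V ≃ₗ[ZMod 2] V) (f 1) = f 1 + (f 1 + ((t⁻¹ : F.iso) : V ≃ₗ[ZMod 2] V) (f 1)) := by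
            rw [← add_assoc, add_self_V, zero_add]
        _ = f 0 + f 1 := by rw [this, add_comm]
    have k2 : z⁻¹ * (t * z * t⁻¹) = 1 := by
      refine h.Us_eq_one (Subgroup.mul_mem _ (Subgroup.inv_mem _ hz) (h.Us_nor htP hz)) fun i => ?_
      rw [mul_apply', mul_apply', mul_apply']
      fin_cases i
      · change ((z⁻¹ : F.iso) : V ≃ₗ[ZMod 2] V) ((t : V ≃ₗ[ZMod 2] V) ((z : V ≃ₗ[ZMod 2] V)
          (((t⁻¹ : F.iso) : V ≃ₗ[ZMod 2] V) (f 0)))) ∈ _
        rw [k0, z2, map_add, t4, t1, ← z1, inv_apply']; exact Submodule.subset_span ⟨0, rfl⟩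
      · change ((z⁻¹ : F.iso) : V ≃ₗ[ZMod 2] V) ((t : V ≃ₗ[ZMod 2] V) ((z : V ≃ₗ[ZMod 2] V)
          (((t⁻¹ : F.iso) : V ≃ₗ[ZMod 2] V) (f 1)))) ∈ _
        have k3 : (t : V ≃ₗ[ZMod 2] V) ((z : V ≃ₗ[ZMod 2] V) (f 0 + f 1)) = (z : V ≃ₗ[ZMod 2] V) (f 1) := by
          rw [map_add, z1, z2, map_add, map_add, map_add, t3, t4, t1, t2]
          have : f 0 + f 1 + (e 0 + e 1) + (f 0 + e 1) = (f 0 + f 0) + (e 1 + e 1) + (f 1 + e 0) := by abel
          rw [this, add_self_V, add_self_V, add_zero, zero_add]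
        rw [k1, k3, inv_apply']; exact Submodule.subset_span ⟨1, rfl⟩
    have k4 : t * z = z * t := by
      have := (inv_mul_eq_one.1 k2)
      calc t * z = (t * z * t⁻¹) * t := by group
        _ = z * t := by rw [← this]
    refine absurd ?_ h1
    rw [Finset.mem_filter]
    refine ⟨Finset.mem_univ _, ?_, k4⟩
    change t⁻¹ * z = z * t⁻¹
    calc t⁻¹ * z = t⁻¹ * (z * t) * t⁻¹ := by group
      _ = t⁻¹ * (t * z) * t⁻¹ := by rw [k4]
      _ = z * t⁻¹ := by group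

end

end CForm

end Cfsg.Agent.H477.HC
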