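import Cfsg.Agent.H477.HC.Hecke

/-!
# Norm `2`: the two constituents have degrees `d`, `p ^ b * d` (hub H5, helper477)

`HN P U w ρ` : as `HD`, with the vanishing of the Mackey terms instead of `van`.
`HN.quad` : `T² = A T + |U|`; `HN.two` : the constituents; `HN.two_pow` : their degrees if `|U| = p ^ N`;
parity of `b` if the character of `ρ` is rational; `A = 0` if `T` is conjugate to `- T`.
-/

set_option autoImplicit false
set_option linter.unusedSectionVars false

open scoped ComplexConjugate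
open Cfsg

namespace Cfsg.Agent.H477.HC

open Cfsg.Agent.OddOrderCharacters.Clifford Cfsg.Agent.Characters Module

universe u v

section Machine

variable {G : Type u} [Group G] [Fintype G] (P : Subgroup G) [Fintype P] {M : Type v} [AddCommGroup M] [Module ℂ M]
  (ρ : Representation ℂ P M)

/-- the data -/
structure HN (P U : Subgroup G) [Fintype P] (w : G) (ρ : Representation ℂ P M) : Prop where
  le : U ≤ P
  nor : ∀ p ∈ P, ∀ u ∈ U, p * u * p⁻¹ ∈ U
  triv : ∀ u : P, (u : G) ∈ U → ρ u = 1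
  big : ∀ p : P, ∃ u ∈ U, ∃ p' : P, (p : G) * w = u * w * p' ∧ ρ p' = ρ p
  ww : ∃ p : P, (p : G) = w * w ∧ ρ p = 1
  opp : ∀ u ∈ U, w * u * w ∈ P → u = 1
  wP : w ∉ P
  tw : ∀ x : G, x ∉ P → (¬ ∃ u ∈ U, ∃ p ∈ P, x = u * w * p) → twist P ρ.character ρ.character x = 0

variable {P ρ} {U : Subgroup G} {w : G}

theorem HN.inj (h : HN P U w ρ) {u u' : G} (hu : u ∈ U) (hu' : u' ∈ U) {p p' : G} (hp : p ∈ P) (hp' : p' ∈ P)
    (e : u * w * p = u' * w * p') : u = u' ∧ p = p' := by
  have h1 : w⁻¹ * (u'⁻¹ * u) * w = p' * p⁻¹ := by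
    have h2 : u'⁻¹ * (u * w * p) * p⁻¹ = u'⁻¹ * (u' * w * p') * p⁻¹ := by rw [e]
    have h3 : u'⁻¹ * u * w = w * p' * p⁻¹ := by
      calc u'⁻¹ * u * w = u'⁻¹ * (u * w * p) * p⁻¹ := by group
        _ = u'⁻¹ * (u' * w * p') * p⁻¹ := h2
        _ = w * p' * p⁻¹ := by group
    calc w⁻¹ * (u'⁻¹ * u) * w = w⁻¹ * (u'⁻¹ * u * w) := by group
      _ = w⁻¹ * (w * p' * p⁻¹) := by rw [h3]
      _ = p' * p⁻¹ := by group
  have h4 : w * (u'⁻¹ * u) * w ∈ P := by
    obtain ⟨q, hq, -⟩ := h.ww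
    have : w * (u'⁻¹ * u) * w = (w * w) * (w⁻¹ * (u'⁻¹ * u) * w) := by group
    rw [this, h1, ← hq]
    exact P.mul_mem q.2 (P.mul_mem hp' (P.inv_mem hp))
  have h5 := h.opp _ (U.mul_mem (U.inv_mem hu') hu) h4
  have h6 : u = u' := (inv_mul_eq_one.1 h5).symm
  refine ⟨h6, ?_⟩
  rw [h6] at e
  exact mul_left_cancel e

theorem HN.inV_Top (h : HN P U w ρ) [Fintype U] {f : G → M} (hf : InV P ρ f) : InV P ρ (Top U w f) := by
  intro g p
  rw [Top_apply, Top_apply, map_sum]
  obtain ⟨u₀, hu₀, p', e, e'⟩ := h.big p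
  -- `u ↦ p u p⁻¹ u₀`
  let φ : U ≃ U :=
    { toFun := fun u => ⟨p * u * (p : G)⁻¹ * u₀, U.mul_mem (h.nor p p.2 u u.2) hu₀⟩
      invFun := fun u => ⟨(p : G)⁻¹ * (u * u₀⁻¹) * p, by
        have := h.nor (p : G)⁻¹ (P.inv_mem p.2) (u * u₀⁻¹) (U.mul_mem u.2 (U.inv_mem hu₀))
        rwa [inv_inv] at this⟩
      left_inv := fun u => by
        apply Subtype.ext
        change (p : G)⁻¹ * (p * u * (p : G)⁻¹ * u₀ * u₀⁻¹) * p = u
        group
      right_inv := fun u => by
        apply Subtype.ext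
        change (p : G) * ((p : G)⁻¹ * (u * u₀⁻¹) * p) * (p : G)⁻¹ * u₀ = u
        group }
  refine Fintype.sum_equiv φ _ _ fun u => ?_
  change ρ p (f (g * p * u * w)) = f (g * (p * u * (p : G)⁻¹ * u₀) * w)
  have h1 : g * p * u * w = g * (p * u * (p : G)⁻¹ * u₀) * w * p' := by
    calc g * p * u * w = g * (p * u * (p : G)⁻¹) * (p * w) := by group
      _ = g * (p * u * (p : G)⁻¹) * (u₀ * w * p') := by rw [e]
      _ = _ := by group
  rw [h1, ← e']
  exact hf _ p'

theorem HN.trace_Top (h : HN P U w ρ) [Fintype U] [FiniteDimensional ℂ M] :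
    LinearMap.trace ℂ _ (Top U w * Ep P ρ) = 0 := by
  classical
  rw [trace_fun]
  refine Finset.sum_eq_zero fun g _ => ?_
  have h0 : (LinearMap.proj g).comp ((Top U w * Ep P ρ).comp (LinearMap.single ℂ (fun _ => M) g)) = 0 := by
    refine LinearMap.ext fun m => ?_
    change ∑ u : U, ((Nat.card P : ℂ)⁻¹ • ∑ p : P, ρ p ((Pi.single g m : G → M) (g * u * w * p))) = 0
    refine Finset.sum_eq_zero fun u _ => ?_
    rw [Finset.sum_eq_zero, smul_zero]
    intro p _
    rw [Pi.single_eq_of_ne, map_zero]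
    intro e
    apply h.wP
    have : w = (u : G)⁻¹ * (p : G)⁻¹ := by
      calc w = (u : G)⁻¹ * g⁻¹ * (g * u * w * p) * (p : G)⁻¹ := by group
        _ = (u : G)⁻¹ * g⁻¹ * g * (p : G)⁻¹ := by rw [e]
        _ = _ := by group
    rw [this]
    exact P.mul_mem (P.inv_mem (h.le u.2)) (P.inv_mem p.2)
  rw [h0, map_zero]

theorem HN.char_w (h : HN P U w ρ) (t : P) (ht : w⁻¹ * (t : G) * w ∈ P) :
    ρ.character ⟨w⁻¹ * (t : G) * w, ht⟩ = ρ.character t := by
  obtain ⟨u, hu, p', e, e'⟩ := h.big t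
  have h1 : u * w * p' = 1 * w * (⟨w⁻¹ * (t : G) * w, ht⟩ : P) := by
    rw [← e]
    change (t : G) * w = 1 * w * (w⁻¹ * (t : G) * w)
    group
  obtain ⟨-, h2⟩ := h.inj hu U.one_mem p'.2 (⟨w⁻¹ * (t : G) * w, ht⟩ : P).2 h1
  have h3 : p' = ⟨w⁻¹ * (t : G) * w, ht⟩ := Subtype.ext h2
  rw [← h3]
  unfold Representation.character
  rw [e']

theorem HN.twist_big (h : HN P U w ρ) [FiniteDimensional ℂ M] {u p : G} (hu : u ∈ U) (hp : p ∈ P) :
    twist P ρ.character ρ.character (u * w * p) = twist P ρ.character ρ.character w := by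
  have hcf : IsClassFunction P ρ.character := Core.isCharacter_isClassFunction (Core.isCharacter_of_rep ρ)
  have hext : ∀ y : G, extendByZero P ρ.character (p⁻¹ * y * p) = extendByZero P ρ.character y := by
    intro y
    by_cases hy : y ∈ P
    · rw [ext_apply_mem _ _ _ hy, ext_apply_mem _ _ _ (P.mul_mem (P.mul_mem (P.inv_mem hp) hy) hp)]
      have := hcf ⟨y, hy⟩ (⟨p, hp⟩⁻¹ : P)
      rw [← this]
      congr 1
      apply Subtype.ext
      change p⁻¹ * y * p = p⁻¹ * y * p⁻¹⁻¹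
      rw [inv_inv]
    · rw [ext_apply_not_mem _ _ _ hy, ext_apply_not_mem]
      intro h'
      apply hy
      have := P.mul_mem (P.mul_mem hp h') (P.inv_mem hp)
      have e : p * (p⁻¹ * y * p) * p⁻¹ = y := by group
      rwa [e] at this
  rw [twist_def, twist_def]
  have hu' : u ∈ P := h.le hu
  refine (Fintype.sum_equiv (MulAut.conj (⟨u, hu'⟩ : P)).toEquiv _ _ fun t => ?_).symm
  change ρ.character t * conj (extendByZero P ρ.character (w⁻¹ * t * w)) =
    ρ.character ((⟨u, hu'⟩ : P) * t * (⟨u, hu'⟩ : P)⁻¹) *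
      conj (extendByZero P ρ.character ((u * w * p)⁻¹ * (u * t * u⁻¹) * (u * w * p)))
  rw [hcf]
  congr 2
  have e : (u * w * p)⁻¹ * (u * t * u⁻¹) * (u * w * p) = p⁻¹ * (w⁻¹ * t * w) * p := by group
  rw [e, hext]

open Classical in
theorem HN.card_twist (h : HN P U w ρ) [Fintype U] [FiniteDimensional ℂ M] (hirr : IsIrrCharacter P ρ.character) :
    (Nat.card U : ℂ) * twist P ρ.character ρ.character w = Nat.card P := by
  have h1 : twist P ρ.character ρ.character w =
      ∑ t : {t : P // w⁻¹ * (t : G) * w ∈ P}, ρ.character t * conj (ρ.character t) := by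
    rw [twist_def]
    rw [← Finset.sum_subtype (Finset.univ.filter fun t : P => w⁻¹ * (t : G) * w ∈ P) (fun t => by simp)
      (fun t : P => ρ.character t * conj (ρ.character t)), Finset.sum_filter]
    refine Finset.sum_congr rfl fun t _ => ?_
    split_ifs with ht
    · rw [ext_apply_mem _ _ _ ht, h.char_w t ht]
    · rw [ext_apply_not_mem _ _ _ ht, map_zero, mul_zero]
  have h2 := Core.classInner_irr_self hirr
  rw [Core.classInner_def] at h2
  have h3 : ∑ p : P, ρ.character p * conj (ρ.character p) = Nat.card P := by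
    have h0 : (Nat.card P : ℂ) ≠ 0 := Core.card_ne_zero_complex
    rw [← mul_one (Nat.card P : ℂ), ← h2, ← mul_assoc, mul_inv_cancel₀ h0, one_mul]
  let φ : U × {t : P // w⁻¹ * (t : G) * w ∈ P} → P := fun x => ⟨x.1, h.le x.1.2⟩ * x.2
  have hφ : Function.Bijective φ := by
    constructor
    · rintro ⟨u, t, ht⟩ ⟨u', t', ht'⟩ e
      have e1 : (u : G) * t = u' * t' := congrArg (Subtype.val) e
      have e2 : (u : G) * w * (w⁻¹ * (t : G) * w) = u' * w * (w⁻¹ * (t' : G) * w) := by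
        calc (u : G) * w * (w⁻¹ * (t : G) * w) = (u * t) * w := by group
          _ = (u' * t') * w := by rw [e1]
          _ = _ := by group
      obtain ⟨e3, e4⟩ := h.inj u.2 u'.2 ht ht' e2
      have e5 : u = u' := Subtype.ext e3
      have e6 : (t : G) = t' := by
        rw [e3] at e1
        exact mul_left_cancel e1
      have e7 : t = t' := Subtype.ext e6
      subst e5; subst e7
      rfl
    · intro p
      obtain ⟨u, hu, p', e, -⟩ := h.big p
      have e1 : (u : G)⁻¹ * p = w * p' * w⁻¹ := by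
        calc (u : G)⁻¹ * p = u⁻¹ * (p * w) * w⁻¹ := by group
          _ = u⁻¹ * (u * w * p') * w⁻¹ := by rw [e]
          _ = _ := by group
      refine ⟨⟨⟨u, hu⟩, ⟨⟨u, h.le hu⟩⁻¹ * p, ?_⟩⟩, ?_⟩
      · change w⁻¹ * (u⁻¹ * (p : G)) * w ∈ P
        rw [e1]
        have : w⁻¹ * (w * (p' : G) * w⁻¹) * w = p' := by group
        rw [this]
        exact p'.2
      · apply Subtype.ext
        change u * (u⁻¹ * (p : G)) = p
        group
  rw [h1, ← h3, ← (Equiv.ofBijective φ hφ).sum_comp, Fintype.sum_prod_type]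
  have h4 : ∀ u : U, ∑ t : {t : P // w⁻¹ * (t : G) * w ∈ P}, ρ.character (Equiv.ofBijective φ hφ (u, t)) *
      conj (ρ.character (Equiv.ofBijective φ hφ (u, t))) =
      ∑ t : {t : P // w⁻¹ * (t : G) * w ∈ P}, ρ.character t * conj (ρ.character t) := by
    intro u
    refine Finset.sum_congr rfl fun t _ => ?_
    have : ρ.character (Equiv.ofBijective φ hφ (u, t)) = ρ.character t :=
      character_mul_of_one (h.triv ⟨u, h.le u.2⟩ u.2) _
    rw [this]
  rw [Finset.sum_congr rfl fun u _ => h4 u, Finset.sum_const, Finset.card_univ, ← Nat.card_eq_fintype_card,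
    nsmul_eq_mul]

theorem HN.norm_two (h : HN P U w ρ) [Fintype U] [FiniteDimensional ℂ M] (hirr : IsIrrCharacter P ρ.character) :
    classInner (indFun P ρ.character) (indFun P ρ.character) = 2 := by
  classical
  rw [classInner_indFun_indFun]
  let φ : U × P → G := fun x => x.1 * w * x.2
  have hφ : Function.Injective φ := by
    rintro ⟨u, p⟩ ⟨u', p'⟩ e
    obtain ⟨e1, e2⟩ := h.inj u.2 u'.2 p.2 p'.2 e
    rw [Subtype.ext e1, Subtype.ext e2]
  have hφP : ∀ x, φ x ∉ P := by
    rintro ⟨u, p⟩ hP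
    apply h.wP
    have : w = (u : G)⁻¹ * (u * w * p) * (p : G)⁻¹ := by group
    rw [this]
    exact P.mul_mem (P.mul_mem (P.inv_mem (h.le u.2)) hP) (P.inv_mem p.2)
  have h0 : (Nat.card P : ℂ) ≠ 0 := card_ne_zero'
  have h1 : ∑ x : G, twist P ρ.character ρ.character x =
      ∑ x : G, (if x ∈ P then twist P ρ.character ρ.character x else 0) +
        ∑ x : G, (if x ∈ Set.range φ then twist P ρ.character ρ.character x else 0) := by
    rw [← Finset.sum_add_distrib]
    refine Finset.sum_congr rfl fun x _ => ?_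
    by_cases hx : x ∈ P
    · rw [if_pos hx, if_neg, add_zero]
      rintro ⟨y, rfl⟩
      exact hφP y hx
    · rw [if_neg hx, zero_add]
      split_ifs with hx'
      · rfl
      · refine h.tw x hx ?_
        rintro ⟨u, hu, p, hp, rfl⟩
        exact hx' ⟨(⟨u, hu⟩, ⟨p, hp⟩), rfl⟩
  have h2 : ∑ x : G, (if x ∈ P then twist P ρ.character ρ.character x else 0) = (Nat.card P : ℂ) * Nat.card P := by
    rw [sum_eq_sum_subgroup P _ (fun g hg => if_neg hg)]
    have : ∀ x : P, (if (x : G) ∈ P then twist P ρ.character ρ.character x else 0) = (Nat.card P : ℂ) := by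
      intro x
      rw [if_pos x.2, twist_of_mem P _ _ (Core.isIrr_isClassFunction hirr) _ x.2, Core.classInner_irr_self hirr,
        mul_one]
    rw [Finset.sum_congr rfl fun x _ => this x, Finset.sum_const, Finset.card_univ, ← Nat.card_eq_fintype_card,
      nsmul_eq_mul]
  have h3 : ∑ x : G, (if x ∈ Set.range φ then twist P ρ.character ρ.character x else 0) =
      (Nat.card P : ℂ) * Nat.card P := by
    rw [← Fintype.sum_of_injective φ hφ (fun _ => twist P ρ.character ρ.character w)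
      (fun x => if x ∈ Set.range φ then twist P ρ.character ρ.character x else 0) (fun x hx => if_neg hx)
      (fun x => by
        rw [if_pos ⟨x, rfl⟩]
        exact (h.twist_big x.1.2 x.2.2).symm)]
    rw [Finset.sum_const, Finset.card_univ, Fintype.card_prod, ← Nat.card_eq_fintype_card,
      ← Nat.card_eq_fintype_card, nsmul_eq_mul, Nat.cast_mul]
    rw [← h.card_twist hirr]
    ring
  rw [h1, h2, h3]
  field_simp
  ring

/-! ### the quadratic relation -/

/-- the function supported on `P` -/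
noncomputable def fm (P : Subgroup G) (ρ : Representation ℂ P M) (m : M) : G → M := fun g => by
  classical
  exact if hg : g ∈ P then ρ (⟨g, hg⟩ : P)⁻¹ m else 0

theorem fm_of (m : M) {g : G} (hg : g ∈ P) : fm P ρ m g = ρ (⟨g, hg⟩ : P)⁻¹ m := dif_pos hg

theorem fm_not (m : M) {g : G} (hg : g ∉ P) : fm P ρ m g = 0 := dif_neg hg

theorem inV_fm (m : M) : InV P ρ (fm P ρ m) := by
  intro g p
  by_cases hg : g ∈ P
  · have hgp : g * p ∈ P := P.mul_mem hg p.2
    rw [fm_of m hg, fm_of m hgp, ← Module.End.mul_apply, ← map_mul]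
    congr 2
    apply Subtype.ext
    change (p : G) * (g * p)⁻¹ = g⁻¹
    group
  · have hgp : g * p ∉ P := fun h' => hg (by
      have := P.mul_mem h' (P.inv_mem p.2)
      rwa [mul_inv_cancel_right] at this)
    rw [fm_not m hg, fm_not m hgp, map_zero]

theorem HN.Top_fm (h : HN P U w ρ) [Fintype U] (m : M) : Top U w (fm P ρ m) 1 = 0 := by
  rw [Top_apply]
  refine Finset.sum_eq_zero fun u _ => fm_not m fun h' => h.wP ?_
  have : w = (u : G)⁻¹ * (1 * u * w) := by group
  rw [this]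
  exact P.mul_mem (P.inv_mem (h.le u.2)) h'

theorem HN.TT_fm (h : HN P U w ρ) [Fintype U] (m : M) :
    Top U w (Top U w (fm P ρ m)) 1 = (Nat.card U : ℂ) • m := by
  classical
  obtain ⟨q, hq, hq1⟩ := h.ww
  have h0 : Top U w (Top U w (fm P ρ m)) 1 = ∑ u' : U, ∑ u : U, fm P ρ m (1 * u * w * u' * w) := by
    rw [Top_apply, Finset.sum_comm]
    refine Finset.sum_congr rfl fun u _ => ?_
    rw [Top_apply]
  rw [h0, Finset.sum_eq_single (1 : U)]
  · have h1 : ∀ u : U, fm P ρ m (1 * u * w * (1 : U) * w) = m := by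
      intro u
      have e1 : (1 : G) * u * w * (1 : U) * w = u * q := by
        rw [hq, OneMemClass.coe_one]
        group
      have hmem : (u : G) * q ∈ P := P.mul_mem (h.le u.2) q.2
      rw [e1, fm_of m hmem]
      have e2 : (⟨(u : G) * q, hmem⟩ : P)⁻¹ = q⁻¹ * (⟨u, h.le u.2⟩ : P)⁻¹ := by
        apply Subtype.ext
        change ((u : G) * q)⁻¹ = (q : G)⁻¹ * (u : G)⁻¹
        group
      rw [e2, map_mul, map_inv_of_one hq1, map_inv_of_one (h.triv ⟨u, h.le u.2⟩ u.2), one_mul]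
      rfl
    rw [Finset.sum_congr rfl fun u _ => h1 u, Finset.sum_const, Finset.card_univ, ← Nat.card_eq_fintype_card,
      Nat.cast_smul_eq_nsmul]
  · intro u' _ hu'
    refine Finset.sum_eq_zero fun u _ => fm_not m fun h' => hu' (Subtype.ext (h.opp u' u'.2 ?_))
    have : w * u' * w = (u : G)⁻¹ * (1 * u * w * u' * w) := by group
    rw [this]
    exact P.mul_mem (P.inv_mem (h.le u.2)) h'
  · intro h'
    exact absurd (Finset.mem_univ _) h'

/-- a commutant of dimension `2` -/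
theorem quad_of_norm_two {V : Type v} [AddCommGroup V] [Module ℂ V] [FiniteDimensional ℂ V]
    (τ : Representation ℂ G V) (E T : V →ₗ[ℂ] V) (hEE : E * E = E) (hET : E * T = T)
    (cE : ∀ g, τ g * E = E * τ g) (cT : ∀ g, τ g * T = T * τ g)
    (h2 : classInner (fun g => LinearMap.trace ℂ V (τ g * E)) (fun g => LinearMap.trace ℂ V (τ g * E)) = 2) :
    ∃ a b c : ℂ, (a ≠ 0 ∨ b ≠ 0 ∨ c ≠ 0) ∧ ∀ v, a • E v + b • T (E v) + c • T (T (E v)) = 0 := by
  classical
  let W : Subrepresentation τ :=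
    { toSubmodule := LinearMap.range E
      apply_mem_toSubmodule := by
        rintro g _ ⟨v, rfl⟩
        exact ⟨τ g v, (LinearMap.congr_fun (cE g) v).symm⟩ }
  have hch : (fun g => LinearMap.trace ℂ V (τ g * E)) = W.toRepresentation.character := by
    ext g
    have h4 : ∀ v, (τ g * E) v ∈ LinearMap.range E := fun v => ⟨τ g v, (LinearMap.congr_fun (cE g) v).symm⟩
    rw [← LinearMap.trace_restrict_eq_of_forall_mem (LinearMap.range E) (τ g * E) h4]
    change _ = LinearMap.trace ℂ _ (W.toRepresentation g)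
    congr 1
    refine LinearMap.ext fun v => ?_
    apply Subtype.ext
    obtain ⟨v, v', rfl⟩ := v
    exact congrArg (τ g) (LinearMap.congr_fun hEE v')
  rw [hch, Core.classInner_character] at h2
  have hfr : finrank ℂ (Representation.IntertwiningMap W.toRepresentation W.toRepresentation) = 2 := by exact_mod_cast h2
  have hT : ∀ v, T v ∈ LinearMap.range E := fun v => ⟨T v, LinearMap.congr_fun hET v⟩
  let T₁ : LinearMap.range E →ₗ[ℂ] LinearMap.range E := (T.comp (LinearMap.range E).subtype).codRestrict _ fun v => hT v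
  let t : Representation.IntertwiningMap W.toRepresentation W.toRepresentation :=
    { toLinearMap := T₁
      isIntertwining' := fun g => by
        refine LinearMap.ext fun v => ?_
        apply Subtype.ext
        exact (LinearMap.congr_fun (cT g) (v : V)).symm }
  let s : Fin 3 → Representation.IntertwiningMap W.toRepresentation W.toRepresentation :=
    ![Representation.IntertwiningMap.id _, t, t.comp t]
  have hli : ¬ LinearIndependent ℂ s := by
    intro hli
    have : FiniteDimensional ℂ (Representation.IntertwiningMap W.toRepresentation W.toRepresentation) :=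
      Module.finite_of_finrank_pos (by rw [hfr]; norm_num)
    have := hli.fintype_card_le_finrank
    rw [hfr, Fintype.card_fin] at this
    omega
  obtain ⟨g, hg, i, hi⟩ := Fintype.not_linearIndependent_iff.1 hli
  refine ⟨g 0, g 1, g 2, ?_, fun v => ?_⟩
  · fin_cases i
    · exact Or.inl hi
    · exact Or.inr (Or.inl hi)
    · exact Or.inr (Or.inr hi)
  · have h1 := congrArg (fun f : Representation.IntertwiningMap W.toRepresentation W.toRepresentation =>
      ((f ⟨E v, ⟨v, rfl⟩⟩ : LinearMap.range E) : V)) hg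
    rw [Fin.sum_univ_three] at h1
    exact h1

theorem HN.quad (h : HN P U w ρ) [Fintype U] [FiniteDimensional ℂ M] (hirr : IsIrrCharacter P ρ.character) :
    ∃ A : ℂ, (Top U w * Ep P ρ) * (Top U w * Ep P ρ) = A • (Top U w * Ep P ρ) + (Nat.card U : ℂ) • Ep P ρ := by
  classical
  have hU : (Nat.card U : ℂ) ≠ 0 := card_ne_zero'
  obtain ⟨m, hm⟩ : ∃ m : M, m ≠ 0 := by
    by_contra h'
    push Not at h'
    apply Core.isIrr_apply_one_ne_zero hirr
    have : Subsingleton M := ⟨fun a b => by rw [h' a, h' b]⟩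
    rw [Representation.char_one, finrank_zero_of_subsingleton, Nat.cast_zero]
  set E := Ep P ρ with hE
  set T := Top U w * E with hT
  have hEE : E * E = E := Ep_Ep P ρ
  have hET : E * T = T := LinearMap.ext fun f => Ep_of_inV P ρ (h.inV_Top (inV_Ep P ρ f))
  have hTE : T * E = T := by rw [hT, mul_assoc, hEE]
  have hLE : ∀ g : G, Lt g * E = E * Lt g := Lt_Ep P ρ
  have hLT : ∀ g : G, Lt g * T = T * Lt g := by
    intro g
    rw [hT, ← mul_assoc, Lt_Top, mul_assoc, hLE, mul_assoc]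
  obtain ⟨a, b, c, habc, hrel⟩ := quad_of_norm_two (Lt : Representation ℂ G (G → M)) E T hEE hET hLE hLT (by
    have : (fun g => LinearMap.trace ℂ (G → M) (Lt g * E)) = indFun P ρ.character := by
      ext g
      exact trace_Lt_Ep P ρ g
    rw [this]
    exact h.norm_two hirr)
  -- at `fm`
  have hfE : E (fm P ρ m) = fm P ρ m := Ep_of_inV P ρ (inV_fm m)
  have hTf : T (fm P ρ m) = Top U w (fm P ρ m) := by
    change Top U w (E (fm P ρ m)) = _
    rw [hfE]
  have hTTf : T (T (fm P ρ m)) = Top U w (Top U w (fm P ρ m)) := by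
    rw [hTf]
    change Top U w (E (Top U w (fm P ρ m))) = _
    rw [hE, Ep_of_inV P ρ (h.inV_Top (inV_fm m))]
  have h1 := congrFun (hrel (fm P ρ m)) 1
  rw [hfE, hTTf, hTf] at h1
  have h2 : a • fm P ρ m 1 + b • Top U w (fm P ρ m) 1 + c • Top U w (Top U w (fm P ρ m)) 1 = 0 := h1
  have h3 : fm P ρ m 1 = m := by
    rw [fm_of m P.one_mem]
    have : (⟨1, P.one_mem⟩ : P)⁻¹ = 1 := inv_one
    rw [this, map_one]
    rfl
  rw [h3, h.Top_fm, h.TT_fm, smul_zero, add_zero, smul_smul, ← add_smul] at h2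
  have h4 : a = -(c * Nat.card U) := by
    rcases smul_eq_zero.1 h2 with h5 | h5
    · linear_combination h5
    · exact absurd h5 hm
  have hc : c ≠ 0 := by
    rintro rfl
    rw [zero_mul, neg_zero] at h4
    have hb : b ≠ 0 := by
      rcases habc with h5 | h5 | h5
      · exact absurd h4 h5
      · exact h5
      · exact absurd rfl h5
    have h5 : ∀ f, T (E f) = 0 := by
      intro f
      have := hrel f
      rw [h4, zero_smul, zero_smul, zero_add, add_zero] at this
      exact (smul_eq_zero.1 this).resolve_left hb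
    have h6 := h5 (T (fm P ρ m))
    have h7 : E (T (fm P ρ m)) = T (fm P ρ m) := LinearMap.congr_fun hET _
    rw [h7, hTTf] at h6
    have h8 := congrFun h6 1
    rw [h.TT_fm] at h8
    rcases smul_eq_zero.1 h8 with h9 | h9
    · exact hU h9
    · exact hm h9
  refine ⟨-(c⁻¹ * b), LinearMap.ext fun f => ?_⟩
  have h5 := hrel f
  have h6 : T (E f) = T f := LinearMap.congr_fun hTE f
  rw [h6, h4] at h5
  have h7 : T (T f) = c⁻¹ • (c • T (T f)) := by rw [smul_smul, inv_mul_cancel₀ hc, one_smul]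
  change T (T f) = (-(c⁻¹ * b)) • T f + (Nat.card U : ℂ) • E f
  rw [h7, show c • T (T f) = (c * Nat.card U) • E f - b • T f by
    rw [eq_sub_iff_add_eq, ← sub_eq_zero, ← h5]
    module]
  rw [smul_sub, smul_smul, smul_smul, ← mul_assoc, inv_mul_cancel₀ hc, one_mul]
  module

/-! ### integrality -/

/-- right translation -/
def Rt (M : Type v) [AddCommGroup M] [Module ℂ M] : G →* Module.End ℂ (G → M) where
  toFun x := { toFun := fun f g => f (g * x), map_add' := fun _ _ => rfl, map_smul' := fun _ _ => rfl }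
  map_one' := by
    refine LinearMap.ext fun f => ?_
    ext g
    change f (g * 1) = f g
    rw [mul_one]
  map_mul' x y := by
    refine LinearMap.ext fun f => ?_
    ext g
    change f (g * (x * y)) = f (g * x * y)
    rw [mul_assoc]

theorem Top_eq_sum (U : Subgroup G) [Fintype U] (w : G) :
    (Top U w : (G → M) →ₗ[ℂ] (G → M)) = ∑ u : U, Rt M ((u : G) * w) := by
  refine LinearMap.ext fun f => ?_
  rw [LinearMap.sum_apply]
  ext g
  rw [Top_apply, Finset.sum_apply]
  refine Finset.sum_congr rfl fun u _ => ?_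
  change f (g * u * w) = f (g * ((u : G) * w))
  rw [mul_assoc]

/-- the eigenvalues of `Top` are algebraic integers -/
theorem isIntegral_eig (U : Subgroup G) [Fintype U] (w : G) {lam : ℂ} {f : G → M} (hf : f ≠ 0)
    (h : Top U w f = lam • f) : IsIntegral ℤ lam := by
  classical
  let a : MonoidAlgebra ℤ G := ∑ u : U, MonoidAlgebra.of ℤ G ((u : G) * w)
  let L : MonoidAlgebra ℤ G →ₐ[ℤ] Module.End ℂ (G → M) := MonoidAlgebra.lift ℤ (Module.End ℂ (G → M)) G (Rt M)
  have hL : L a = Top U w := by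
    rw [Top_eq_sum, map_sum]
    refine Finset.sum_congr rfl fun u _ => ?_
    exact MonoidAlgebra.lift_of _ _
  have hfin : Module.Finite ℤ (MonoidAlgebra ℤ G) :=
    Module.Finite.equiv (MonoidAlgebra.coeffLinearEquiv (R := ℤ) (S := ℤ) (M := G)).symm
  have hint : IsIntegral ℤ a := Algebra.IsIntegral.isIntegral a
  obtain ⟨q, hq, hq0⟩ := hint
  refine ⟨q, hq, ?_⟩
  have h1 : Polynomial.aeval (Top U w : Module.End ℂ (G → M)) q = 0 := by
    rw [← hL, Polynomial.aeval_algHom_apply]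
    have : Polynomial.aeval a q = 0 := hq0
    rw [this, map_zero]
  have h2 : ∀ r : Polynomial ℤ, (Polynomial.aeval (Top U w : Module.End ℂ (G → M)) r) f = (Polynomial.aeval lam r) • f := by
    intro r
    induction r using Polynomial.induction_on' with
    | add r s hr hs => rw [map_add, map_add, LinearMap.add_apply, hr, hs, add_smul]
    | monomial n c =>
      have hpow : ∀ n : ℕ, ((Top U w : Module.End ℂ (G → M)) ^ n) f = lam ^ n • f := by
        intro n
        induction n with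
        | zero => simp
        | succ n ih =>
          rw [pow_succ', Module.End.mul_apply, ih, map_smul, h, smul_smul, pow_succ]
      rw [Polynomial.aeval_monomial, Polynomial.aeval_monomial, Module.End.mul_apply, hpow]
      change (algebraMap ℤ (Module.End ℂ (G → M)) c) (lam ^ n • f) = (algebraMap ℤ ℂ c * lam ^ n) • f
      rw [mul_smul]
      have h3 : (algebraMap ℤ (Module.End ℂ (G → M)) c) = (c : Module.End ℂ (G → M)) := by simp
      have h4 : (algebraMap ℤ ℂ c) = (c : ℂ) := by simp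
      rw [h3, h4]
      have h5 : (c : Module.End ℂ (G → M)) = c • (1 : Module.End ℂ (G → M)) := by simp
      rw [h5, LinearMap.smul_apply, Module.End.one_apply, Int.cast_smul_eq_zsmul]
  have h3 := h2 q
  rw [h1, LinearMap.zero_apply] at h3
  exact (smul_eq_zero.1 h3.symm).resolve_right hf

/-- **The two constituents.** -/
theorem HN.two' (h : HN P U w ρ) [Fintype U] [FiniteDimensional ℂ M] (hirr : IsIrrCharacter P ρ.character)
    {A : ℂ} (hTT : (Top U w * Ep P ρ) * (Top U w * Ep P ρ) = A • (Top U w * Ep P ρ) + (Nat.card U : ℂ) • Ep P ρ) :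
    ∃ (lam mu : ℂ) (χ₁ χ₂ : G → ℂ), (IsIrrCharacter G χ₁ ∧ IsIrrCharacter G χ₂ ∧ lam + mu = A ∧
      lam * mu = -(Nat.card U : ℂ) ∧ IsIntegral ℤ lam ∧ IsIntegral ℤ mu ∧ χ₁ + χ₂ = indFun P ρ.character ∧
      lam * χ₁ 1 + mu * χ₂ 1 = 0 ∧
      ∀ z : P, (∀ g : G, g * z = z * g) → ρ z = 1 → χ₁ z = χ₁ 1 ∧ χ₂ z = χ₂ 1) ∧
      ∀ x : G, lam * χ₁ x + mu * χ₂ x = LinearMap.trace ℂ _ (Lt x * (Top U w * Ep P ρ)) := by
  classical
  have hU : (Nat.card U : ℂ) ≠ 0 := card_ne_zero'
  -- the roots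
  obtain ⟨lam, hl⟩ : ∃ lam : ℂ, lam ^ 2 - A * lam - Nat.card U = 0 := by
    obtain ⟨s, hs⟩ := IsAlgClosed.exists_pow_nat_eq (A ^ 2 + 4 * Nat.card U) (show 0 < 2 by norm_num)
    refine ⟨(A + s) / 2, ?_⟩
    linear_combination hs / 4
  obtain ⟨mu, hmu'⟩ : ∃ mu, mu = A - lam := ⟨_, rfl⟩
  have h1 : lam + mu = A := by rw [hmu']; ring
  have h2 : lam * mu = -(Nat.card U : ℂ) := by rw [hmu']; linear_combination -hl
  have hlam : lam ≠ 0 := by
    rintro rfl
    rw [zero_mul] at h2
    exact hU (neg_eq_zero.1 h2.symm)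
  have hmu : mu ≠ 0 := by
    rintro rfl
    rw [mul_zero] at h2
    exact hU (neg_eq_zero.1 h2.symm)
  let E := Ep P ρ
  let T := Top U w * Ep P ρ
  have hEE : E * E = E := Ep_Ep P ρ
  have hET : E * T = T := LinearMap.ext fun f => Ep_of_inV P ρ (h.inV_Top (inV_Ep P ρ f))
  have hTE : T * E = T := by
    change Top U w * Ep P ρ * Ep P ρ = Top U w * Ep P ρ
    rw [mul_assoc, Ep_Ep]
  replace hTT : T * T = A • T + (Nat.card U : ℂ) • E := hTT
  have htE : LinearMap.trace ℂ _ E = (P.index : ℂ) * ρ.character 1 := by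
    have h3 := trace_Lt_Ep P ρ 1
    have hL1 : (Lt (1 : G) : (G → M) →ₗ[ℂ] (G → M)) = 1 := map_one _
    rw [hL1, one_mul, Cfsg.Agent.H53.HC.indFun_one] at h3
    exact h3
  have htT : LinearMap.trace ℂ _ T = 0 := h.trace_Top
  have hD : (P.index : ℂ) * ρ.character 1 ≠ 0 :=
    mul_ne_zero (Nat.cast_ne_zero.2 P.index_ne_zero_of_finite) (Core.isIrr_apply_one_ne_zero hirr)
  have hA' : A = lam + mu := h1.symm
  have hU' : (Nat.card U : ℂ) = -(lam * mu) := by rw [h2, neg_neg]
  have hne : lam ≠ mu := by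
    intro he
    subst he
    have hn : (T - lam • E) * (T - lam • E) = 0 := by
      rw [sub_mul, mul_sub, mul_sub, hTT, smul_mul_assoc, smul_mul_assoc, mul_smul_comm, mul_smul_comm, hET, hTE, hEE,
        hA', hU']
      module
    have hnil : IsNilpotent (T - lam • E) := ⟨2, by rw [pow_two]; exact hn⟩
    have h3 := LinearMap.isNilpotent_trace_of_isNilpotent hnil
    have h4 : LinearMap.trace ℂ _ (T - lam • E) = 0 := h3.eq_zero
    rw [map_sub, map_smul, htT, htE, zero_sub, neg_eq_zero, smul_eq_mul] at h4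
    rcases mul_eq_zero.1 h4 with h5 | h5
    · exact hlam h5
    · exact hD h5
  have hd : lam - mu ≠ 0 := sub_ne_zero.2 hne
  have hLE : ∀ g : G, Lt g * E = E * Lt g := Lt_Ep P ρ
  have hLT : ∀ g : G, Lt g * T = T * Lt g := by
    intro g
    change Lt g * (Top U w * Ep P ρ) = Top U w * Ep P ρ * Lt g
    rw [← mul_assoc, Lt_Top, mul_assoc, Lt_Ep, mul_assoc]
  let π₁ : (G → M) →ₗ[ℂ] (G → M) := (lam - mu)⁻¹ • (T - mu • E)
  let π₂ : (G → M) →ₗ[ℂ] (G → M) := (lam - mu)⁻¹ • (lam • E - T)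
  have i1 : (T - mu • E) * (T - mu • E) = (lam - mu) • (T - mu • E) := by
    rw [sub_mul, mul_sub, mul_sub, hTT, smul_mul_assoc, smul_mul_assoc, mul_smul_comm, mul_smul_comm, hET, hTE, hEE,
      hA', hU']
    module
  have i2 : (lam • E - T) * (lam • E - T) = (lam - mu) • (lam • E - T) := by
    rw [sub_mul, mul_sub, mul_sub, hTT, smul_mul_assoc, smul_mul_assoc, mul_smul_comm, mul_smul_comm, hET, hTE, hEE,
      hA', hU']
    module
  have p1 : π₁ * π₁ = π₁ := by
    change ((lam - mu)⁻¹ • (T - mu • E)) * ((lam - mu)⁻¹ • (T - mu • E)) = (lam - mu)⁻¹ • (T - mu • E)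
    rw [smul_mul_smul_comm, i1, smul_smul]
    congr 1
    field_simp
  have p2 : π₂ * π₂ = π₂ := by
    change ((lam - mu)⁻¹ • (lam • E - T)) * ((lam - mu)⁻¹ • (lam • E - T)) = (lam - mu)⁻¹ • (lam • E - T)
    rw [smul_mul_smul_comm, i2, smul_smul]
    congr 1
    field_simp
  have c1 : ∀ g : G, Lt g * π₁ = π₁ * Lt g := by
    intro g
    change Lt g * ((lam - mu)⁻¹ • (T - mu • E)) = ((lam - mu)⁻¹ • (T - mu • E)) * Lt g
    rw [mul_smul_comm, smul_mul_assoc, mul_sub, sub_mul, mul_smul_comm, smul_mul_assoc, hLE, hLT]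
  have c2 : ∀ g : G, Lt g * π₂ = π₂ * Lt g := by
    intro g
    change Lt g * ((lam - mu)⁻¹ • (lam • E - T)) = ((lam - mu)⁻¹ • (lam • E - T)) * Lt g
    rw [mul_smul_comm, smul_mul_assoc, mul_sub, sub_mul, mul_smul_comm, smul_mul_assoc, hLE, hLT]
  have k1 := isCharacter_idem (Lt : Representation ℂ G (G → M)) π₁ p1 c1
  have k2 := isCharacter_idem (Lt : Representation ℂ G (G → M)) π₂ p2 c2
  set χ₁ : G → ℂ := fun g => LinearMap.trace ℂ _ (Lt g * π₁) with hχ₁
  set χ₂ : G → ℂ := fun g => LinearMap.trace ℂ _ (Lt g * π₂) with hχ₂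
  have hsum : π₁ + π₂ = E := by
    change (lam - mu)⁻¹ • (T - mu • E) + (lam - mu)⁻¹ • (lam • E - T) = E
    rw [← smul_add]
    have : T - mu • E + (lam • E - T) = (lam - mu) • E := by module
    rw [this, smul_smul, inv_mul_cancel₀ hd, one_smul]
  have hs : χ₁ + χ₂ = indFun P ρ.character := by
    ext g
    rw [← trace_Lt_Ep]
    change LinearMap.trace ℂ _ (Lt g * π₁) + LinearMap.trace ℂ _ (Lt g * π₂) = LinearMap.trace ℂ _ (Lt g * E)
    rw [← map_add, ← mul_add, hsum]
  have hL1 : (Lt (1 : G) : (G → M) →ₗ[ℂ] (G → M)) = 1 := map_one _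
  have d1 : (lam - mu) * χ₁ 1 = -mu * ((P.index : ℂ) * ρ.character 1) := by
    change (lam - mu) * LinearMap.trace ℂ _ (Lt (1 : G) * ((lam - mu)⁻¹ • (T - mu • E))) = _
    rw [hL1, one_mul, map_smul, map_sub, map_smul, htE, htT, smul_eq_mul, smul_eq_mul, ← mul_assoc,
      mul_inv_cancel₀ hd, one_mul]
    ring
  have d2 : (lam - mu) * χ₂ 1 = lam * ((P.index : ℂ) * ρ.character 1) := by
    change (lam - mu) * LinearMap.trace ℂ _ (Lt (1 : G) * ((lam - mu)⁻¹ • (lam • E - T))) = _
    rw [hL1, one_mul, map_smul, map_sub, map_smul, htE, htT, smul_eq_mul, smul_eq_mul, ← mul_assoc,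
      mul_inv_cancel₀ hd, one_mul]
    ring
  have m1 : χ₁ 1 ≠ 0 := by
    intro h0
    rw [h0, mul_zero] at d1
    exact mul_ne_zero (neg_ne_zero.2 hmu) hD d1.symm
  have m2 : χ₂ 1 ≠ 0 := by
    intro h0
    rw [h0, mul_zero] at d2
    exact mul_ne_zero hlam hD d2.symm
  have n1 : χ₁ ≠ 0 := fun h0 => m1 (by rw [h0, Pi.zero_apply])
  have n2 : χ₂ ≠ 0 := fun h0 => m2 (by rw [h0, Pi.zero_apply])
  obtain ⟨r1, r2⟩ := isIrr_of_norm_two k1 k2 n1 n2 (by rw [hs]; exact h.norm_two hirr)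
  -- the eigenvalues
  have e1 : T * π₁ = lam • π₁ := by
    change T * ((lam - mu)⁻¹ • (T - mu • E)) = lam • ((lam - mu)⁻¹ • (T - mu • E))
    rw [mul_smul_comm, mul_sub, hTT, mul_smul_comm, hTE, hA', hU']
    module
  have e2 : T * π₂ = mu • π₂ := by
    change T * ((lam - mu)⁻¹ • (lam • E - T)) = mu • ((lam - mu)⁻¹ • (lam • E - T))
    rw [mul_smul_comm, mul_sub, hTT, mul_smul_comm, hTE, hA', hU']
    module
  have key : ∀ (π : (G → M) →ₗ[ℂ] (G → M)) (c : ℂ), T * π = c • π → E * π = π →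
      LinearMap.trace ℂ _ (Lt (1 : G) * π) ≠ 0 → IsIntegral ℤ c := by
    intro π c hc hE' ht
    obtain ⟨f, hf⟩ : ∃ f, π f ≠ 0 := by
      by_contra h'
      push Not at h'
      apply ht
      have : π = 0 := LinearMap.ext h'
      rw [this, mul_zero, map_zero]
    refine isIntegral_eig U w hf ?_
    have h3 := LinearMap.congr_fun hc f
    have h4 := LinearMap.congr_fun hE' f
    have h5 : T (π f) = Top U w (π f) := by
      change Top U w (E (π f)) = _
      exact congrArg _ h4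
    rw [← h5]
    exact h3
  have hEπ₁ : E * π₁ = π₁ := by
    change E * ((lam - mu)⁻¹ • (T - mu • E)) = (lam - mu)⁻¹ • (T - mu • E)
    rw [mul_smul_comm, mul_sub, hET, mul_smul_comm, hEE]
  have hEπ₂ : E * π₂ = π₂ := by
    change E * ((lam - mu)⁻¹ • (lam • E - T)) = (lam - mu)⁻¹ • (lam • E - T)
    rw [mul_smul_comm, mul_sub, hET, mul_smul_comm, hEE]
  refine ⟨lam, mu, χ₁, χ₂, ⟨r1, r2, h1, h2, key π₁ lam e1 hEπ₁ m1, key π₂ mu e2 hEπ₂ m2, hs, ?_, fun z hz hz1 => ?_⟩,
    fun x => ?_⟩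
  · apply mul_left_cancel₀ hd
    linear_combination lam * d1 + mu * d2
  rotate_left
  · change lam * LinearMap.trace ℂ _ (Lt x * ((lam - mu)⁻¹ • (T - mu • E))) +
      mu * LinearMap.trace ℂ _ (Lt x * ((lam - mu)⁻¹ • (lam • E - T))) = LinearMap.trace ℂ _ (Lt x * T)
    rw [mul_smul_comm, mul_smul_comm, mul_sub, mul_sub, mul_smul_comm, mul_smul_comm, map_smul, map_smul, map_sub,
      map_sub, map_smul, map_smul]
    simp only [smul_eq_mul]
    field_simp
    ring
  have hLE1 : Lt (z : G) * E = E := by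
    refine LinearMap.ext fun f => ?_
    have hf := inV_Ep P ρ f
    ext g
    change Ep P ρ f ((z : G)⁻¹ * g) = Ep P ρ f g
    have e1 : (z : G)⁻¹ * g = g * (z⁻¹ : P) := by
      have := hz g
      calc (z : G)⁻¹ * g = (z : G)⁻¹ * (g * z) * (z : G)⁻¹ := by group
        _ = (z : G)⁻¹ * (z * g) * (z : G)⁻¹ := by rw [this]
        _ = g * (z⁻¹ : P) := by
          change _ = g * (z : G)⁻¹
          group
    rw [e1, hf.apply_mul P ρ, inv_inv, hz1]
    rfl
  have hLT1 : Lt (z : G) * T = T := by rw [← hET, ← mul_assoc, hLE1]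
  have hP1 : Lt (z : G) * π₁ = π₁ := by
    change Lt (z : G) * ((lam - mu)⁻¹ • (T - mu • E)) = (lam - mu)⁻¹ • (T - mu • E)
    rw [mul_smul_comm, mul_sub, mul_smul_comm, hLE1, hLT1]
  have hP2 : Lt (z : G) * π₂ = π₂ := by
    change Lt (z : G) * ((lam - mu)⁻¹ • (lam • E - T)) = (lam - mu)⁻¹ • (lam • E - T)
    rw [mul_smul_comm, mul_sub, mul_smul_comm, hLE1, hLT1]
  constructor
  · change LinearMap.trace ℂ _ (Lt (z : G) * π₁) = LinearMap.trace ℂ _ (Lt (1 : G) * π₁)
    rw [hP1, hL1, one_mul]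
  · change LinearMap.trace ℂ _ (Lt (z : G) * π₂) = LinearMap.trace ℂ _ (Lt (1 : G) * π₂)
    rw [hP2, hL1, one_mul]

/-- **The two constituents.** -/
theorem HN.two (h : HN P U w ρ) [Fintype U] [FiniteDimensional ℂ M] (hirr : IsIrrCharacter P ρ.character)
    {A : ℂ} (hTT : (Top U w * Ep P ρ) * (Top U w * Ep P ρ) = A • (Top U w * Ep P ρ) + (Nat.card U : ℂ) • Ep P ρ) :
    ∃ (lam mu : ℂ) (χ₁ χ₂ : G → ℂ), IsIrrCharacter G χ₁ ∧ IsIrrCharacter G χ₂ ∧ lam + mu = A ∧
      lam * mu = -(Nat.card U : ℂ) ∧ IsIntegral ℤ lam ∧ IsIntegral ℤ mu ∧ χ₁ + χ₂ = indFun P ρ.character ∧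
      lam * χ₁ 1 + mu * χ₂ 1 = 0 ∧
      ∀ z : P, (∀ g : G, g * z = z * g) → ρ z = 1 → χ₁ z = χ₁ 1 ∧ χ₂ z = χ₂ 1 := by
  obtain ⟨lam, mu, χ₁, χ₂, h1, -⟩ := h.two' hirr hTT
  exact ⟨lam, mu, χ₁, χ₂, h1⟩

/-- the trace of `T` at an element without conjugates in the big cell -/
theorem HN.trace_Lt_Top (_ : HN P U w ρ) [Fintype U] [FiniteDimensional ℂ M] {x : G}
    (hx : ∀ g : G, ∀ u ∈ U, ∀ p ∈ P, g⁻¹ * x * g ≠ u * w * p) :
    LinearMap.trace ℂ _ (Lt x * (Top U w * Ep P ρ)) = 0 := by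
  classical
  rw [trace_fun]
  refine Finset.sum_eq_zero fun g _ => ?_
  have h0 : (LinearMap.proj g).comp ((Lt x * (Top U w * Ep P ρ)).comp (LinearMap.single ℂ (fun _ => M) g)) = 0 := by
    refine LinearMap.ext fun m => ?_
    change ∑ u : U, ((Nat.card P : ℂ)⁻¹ • ∑ p : P, ρ p ((Pi.single g m : G → M) (x⁻¹ * g * u * w * p))) = 0
    refine Finset.sum_eq_zero fun u _ => ?_
    rw [Finset.sum_eq_zero, smul_zero]
    intro p _
    rw [Pi.single_eq_of_ne, map_zero]
    intro e
    refine hx g u u.2 p p.2 ?_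
    have : g⁻¹ * x * (x⁻¹ * g * u * w * p) = u * w * p := by group
    rw [← this, e]
  rw [h0, map_zero]

end Machine

end Cfsg.Agent.H477.HC
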