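import Cfsg.Agent.H477.HC.N2

/-!
# Norm `2`: the degrees (hub H5, helper477)

`ratio_pow` : `lam ^ 2 = p ^ i`, `p ^ i * d₁ = p ^ N * d₂`; `parity`; `HN.A_rat`; `HN.A_zero`; `HN.two_pow`.
-/

set_option autoImplicit false
set_option linter.unusedSectionVars false

open scoped ComplexConjugate
open Cfsg

namespace Cfsg.Agent.H477.HC

open Cfsg.Agent.OddOrderCharacters.Clifford Cfsg.Agent.Characters Module

universe u v

/-- a rational algebraic integer -/
theorem int_of_rat {z : ℂ} (hz : IsIntegral ℤ z) {q : ℚ} (hq : z = (q : ℂ)) : ∃ n : ℤ, z = n := by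
  rw [hq] at hz
  have h1 : IsIntegral ℤ q := by
    have h2 : (q : ℂ) = algebraMap ℚ ℂ q := by simp
    rw [h2] at hz
    exact (isIntegral_algebraMap_iff (algebraMap ℚ ℂ).injective).1 hz
  obtain ⟨n, hn⟩ := IsIntegrallyClosed.isIntegral_iff.1 h1
  refine ⟨n, ?_⟩
  rw [hq, ← hn]
  simp

theorem ratio_pow {p N d₁ d₂ : ℕ} (hp : p.Prime) {lam mu : ℂ} (h1 : IsIntegral ℤ lam) (h2 : IsIntegral ℤ mu)
    (hm : lam * mu = -((p ^ N : ℕ) : ℂ)) (hd : lam * d₁ + mu * d₂ = 0) (hd₁ : 0 < d₁) (hd₂ : 0 < d₂) :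
    ∃ i, i ≤ 2 * N ∧ lam ^ 2 = ((p ^ i : ℕ) : ℂ) ∧ mu ^ 2 = ((p ^ (2 * N - i) : ℕ) : ℂ) ∧ p ^ i * d₁ = p ^ N * d₂ := by
  have c1 : (d₁ : ℂ) ≠ 0 := by exact_mod_cast hd₁.ne'
  have c2 : (d₂ : ℂ) ≠ 0 := by exact_mod_cast hd₂.ne'
  have e1 : lam ^ 2 * d₁ = (p ^ N : ℕ) * d₂ := by linear_combination lam * hd - d₂ * hm
  have e2 : mu ^ 2 * d₂ = (p ^ N : ℕ) * d₁ := by linear_combination mu * hd - d₁ * hm
  have key : ∀ {z : ℂ} {a b : ℕ}, IsIntegral ℤ z → (a : ℂ) ≠ 0 → z ^ 2 * a = (p ^ N : ℕ) * b → ∃ n : ℕ, z ^ 2 = n := by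
    intro z a b hz ha he
    have h3 : z ^ 2 = (((p ^ N : ℕ) * b / a : ℚ) : ℂ) := by
      push_cast at he ⊢
      field_simp
      exact he
    obtain ⟨n, hn⟩ := int_of_rat (hz.pow 2) h3
    rw [hn] at he
    have h4 : n * a = (p ^ N : ℕ) * b := by exact_mod_cast he
    have h5 : 0 ≤ n := by
      have ha' : (0 : ℤ) < a := by
        have : a ≠ 0 := by
          rintro rfl
          exact ha (by simp)
        positivity
      by_contra h'
      push Not at h'
      have : n * a < 0 := mul_neg_of_neg_of_pos h' ha'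
      rw [h4] at this
      have h6 : (0 : ℤ) ≤ ((p ^ N : ℕ) : ℤ) * b := by positivity
      omega
    obtain ⟨m, rfl⟩ := Int.eq_ofNat_of_zero_le h5
    exact ⟨m, by rw [hn]; simp⟩
  obtain ⟨n₁, hn₁⟩ := key h1 c1 e1
  obtain ⟨n₂, hn₂⟩ := key h2 c2 e2
  have h3 : n₁ * n₂ = p ^ (2 * N) := by
    have h4 : lam ^ 2 * mu ^ 2 = ((p ^ (2 * N) : ℕ) : ℂ) := by
      rw [← mul_pow, hm, neg_sq, mul_comm 2 N, pow_mul]
      push_cast
      ring
    rw [hn₁, hn₂] at h4
    exact_mod_cast h4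
  obtain ⟨i, hi, rfl⟩ := (Nat.dvd_prime_pow hp).1 (Dvd.intro _ h3)
  refine ⟨i, hi, hn₁, ?_, ?_⟩
  · have h5 : n₂ = p ^ (2 * N - i) := by
      have h6 : p ^ i * n₂ = p ^ i * p ^ (2 * N - i) := by rw [h3, ← pow_add]; congr 1; omega
      exact Nat.eq_of_mul_eq_mul_left (Nat.pos_of_ne_zero (pow_ne_zero _ hp.ne_zero)) h6
    rw [hn₂, h5]
  · rw [hn₁] at e1
    exact_mod_cast e1

theorem even_of_sq {p i : ℕ} (hp : p.Prime) {q : ℚ} (h : q ^ 2 = (p : ℚ) ^ i) : Even i := by
  have h1 : IsSquare ((p ^ i : ℕ) : ℚ) := ⟨q, by push_cast; rw [← h]; ring⟩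
  rw [Rat.isSquare_natCast_iff] at h1
  obtain ⟨m, hm⟩ := h1
  have h2 : m ∣ p ^ i := ⟨m, hm⟩
  obtain ⟨k, -, rfl⟩ := (Nat.dvd_prime_pow hp).1 h2
  rw [← pow_add] at hm
  exact ⟨k, Nat.pow_right_injective hp.two_le hm⟩

/-- parity of the exponent -/
theorem parity {p N i : ℕ} (hp : p.Prime) {lam mu : ℂ} (h1 : lam ^ 2 = ((p ^ i : ℕ) : ℂ))
    (h2 : mu ^ 2 = ((p ^ (2 * N - i) : ℕ) : ℂ)) (hi : i ≤ 2 * N) (hne : i ≠ N) {q : ℚ} (hA : lam + mu = (q : ℂ)) : Even i := by
  have hq : (q : ℂ) ≠ 0 := by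
    intro h0
    rw [h0] at hA
    have h3 : mu = -lam := by linear_combination hA
    rw [h3, neg_sq, h1] at h2
    have h4 : p ^ i = p ^ (2 * N - i) := by exact_mod_cast h2
    have h5 := Nat.pow_right_injective hp.two_le h4
    omega
  have h3 : lam = (((q ^ 2 + (p : ℚ) ^ i - (p : ℚ) ^ (2 * N - i)) / (2 * q) : ℚ) : ℂ) := by
    push_cast
    rw [eq_div_iff (mul_ne_zero two_ne_zero hq)]
    push_cast at h1 h2
    have h4 : mu = q - lam := by linear_combination hA
    rw [h4] at h2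
    linear_combination h1 - h2
  have h4 : ((q ^ 2 + (p : ℚ) ^ i - (p : ℚ) ^ (2 * N - i)) / (2 * q)) ^ 2 = (p : ℚ) ^ i := by
    apply Rat.cast_injective (α := ℂ)
    rw [Rat.cast_pow, ← h3, h1]
    push_cast
    rfl
  exact even_of_sq hp h4

section Machine

variable {G : Type u} [Group G] [Fintype G] {P : Subgroup G} [Fintype P] {M : Type v} [AddCommGroup M] [Module ℂ M]
  {ρ : Representation ℂ P M} {U : Subgroup G} {w : G}

/-- traces are rational -/
theorem trace_Rt_rat [FiniteDimensional ℂ M] (hρ : ∀ p, ∃ q : ℚ, ρ.character p = q) (x : G) :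
    ∃ q : ℚ, LinearMap.trace ℂ _ (Rt M x * Ep P ρ) = q := by
  classical
  rw [trace_fun]
  have key : ∀ g : G, ∃ q : ℚ, LinearMap.trace ℂ M ((LinearMap.proj g).comp
      ((Rt M x * Ep P ρ).comp (LinearMap.single ℂ (fun _ => M) g))) = q := by
    intro g
    have h : (LinearMap.proj g).comp ((Rt M x * Ep P ρ).comp (LinearMap.single ℂ (fun _ => M) g)) =
        (Nat.card P : ℂ)⁻¹ • ∑ p : P, if g * x * (p : G) = g then ρ p else 0 := by
      refine LinearMap.ext fun m => ?_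
      change (Nat.card P : ℂ)⁻¹ • ∑ p : P, ρ p ((Pi.single g m : G → M) (g * x * p)) = _
      rw [LinearMap.smul_apply, LinearMap.sum_apply]
      congr 1
      refine Finset.sum_congr rfl fun p _ => ?_
      by_cases h2 : g * x * (p : G) = g
      · rw [if_pos h2, h2, Pi.single_eq_same]
      · rw [if_neg h2, Pi.single_eq_of_ne h2, map_zero]
        rfl
    choose r hr using hρ
    refine ⟨(Nat.card P : ℚ)⁻¹ * ∑ p : P, if g * x * (p : G) = g then r p else 0, ?_⟩
    rw [h, map_smul, map_sum, smul_eq_mul]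
    push_cast
    congr 1
    refine Finset.sum_congr rfl fun p _ => ?_
    by_cases h2 : g * x * (p : G) = g
    · rw [if_pos h2, if_pos h2]
      exact hr p
    · rw [if_neg h2, if_neg h2]
      exact (map_zero (LinearMap.trace ℂ M)).trans Rat.cast_zero.symm
  choose q hq using key
  exact ⟨∑ g, q g, by push_cast; exact Finset.sum_congr rfl fun g _ => hq g⟩

theorem HN.A_rat (h : HN P U w ρ) [Fintype U] [FiniteDimensional ℂ M] (hirr : IsIrrCharacter P ρ.character)
    (hρ : ∀ p, ∃ q : ℚ, ρ.character p = q)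
    {A : ℂ} (hTT : (Top U w * Ep P ρ) * (Top U w * Ep P ρ) = A • (Top U w * Ep P ρ) + (Nat.card U : ℂ) • Ep P ρ) :
    ∃ q : ℚ, A = q := by
  classical
  let E := Ep P ρ
  let T := Top U w * Ep P ρ
  have hEE : E * E = E := Ep_Ep P ρ
  have hET : E * T = T := LinearMap.ext fun f => Ep_of_inV P ρ (h.inV_Top (inV_Ep P ρ f))
  have hTE : T * E = T := by
    change Top U w * Ep P ρ * Ep P ρ = Top U w * Ep P ρ
    rw [mul_assoc, Ep_Ep]
  replace hTT : T * T = A • T + (Nat.card U : ℂ) • E := hTT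
  have hU : (Nat.card U : ℂ) ≠ 0 := card_ne_zero'
  have htE : LinearMap.trace ℂ _ E = (P.index : ℂ) * ρ.character 1 := by
    have h3 := trace_Lt_Ep P ρ 1
    have hL1 : (Lt (1 : G) : (G → M) →ₗ[ℂ] (G → M)) = 1 := map_one _
    rw [hL1, one_mul, Cfsg.Agent.H53.HC.indFun_one] at h3
    exact h3
  have htT : LinearMap.trace ℂ _ T = 0 := h.trace_Top
  have hD : (P.index : ℂ) * ρ.character 1 ≠ 0 :=
    mul_ne_zero (Nat.cast_ne_zero.2 P.index_ne_zero_of_finite) (Core.isIrr_apply_one_ne_zero hirr)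
  have h3 : T * T * T = (A * A + Nat.card U) • T + (A * Nat.card U) • E := by
    rw [hTT, add_mul, smul_mul_assoc, smul_mul_assoc, hTT, hET]
    module
  have h4 : LinearMap.trace ℂ _ (T * T * T) = A * Nat.card U * ((P.index : ℂ) * ρ.character 1) := by
    rw [h3, map_add, map_smul, map_smul, htT, htE, smul_eq_mul, smul_eq_mul]
    ring
  have h5 : T * T * T = ∑ a : U, ∑ b : U, ∑ c : U, Rt M ((a : G) * w * (b * w) * (c * w)) * E := by
    have e1 : T * T * T = Top U w * (Top U w * (Top U w * E)) := by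
      have e2 : T * T = Top U w * T := by
        change Top U w * E * T = _
        rw [mul_assoc, hET]
      rw [mul_assoc, e2]
      change Top U w * E * (Top U w * T) = _
      rw [mul_assoc]
      have e3 : E * (Top U w * T) = Top U w * T := by rw [← e2, ← mul_assoc, hET]
      rw [e3]
    rw [e1, Top_eq_sum, Finset.sum_mul]
    refine Finset.sum_congr rfl fun a _ => ?_
    rw [Finset.sum_mul, Finset.mul_sum]
    refine Finset.sum_congr rfl fun b _ => ?_
    rw [Finset.sum_mul, Finset.mul_sum, Finset.mul_sum]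
    refine Finset.sum_congr rfl fun c _ => ?_
    rw [← mul_assoc, ← mul_assoc, ← map_mul, ← map_mul]
  have h6 : ∃ q : ℚ, LinearMap.trace ℂ _ (T * T * T) = q := by
    rw [h5, map_sum]
    have key : ∀ a b c : U, ∃ q : ℚ, LinearMap.trace ℂ _ (Rt M ((a : G) * w * (b * w) * (c * w)) * E) = q :=
      fun a b c => trace_Rt_rat hρ _
    choose q hq using key
    refine ⟨∑ a, ∑ b, ∑ c, q a b c, ?_⟩
    push_cast
    refine Finset.sum_congr rfl fun a _ => ?_
    rw [map_sum]
    refine Finset.sum_congr rfl fun b _ => ?_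
    rw [map_sum]
    exact Finset.sum_congr rfl fun c _ => hq a b c
  obtain ⟨q, hq⟩ := h6
  obtain ⟨d, hd⟩ := hρ 1
  rw [h4, hd] at hq
  rw [hd] at hD
  refine ⟨q / (Nat.card U * (P.index * d)), ?_⟩
  push_cast
  rw [eq_div_iff (mul_ne_zero hU hD), ← hq]
  ring

/-- `T` conjugate to `- T` -/
theorem HN.A_zero (h : HN P U w ρ) [Fintype U] [FiniteDimensional ℂ M] (hirr : IsIrrCharacter P ρ.character)
    {A : ℂ} (hTT : (Top U w * Ep P ρ) * (Top U w * Ep P ρ) = A • (Top U w * Ep P ρ) + (Nat.card U : ℂ) • Ep P ρ)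
    (α : G ≃* G) (hαP : ∀ p ∈ P, α p ∈ P) (hαU : ∀ u ∈ U, α u ∈ U) (J : M →ₗ[ℂ] M) (hJ : Function.Injective J)
    (hJρ : ∀ p : P, ∀ m, ρ p (J m) = J (ρ ⟨α p, hαP p p.2⟩ m)) {k : P} (hw : α w = w * k) (hk : ρ k = -1) : A = 0 := by
  classical
  have hU : (Nat.card U : ℂ) ≠ 0 := card_ne_zero'
  -- the operator
  let S : (G → M) → (G → M) := fun f g => J (f (α g))
  have hS : ∀ f, InV P ρ f → InV P ρ (S f) := by
    intro f hf g p
    change ρ p (J (f (α (g * p)))) = J (f (α g))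
    rw [hJρ, map_mul]
    congr 1
    exact hf (α g) ⟨α p, hαP p p.2⟩
  let φ : U → U := fun u => ⟨α u, hαU u u.2⟩
  have hφ : Function.Bijective φ := by
    rw [← Finite.injective_iff_bijective]
    intro u u' e
    exact Subtype.ext (α.injective (congrArg Subtype.val e))
  have hk' : ∀ m, ρ k⁻¹ m = -m := by
    intro m
    have h1 : ρ k⁻¹ (ρ k m) = m := by
      rw [← Module.End.mul_apply, ← map_mul, inv_mul_cancel, map_one]
      rfl
    rw [hk] at h1
    have h2 : ρ k⁻¹ (-m) = m := h1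
    rw [map_neg] at h2
    exact neg_eq_iff_eq_neg.1 h2
  have hTS : ∀ f, InV P ρ f → Top U w (S f) = fun g => -(S (Top U w f) g) := by
    intro f hf
    ext g
    have e1 : ∀ u : U, S f (g * u * w) = -(J (f (α g * (φ u : G) * w))) := by
      intro u
      change J (f (α (g * u * w))) = _
      rw [map_mul, map_mul, hw, ← mul_assoc, hf.apply_mul P ρ, hk', map_neg]
    rw [Top_apply, Finset.sum_congr rfl fun u _ => e1 u, Finset.sum_neg_distrib]
    congr 1
    change _ = J (Top U w f (α g))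
    rw [Top_apply, map_sum]
    exact Fintype.sum_bijective φ hφ _ _ fun u => rfl
  -- the relation on `InV`
  have hrel : ∀ f, InV P ρ f → ∀ g, Top U w (Top U w f) g = A • Top U w f g + (Nat.card U : ℂ) • f g := by
    intro f hf g
    have h1 := congrFun (LinearMap.congr_fun hTT f) g
    change Top U w (Ep P ρ (Top U w (Ep P ρ f))) g = A • Top U w (Ep P ρ f) g + (Nat.card U : ℂ) • Ep P ρ f g at h1
    rwa [Ep_of_inV P ρ hf, Ep_of_inV P ρ (h.inV_Top hf)] at h1
  by_contra hA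
  have h0 : ∀ f, InV P ρ f → Top U w f = 0 := by
    intro f hf
    ext g
    obtain ⟨g', rfl⟩ := α.symm.surjective g
    have hTf := h.inV_Top hf
    have h1 := hrel (S f) (hS f hf) (α.symm g')
    have h2 : Top U w (Top U w (S f)) (α.symm g') = S (Top U w (Top U w f)) (α.symm g') := by
      have h3 : Top U w (S f) = -(S (Top U w f)) := hTS f hf
      rw [h3, map_neg]
      have h4 : Top U w (S (Top U w f)) = -(S (Top U w (Top U w f))) := hTS _ hTf
      rw [h4, neg_neg]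
    have h3 : Top U w (S f) = -(S (Top U w f)) := hTS f hf
    rw [h2, h3] at h1
    have h4 : S (Top U w (Top U w f)) (α.symm g') = J (Top U w (Top U w f) (α (α.symm g'))) := rfl
    rw [h4, hrel f hf, map_add, map_smul, map_smul] at h1
    have h5 : A • J (Top U w f (α (α.symm g'))) = A • -(J (Top U w f (α (α.symm g')))) := by
      have : (-(S (Top U w f))) (α.symm g') = -(J (Top U w f (α (α.symm g')))) := rfl
      rw [this] at h1
      exact add_right_cancel h1
    have h6 : J (Top U w f (α (α.symm g'))) = -(J (Top U w f (α (α.symm g')))) :=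
      smul_right_injective M hA h5
    have h7 : (2 : ℂ) • J (Top U w f (α (α.symm g'))) = 0 := by
      rw [two_smul]
      nth_rw 1 [h6]
      exact neg_add_cancel _
    have h8 := (smul_eq_zero.1 h7).resolve_left two_ne_zero
    have h9 : Top U w f (α (α.symm g')) = 0 := hJ (by rw [h8, map_zero])
    -- all values vanish
    have : ∀ x : G, Top U w f x = 0 := by
      intro x
      have := h9
      -- use surjectivity of `α`
      clear this
      have h1' := hrel (S f) (hS f hf) (α.symm x)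
      have h2' : Top U w (Top U w (S f)) (α.symm x) = S (Top U w (Top U w f)) (α.symm x) := by
        have h4 : Top U w (S (Top U w f)) = -(S (Top U w (Top U w f))) := hTS _ hTf
        rw [h3, map_neg, h4, neg_neg]
      rw [h2', h3] at h1'
      have h4' : S (Top U w (Top U w f)) (α.symm x) = J (Top U w (Top U w f) x) := by
        change J (Top U w (Top U w f) (α (α.symm x))) = _
        rw [MulEquiv.apply_symm_apply]
      have h4'' : (-(S (Top U w f))) (α.symm x) = -(J (Top U w f x)) := by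
        change -(J (Top U w f (α (α.symm x)))) = _
        rw [MulEquiv.apply_symm_apply]
      have h4''' : S f (α.symm x) = J (f x) := by
        change J (f (α (α.symm x))) = _
        rw [MulEquiv.apply_symm_apply]
      rw [h4', h4'', h4''', hrel f hf, map_add, map_smul, map_smul] at h1'
      have h5' := smul_right_injective M hA (add_right_cancel h1')
      have h7' : (2 : ℂ) • J (Top U w f x) = 0 := by
        rw [two_smul]
        have h5'' : J (Top U w f x) = -(J (Top U w f x)) := h5'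
        nth_rw 1 [h5'']
        exact neg_add_cancel _
      have h8' := (smul_eq_zero.1 h7').resolve_left two_ne_zero
      exact hJ (by rw [h8', map_zero])
    exact this _
  obtain ⟨m, hm⟩ : ∃ m : M, m ≠ 0 := by
    by_contra h'
    push Not at h'
    apply Core.isIrr_apply_one_ne_zero hirr
    have : Subsingleton M := ⟨fun a b => by rw [h' a, h' b]⟩
    rw [Representation.char_one, finrank_zero_of_subsingleton, Nat.cast_zero]
  have h1 := h.TT_fm m
  rw [h0 _ (inV_fm m), map_zero] at h1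
  rcases smul_eq_zero.1 h1.symm with h2 | h2
  · exact hU h2
  · exact hm h2

/-- **the degrees** -/
theorem HN.two_pow (h : HN P U w ρ) [Fintype U] [FiniteDimensional ℂ M] (hirr : IsIrrCharacter P ρ.character)
    {p N : ℕ} (hp : p.Prime) (hN : Nat.card U = p ^ N) (hρ : ∀ x, ∃ q : ℚ, ρ.character x = q) {D : ℕ}
    (hD : (P.index : ℂ) * ρ.character 1 = D) :
    ∃ (b d : ℕ) (χ₁ χ₂ : G → ℂ), IsIrrCharacter G χ₁ ∧ IsIrrCharacter G χ₂ ∧ χ₁ + χ₂ = indFun P ρ.character ∧
      χ₁ 1 = ((p ^ b * d : ℕ) : ℂ) ∧ χ₂ 1 = (d : ℂ) ∧ (p ^ b + 1) * d = D ∧ b ≤ N ∧ (b ≠ 0 → Even (b + N)) ∧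
      ∀ z : P, (∀ g : G, g * z = z * g) → ρ z = 1 → χ₁ z = χ₁ 1 ∧ χ₂ z = χ₂ 1 := by
  classical
  obtain ⟨A, hA⟩ := h.quad hirr
  obtain ⟨q, hq⟩ := h.A_rat hirr hρ hA
  obtain ⟨lam, mu, χ₁, χ₂, i1, i2, e1, e2, n1, n2, hs, hd, hz⟩ := h.two hirr hA
  obtain ⟨d₁, hd₁, c1⟩ := Core.isIrr_apply_one i1
  obtain ⟨d₂, hd₂, c2⟩ := Core.isIrr_apply_one i2
  rw [hN] at e2
  rw [c1, c2] at hd
  have hsum : d₁ + d₂ = D := by
    have h1 := congrFun hs 1
    rw [Pi.add_apply, Cfsg.Agent.H53.HC.indFun_one, hD, c1, c2] at h1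
    exact_mod_cast h1
  obtain ⟨i, hi, l1, l2, l3⟩ := ratio_pow hp n1 n2 e2 hd hd₁ hd₂
  rw [hq] at e1
  have hp0 : 0 < p := hp.pos
  rcases Nat.lt_or_ge N i with hi' | hi'
  · have h1 : p ^ (i - N) * d₁ = d₂ := by
      have h2 : p ^ N * (p ^ (i - N) * d₁) = p ^ N * d₂ := by
        rw [← mul_assoc, ← pow_add, Nat.add_sub_cancel' hi'.le, l3]
      exact Nat.eq_of_mul_eq_mul_left (Nat.pos_of_ne_zero (pow_ne_zero _ hp.ne_zero)) h2
    refine ⟨i - N, d₁, χ₂, χ₁, i2, i1, by rw [add_comm]; exact hs, by rw [c2, h1], c1, ?_, by omega, fun _ => ?_,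
      fun z hz' hz1 => (hz z hz' hz1).symm⟩
    · rw [add_mul, one_mul, h1, ← hsum]; ring
    · rw [Nat.sub_add_cancel hi'.le]
      exact parity hp l1 l2 hi hi'.ne' e1
  · have h1 : d₁ = p ^ (N - i) * d₂ := by
      have h2 : p ^ i * d₁ = p ^ i * (p ^ (N - i) * d₂) := by
        rw [← mul_assoc, ← pow_add, Nat.add_sub_cancel' hi', l3]
      exact Nat.eq_of_mul_eq_mul_left (Nat.pos_of_ne_zero (pow_ne_zero _ hp.ne_zero)) h2
    refine ⟨N - i, d₂, χ₁, χ₂, i1, i2, hs, by rw [c1, h1], c2, ?_, by omega, fun h0 => ?_, hz⟩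
    · rw [add_mul, one_mul, ← h1, hsum]
    · have h3 : Even i := parity hp l1 l2 hi (by omega) e1
      obtain ⟨k, hk⟩ := h3
      exact ⟨N - k, by omega⟩

end Machine

end Cfsg.Agent.H477.HC
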