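import Cfsg.Agent.H477.HC.N2b
import Cfsg.Agent.H477.HC.Levi
import Cfsg.Agent.H477.HC.HcPt

/-!
# The norm-two datum of a frame (hub H5, helper477)

`crep b c pr ρ₀` : the representation `c ⊗ ρ₀` of the stabiliser of `W₀`, `c` linear.
`Frm.hn` : `HN` for a frame, from the vanishing at the orthogonal disjoint pairs.
-/

set_option autoImplicit false

open scoped ComplexConjugate
open Cfsg

namespace Cfsg.Agent.H477.HC

open Cfsg.Agent.OddOrderCharacters.Clifford Cfsg.Agent.Characters MulAction Module Cfsg.Agent.H53.HC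
open Cfsg.Agent.H749.Two

universe u v w x

namespace CForm

variable {K : Type u} [Field K] {V : Type v} [AddCommGroup V] [Module K V] {F : CForm K V}
  {X : Type w} [AddCommGroup X] [Module K X] {F' : CForm K X} {k : ℕ}

/-- `c ⊗ ρ₀` -/
noncomputable def crep {W₀ : Submodule K V} (b : Basis (Fin k) K W₀) (c : GL (Fin k) K →* ℂˣ)
    (pr : stabW F.iso.subtype W₀ →* F'.iso) {M : Type x} [AddCommGroup M] [Module ℂ M] (ρ₀ : Representation ℂ F'.iso M) :
    Representation ℂ (stabW F.iso.subtype W₀) M where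
  toFun p := ((c (glE b (resHom F.iso.subtype W₀ p)) : ℂˣ) : ℂ) • ρ₀ (pr p)
  map_one' := by rw [map_one, map_one, map_one, Units.val_one, one_smul, map_one, map_one]
  map_mul' p q := by
    rw [map_mul, map_mul, map_mul, Units.val_mul, map_mul, map_mul, smul_mul_smul_comm]

theorem crep_apply {W₀ : Submodule K V} (b : Basis (Fin k) K W₀) (c : GL (Fin k) K →* ℂˣ)
    (pr : stabW F.iso.subtype W₀ →* F'.iso) {M : Type x} [AddCommGroup M] [Module ℂ M] (ρ₀ : Representation ℂ F'.iso M)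
    (p : stabW F.iso.subtype W₀) :
    crep b c pr ρ₀ p = ((c (glE b (resHom F.iso.subtype W₀ p)) : ℂˣ) : ℂ) • ρ₀ (pr p) := rfl

/-- the class function of `c` -/
def cfun (c : GL (Fin k) K →* ℂˣ) : GL (Fin k) K → ℂ := fun A => ((c A : ℂˣ) : ℂ)

theorem cfun_cl (c : GL (Fin k) K →* ℂˣ) : IsClassFunction _ (cfun c) := fun g h => by
  unfold cfun
  rw [map_mul, map_mul, map_inv, mul_comm (c h), mul_assoc, mul_inv_cancel, mul_one]

theorem flagTerm_cfun [FiniteDimensional K V] {W₀ : Submodule K V} (b : Basis (Fin k) K W₀) (c : GL (Fin k) K →* ℂˣ)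
    (p : stabW F.iso.subtype W₀) :
    flagTerm F.iso.subtype (cfun c) p W₀ = ((c (glE b (resHom F.iso.subtype W₀ p)) : ℂˣ) : ℂ) := by
  rw [flagTerm_of F.iso.subtype _ p.2, cl_eq (cfun_cl c) b]
  rfl

theorem crep_char [FiniteDimensional K V] {W₀ : Submodule K V} (b : Basis (Fin k) K W₀) (c : GL (Fin k) K →* ℂˣ)
    (pr : stabW F.iso.subtype W₀ →* F'.iso) {M : Type x} [AddCommGroup M] [Module ℂ M] [FiniteDimensional ℂ M]
    (ρ₀ : Representation ℂ F'.iso M) (p : stabW F.iso.subtype W₀) :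
    (crep b c pr ρ₀).character p = flagTerm F.iso.subtype (cfun c) p W₀ * (ρ₀.character ∘ pr) p := by
  rw [flagTerm_cfun b]
  change LinearMap.trace ℂ M (((c (glE b (resHom F.iso.subtype W₀ p)) : ℂˣ) : ℂ) • ρ₀ (pr p)) = _
  rw [map_smul, smul_eq_mul]
  rfl

/-- the vanishing of the twist -/
theorem tw_of_van [FiniteDimensional K V] [Finite V] {W₀ : Submodule K V} [Fintype (stabW F.iso.subtype W₀)]
    {χ : stabW F.iso.subtype W₀ → ℂ} (hχ : IsCharacter _ χ)
    {c : GL (Fin k) K → ℂ} (hcf : IsClassFunction _ c) {ψ₁ : stabW F.iso.subtype W₀ → ℂ} (hcl : IsClassFunction _ ψ₁)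
    (hχe : ∀ p, χ p = flagTerm F.iso.subtype c p W₀ * ψ₁ p) {x : F.iso}
    (hv : F.Van c (psf F W₀ ψ₁) W₀ (W₀.map (F.iso.subtype x : V →ₗ[K] V))) :
    twist (stabW F.iso.subtype W₀) χ χ x = 0 := by
  classical
  have := finite_iso F
  obtain ⟨L, hL1, hL2, hL3⟩ := hv
  let _ : Fintype L := Fintype.ofFinite _
  have hL' : ∀ l ∈ L, x⁻¹ * l * x ∈ stabW F.iso.subtype W₀ := by
    intro l hl
    have h1 : (W₀.map (F.iso.subtype x : V →ₗ[K] V)).map (F.iso.subtype l : V →ₗ[K] V) =
        W₀.map (F.iso.subtype x : V →ₗ[K] V) := hL2 hl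
    change W₀.map (F.iso.subtype (x⁻¹ * l * x) : V →ₗ[K] V) = W₀
    rw [map_mul_apply, map_mul_apply, h1, ← map_mul_apply, inv_mul_cancel, map_one]
    exact Submodule.map_id _
  refine Cfsg.Agent.H53.HC.twist_eq_zero_of_sub _ hχ hχ x L hL1 hL' ?_
  rw [← hL3]
  refine Finset.sum_congr rfl fun l _ => ?_
  rw [hχe, hχe]
  have e1 : flagTerm F.iso.subtype c (l : F.iso) (W₀.map (F.iso.subtype x : V →ₗ[K] V)) =
      flagTerm F.iso.subtype c (x⁻¹ * l * x) W₀ := by
    rw [← flagTerm_conj F.iso.subtype hcf x (x⁻¹ * l * x) W₀]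
    congr 1
    group
  rw [e1, psf_eq hcl rfl (hL' l l.2), ← psf_self hcl ⟨l, hL1 l.2⟩]

section Frame

variable {e f : Fin k → V} {j : X →ₗ[K] V}

theorem Frm.cmp [FiniteDimensional K V] (h : Frm F F' e f j) (hσ : F.σ = F'.σ) :
    Cmp F F' j (Submodule.span K (Set.range e)) :=
  (cmp_of_frame hσ h.hee h.hff h.hef h.hQe h.hjB h.hjQ h.hje h.hjf h.hdim).2

theorem Frm.mem_Om (h : Frm F F' e f j) : Submodule.span K (Set.range e) ∈ F.Om k :=
  F.frame_mem_Om h.hee h.hef h.hQe

theorem Frm.map_w (_ : Frm F F' e f j) {w : F.iso} (hw : ∀ i, (w : V ≃ₗ[K] V) (e i) = f i) :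
    (Submodule.span K (Set.range e)).map (F.iso.subtype w : V →ₗ[K] V) = Submodule.span K (Set.range f) := by
  rw [Submodule.map_span, ← Set.range_comp]
  congr 2
  funext i
  exact hw i

theorem Frm.opp (h : Frm F F' e f j) :
    Submodule.span K (Set.range e) ⊓ F.perp (Submodule.span K (Set.range f)) = ⊥ := by
  rw [Submodule.eq_bot_iff]
  rintro v ⟨hv, hv'⟩
  obtain ⟨c, rfl⟩ := (Submodule.mem_span_range_iff_exists_fun K).1 hv
  refine Finset.sum_eq_zero fun i _ => ?_
  have h1 := hv' (f i) (Submodule.subset_span ⟨i, rfl⟩)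
  rw [B_sum_left] at h1
  simp only [h.hef] at h1
  rw [sum_delta] at h1
  rw [h1, zero_smul]

theorem Frm.Us_TT [FiniteDimensional K V] (h : Frm F F' e f j) {u : F.iso} (hu : u ∈ Us F e) :
    u ∈ F.TT (Submodule.span K (Set.range e)) :=
  F.mem_TT_of h.tse fun v hv => hu.2 v fun i => hv _ (Submodule.subset_span ⟨i, rfl⟩)

/-- the elements stabilising the two subspaces -/
theorem Frm.pr_conj [FiniteDimensional K V] [FiniteDimensional K X] (h : Frm F F' e f j) (hσ : F.σ = F'.σ)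
    {w : F.iso} (hw3 : ∀ v, (∀ i, F.B v (e i) = 0) → (∀ i, F.B v (f i) = 0) → (w : V ≃ₗ[K] V) v = v)
    {pr : stabW F.iso.subtype (Submodule.span K (Set.range e)) →* F'.iso}
    (hρ1 : ∀ (g : stabW F.iso.subtype (Submodule.span K (Set.range e))) y,
      ((g : F.iso) : V ≃ₗ[K] V) (j y) - j ((pr g : X ≃ₗ[K] X) y) ∈ Submodule.span K (Set.range e))
    {g p' : stabW F.iso.subtype (Submodule.span K (Set.range e))}
    (hg : (g : F.iso) ∈ stabW F.iso.subtype (Submodule.span K (Set.range f)))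
    (he : (g : F.iso) = w * p' * w⁻¹) : pr p' = pr g := by
  obtain ⟨r, hr, hrj, hrW⟩ := (h.cmp hσ).exists_proj
  have hrho : ∀ (q : stabW F.iso.subtype (Submodule.span K (Set.range e))) y,
      (pr q : X ≃ₗ[K] X) y = r (((q : F.iso) : V ≃ₗ[K] V) (j y)) := by
    intro q y
    have := hrW _ (hρ1 q y)
    rw [map_sub, hrj, sub_eq_zero] at this
    exact this.symm
  apply Subtype.ext
  ext y
  rw [hrho, hrho]
  have h1 : ∀ i, F.B (((g : F.iso) : V ≃ₗ[K] V) (j y)) (e i) = 0 := h.perp_par g.2 (h.hje y)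
  have h2 : ∀ i, F.B (((g : F.iso) : V ≃ₗ[K] V) (j y)) (f i) = 0 := by
    intro i
    have h3 : (((g : F.iso)⁻¹ : F.iso) : V ≃ₗ[K] V) (f i) ∈ Submodule.span K (Set.range f) :=
      par_mem (Subgroup.inv_mem _ hg) (Submodule.subset_span ⟨i, rfl⟩)
    rw [← B_inv_right]
    obtain ⟨c, hc⟩ := (Submodule.mem_span_range_iff_exists_fun K).1 h3
    rw [← hc, B_sum_right]
    exact Finset.sum_eq_zero fun l _ => by rw [h.hjf, mul_zero]
  have e1 : (p' : F.iso) = w⁻¹ * g * w := by rw [he]; group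
  have e2 : (w : V ≃ₗ[K] V) (j y) = j y := hw3 _ (h.hje y) (h.hjf y)
  have e3 : ((w⁻¹ : F.iso) : V ≃ₗ[K] V) (((g : F.iso) : V ≃ₗ[K] V) (j y)) = ((g : F.iso) : V ≃ₗ[K] V) (j y) := by
    have := inv_apply' w (((g : F.iso) : V ≃ₗ[K] V) (j y))
    rwa [hw3 _ h1 h2] at this
  rw [e1, mul_apply', mul_apply', e2, e3]

theorem res_Us [FiniteDimensional K V] {u : stabW F.iso.subtype (Submodule.span K (Set.range e))}
    (hu : (u : F.iso) ∈ Us F e) : resHom F.iso.subtype (Submodule.span K (Set.range e)) u = 1 := by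
  ext w
  exact Us_span hu w.2

/-- **the big cell** -/
theorem Frm.crep_big [FiniteDimensional K V] [FiniteDimensional K X] (h : Frm F F' e f j) (hσ : F.σ = F'.σ)
    {w : F.iso} (hw1 : ∀ i, (w : V ≃ₗ[K] V) (e i) = f i)
    (hw3 : ∀ v, (∀ i, F.B v (e i) = 0) → (∀ i, F.B v (f i) = 0) → (w : V ≃ₗ[K] V) v = v)
    (b : Basis (Fin k) K (Submodule.span K (Set.range e)))
    {c : GL (Fin k) K →* ℂˣ} (hc : ∀ A, c (F.iota k A) = c A)
    {pr : stabW F.iso.subtype (Submodule.span K (Set.range e)) →* F'.iso}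
    (hρ1 : ∀ (g : stabW F.iso.subtype (Submodule.span K (Set.range e))) y,
      ((g : F.iso) : V ≃ₗ[K] V) (j y) - j ((pr g : X ≃ₗ[K] X) y) ∈ Submodule.span K (Set.range e))
    (hρ2 : ∀ g : stabW F.iso.subtype (Submodule.span K (Set.range e)),
      (g : F.iso) ∈ F.TT (Submodule.span K (Set.range e)) → pr g = 1)
    {M : Type x} [AddCommGroup M] [Module ℂ M] (ρ₀ : Representation ℂ F'.iso M)
    (p : stabW F.iso.subtype (Submodule.span K (Set.range e))) :
    ∃ u ∈ Us F e, ∃ p' : stabW F.iso.subtype (Submodule.span K (Set.range e)),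
      (p : F.iso) * w = u * w * p' ∧ crep b c pr ρ₀ p' = crep b c pr ρ₀ p := by
  have hmap := h.map_w hw1
  have hx : Submodule.span K (Set.range e) ⊓
      F.perp ((Submodule.span K (Set.range e)).map (F.iso.subtype ((p : F.iso) * w) : V →ₗ[K] V)) = ⊥ := by
    rw [map_mul_apply, hmap, Submodule.eq_bot_iff]
    rintro v ⟨hv, hv'⟩
    have h1 : (((p : F.iso)⁻¹ : F.iso) : V ≃ₗ[K] V) v ∈ Submodule.span K (Set.range e) ⊓
        F.perp (Submodule.span K (Set.range f)) := by
      refine ⟨par_mem (Subgroup.inv_mem _ p.2) hv, fun z hz => ?_⟩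
      rw [B_inv]
      exact hv' _ ⟨z, hz, rfl⟩
    rw [h.opp, Submodule.mem_bot] at h1
    exact (LinearEquiv.map_eq_zero_iff _).1 h1
  obtain ⟨u, hu, p', hp', e3⟩ := h.mem_big hw1 hx
  refine ⟨u, hu, ⟨p', hp'⟩, e3, ?_⟩
  have huP : u ∈ stabW F.iso.subtype (Submodule.span K (Set.range e)) := Us_le hu
  let g : stabW F.iso.subtype (Submodule.span K (Set.range e)) := (⟨u, huP⟩ : stabW _ _)⁻¹ * p
  have eg : (g : F.iso) = w * p' * w⁻¹ := by
    change u⁻¹ * (p : F.iso) = _
    have : (p : F.iso) = u * w * p' * w⁻¹ := by rw [← e3]; group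
    rw [this]
    group
  have hgf : (g : F.iso) ∈ stabW F.iso.subtype (Submodule.span K (Set.range f)) := by
    change (Submodule.span K (Set.range f)).map (F.iso.subtype (g : F.iso) : V →ₗ[K] V) = _
    have h2 : (Submodule.span K (Set.range e)).map (F.iso.subtype p' : V →ₗ[K] V) = Submodule.span K (Set.range e) := hp'
    rw [eg, ← hmap, map_mul_apply, map_mul_apply, ← map_mul_apply F.iso.subtype w⁻¹ w, inv_mul_cancel, map_one]
    have h3 : (Submodule.span K (Set.range e)).map ((1 : V ≃ₗ[K] V) : V →ₗ[K] V) = Submodule.span K (Set.range e) :=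
      Submodule.map_id _
    rw [h3, h2]
  have k1 : pr ⟨p', hp'⟩ = pr p := by
    rw [h.pr_conj hσ hw3 hρ1 (g := g) hgf eg]
    change pr ((⟨u, huP⟩ : stabW _ _)⁻¹ * p) = _
    rw [map_mul, map_inv, hρ2 ⟨u, huP⟩ (h.Us_TT hu), inv_one, one_mul]
  have k2 : c (glE b (resHom F.iso.subtype _ ⟨p', hp'⟩)) = c (glE b (resHom F.iso.subtype _ p)) := by
    have h4 : flagTerm F.iso.subtype (cfun c) p' (Submodule.span K (Set.range e)) =
        flagTerm F.iso.subtype (cfun c) (g : F.iso) (Submodule.span K (Set.range f)) := by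
      rw [eg, ← hmap, flagTerm_conj F.iso.subtype (cfun_cl c)]
    have h5 : flagTerm F.iso.subtype (cfun c) (g : F.iso) (Submodule.span K (Set.range f)) =
        flagTerm F.iso.subtype (cfun c) (g : F.iso) (Submodule.span K (Set.range e)) := by
      have hWf : finrank K (Submodule.span K (Set.range f)) = k := by
        rw [← hmap]
        exact (LinearEquiv.finrank_map_eq (w : V ≃ₗ[K] V) _).trans h.mem_Om.2
      obtain ⟨b₀, b₁, hb⟩ := exists_dual_basis h.mem_Om.2 hWf h.opp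
      rw [flagTerm_of F.iso.subtype _ hgf, flagTerm_of F.iso.subtype _ g.2, cl_eq (cfun_cl c) b₀,
        cl_eq (cfun_cl c) b₁, glE_opp hb g.2 hgf]
      unfold cfun
      rw [hc]
    have h6 := flagTerm_cfun b c (⟨p', hp'⟩ : stabW F.iso.subtype (Submodule.span K (Set.range e)))
    have h7 := flagTerm_cfun b c g
    have h8 : c (glE b (resHom F.iso.subtype _ g)) = c (glE b (resHom F.iso.subtype _ p)) := by
      change c (glE b (resHom F.iso.subtype _ ((⟨u, huP⟩ : stabW _ _)⁻¹ * p))) = _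
      rw [map_mul, map_inv, res_Us (u := ⟨u, huP⟩) hu, inv_one, one_mul]
    rw [← h8]
    apply Units.ext
    rw [← h6, ← h7, ← h5]
    exact h4
  rw [crep_apply, crep_apply, k1, k2]

/-- **`HN` for a frame.** -/
theorem Frm.hn [FiniteDimensional K V] [FiniteDimensional K X] [Finite V] [Finite K] (h : Frm F F' e f j)
    (hσ : F.σ = F'.σ) (hk : 0 < k) (hε : F.ε = 1)
    [Fintype (stabW F.iso.subtype (Submodule.span K (Set.range e)))]
    {w : F.iso} (hw1 : ∀ i, (w : V ≃ₗ[K] V) (e i) = f i) (hw2 : ∀ i, (w : V ≃ₗ[K] V) (f i) = F.ε • e i)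
    (hw3 : ∀ v, (∀ i, F.B v (e i) = 0) → (∀ i, F.B v (f i) = 0) → (w : V ≃ₗ[K] V) v = v)
    (b : Basis (Fin k) K (Submodule.span K (Set.range e)))
    {c : GL (Fin k) K →* ℂˣ} (hc : ∀ A, c (F.iota k A) = c A) (hcusp : IsCusp (cfun c))
    {pr : stabW F.iso.subtype (Submodule.span K (Set.range e)) →* F'.iso}
    (hρ1 : ∀ (g : stabW F.iso.subtype (Submodule.span K (Set.range e))) y,
      ((g : F.iso) : V ≃ₗ[K] V) (j y) - j ((pr g : X ≃ₗ[K] X) y) ∈ Submodule.span K (Set.range e))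
    (hρ2 : ∀ g : stabW F.iso.subtype (Submodule.span K (Set.range e)),
      (g : F.iso) ∈ F.TT (Submodule.span K (Set.range e)) → pr g = 1)
    {M : Type x} [AddCommGroup M] [Module ℂ M] [FiniteDimensional ℂ M] (ρ₀ : Representation ℂ F'.iso M)
    (hperp : ∀ W' ∈ F.Om k, Submodule.span K (Set.range e) ≤ F.perp W' → Submodule.span K (Set.range e) ⊓ W' = ⊥ →
      F.Van (cfun c) (psf F (Submodule.span K (Set.range e)) (ρ₀.character ∘ pr)) (Submodule.span K (Set.range e)) W') :
    HN (stabW F.iso.subtype (Submodule.span K (Set.range e))) (Us F e) w (crep b c pr ρ₀) where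
  le := Us_le
  nor := fun p hp u hu => h.Us_nor hp hu
  triv := fun u hu => by
    rw [crep_apply, hρ2 u (h.Us_TT hu), res_Us hu, map_one, map_one, map_one, Units.val_one, one_smul]
  big := fun p => h.crep_big hσ hw1 hw3 b hc hρ1 hρ2 ρ₀ p
  ww := by
    have e1 : w * w = 1 := by
      apply Subtype.ext
      apply LinearEquiv.ext
      intro v
      change ((w * w : F.iso) : V ≃ₗ[K] V) v = v
      have a1 : ∀ l, F.B (∑ i, F.B v (f i) • e i) (e l) = 0 := fun l => by
        rw [B_sum_left]; exact Finset.sum_eq_zero fun i _ => by rw [h.hee, mul_zero]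
      have a2 : ∀ l, F.B (∑ i, F.B v (f i) • e i) (f l) = F.B v (f l) := fun l => by
        rw [B_sum_left]; simp only [h.hef]; rw [sum_delta (fun i => F.B v (f i)) l]
      have a3 : ∀ l, F.B (∑ i, F.B v (e i) • f i) (f l) = 0 := fun l => by
        rw [B_sum_left]; exact Finset.sum_eq_zero fun i _ => by rw [h.hff, mul_zero]
      have a4 : ∀ l, F.B (∑ i, F.B v (e i) • f i) (e l) = F.B v (e l) := fun l => by
        rw [B_sum_left]; simp only [h.hfe, hε]; rw [sum_delta (fun i => F.B v (e i)) l]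
      have e0 : v = (v - ∑ i, F.B v (f i) • e i - ∑ i, F.B v (e i) • f i) +
        (∑ i, F.B v (f i) • e i + ∑ i, F.B v (e i) • f i) := by abel
      have hz : (w : V ≃ₗ[K] V) (v - ∑ i, F.B v (f i) • e i - ∑ i, F.B v (e i) • f i) =
          v - ∑ i, F.B v (f i) • e i - ∑ i, F.B v (e i) • f i :=
        hw3 _ (fun l => by rw [F.B_sub_left, F.B_sub_left, a1, a4]; ring)
          (fun l => by rw [F.B_sub_left, F.B_sub_left, a2, a3]; ring)
      have he : (w : V ≃ₗ[K] V) (∑ i, F.B v (f i) • e i) = ∑ i, F.B v (f i) • f i := by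
        rw [map_sum]; exact Finset.sum_congr rfl fun i _ => by rw [map_smul, hw1]
      have hf : (w : V ≃ₗ[K] V) (∑ i, F.B v (e i) • f i) = ∑ i, F.B v (e i) • e i := by
        rw [map_sum]; exact Finset.sum_congr rfl fun i _ => by rw [map_smul, hw2, hε, one_smul]
      have he' : (w : V ≃ₗ[K] V) (∑ i, F.B v (e i) • e i) = ∑ i, F.B v (e i) • f i := by
        rw [map_sum]; exact Finset.sum_congr rfl fun i _ => by rw [map_smul, hw1]
      have hf' : (w : V ≃ₗ[K] V) (∑ i, F.B v (f i) • f i) = ∑ i, F.B v (f i) • e i := by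
        rw [map_sum]; exact Finset.sum_congr rfl fun i _ => by rw [map_smul, hw2, hε, one_smul]
      rw [mul_apply']
      conv_lhs => rw [e0, map_add, map_add, hz, map_add, map_add, hz, he, hf, hf', he']
      exact e0.symm
    exact ⟨1, by rw [e1]; rfl, map_one _⟩
  opp := fun u hu hwuw => by
    refine h.Us_eq_one hu fun i => ?_
    have h1 := (mem_par e _).1 hwuw i
    rw [mul_apply', mul_apply', hw1] at h1
    obtain ⟨a, ha⟩ := (Submodule.mem_span_range_iff_exists_fun K).1 h1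
    have hwi : ∀ l, ((w⁻¹ : F.iso) : V ≃ₗ[K] V) (e l) = f l := by
      intro l
      have : e l = (w : V ≃ₗ[K] V) (f l) := by rw [hw2, hε, one_smul]
      rw [this, inv_apply']
    have h2 : (u : V ≃ₗ[K] V) (f i) = ∑ l, a l • f l := by
      have h3 := congrArg (((w⁻¹ : F.iso) : V ≃ₗ[K] V)) ha
      rw [inv_apply', map_sum] at h3
      rw [← h3]
      exact Finset.sum_congr rfl fun l _ => by rw [map_smul, hwi]
    rw [h2]
    exact (Submodule.mem_span_range_iff_exists_fun K).2 ⟨a, rfl⟩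
  wP := fun hw => by
    have h1 := (mem_par e _).1 hw ⟨0, hk⟩
    rw [hw1] at h1
    have h2 := h.tse.2 _ (Submodule.subset_span ⟨⟨0, hk⟩, rfl⟩) _ h1
    rw [h.hef, if_pos rfl] at h2
    exact one_ne_zero h2
  tw := fun x hx hx' => by
    have hcl : IsClassFunction (stabW F.iso.subtype (Submodule.span K (Set.range e))) (ρ₀.character ∘ pr) :=
      Core.isCharacter_isClassFunction (Core.isCharacter_comp pr (Core.isCharacter_of_rep ρ₀))
    refine tw_of_van (Core.isCharacter_of_rep _) (cfun_cl c) hcl (crep_char b c pr ρ₀) ?_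
    have hW₀ := h.mem_Om
    have hW' : (Submodule.span K (Set.range e)).map (F.iso.subtype x : V →ₗ[K] V) ∈ F.Om k := F.Om_map x _ hW₀
    have hne : (Submodule.span K (Set.range e)).map (F.iso.subtype x : V →ₗ[K] V) ≠ Submodule.span K (Set.range e) := hx
    have hψT : ∀ W ∈ F.Om k, ∀ g ∈ F.TT W,
        psf F (Submodule.span K (Set.range e)) (ρ₀.character ∘ pr) g W =
          psf F (Submodule.span K (Set.range e)) (ρ₀.character ∘ pr) 1 W := by
      intro W hWk g hg
      obtain ⟨x, hx⟩ := F.trans_Om hW₀ hWk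
      have h1 := TT_conj hx hg
      have h2 : x⁻¹ * 1 * x ∈ stabW F.iso.subtype (Submodule.span K (Set.range e)) := by
        rw [mul_one, inv_mul_cancel]; exact Subgroup.one_mem _
      rw [psf_eq hcl hx h1.1, psf_eq hcl hx h2, Function.comp_apply, hρ2 _ h1, Function.comp_apply]
      congr 1
      have : (⟨x⁻¹ * 1 * x, h2⟩ : stabW F.iso.subtype (Submodule.span K (Set.range e))) = 1 := by
        apply Subtype.ext
        change x⁻¹ * 1 * x = 1
        group
      rw [this, map_one]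
    by_cases h0 : Submodule.span K (Set.range e) ⊓
      F.perp ((Submodule.span K (Set.range e)).map (F.iso.subtype x : V →ₗ[K] V)) = ⊥
    · exact absurd (h.mem_big hw1 h0) hx'
    by_cases h1 : Submodule.span K (Set.range e) ⊓
      F.perp ((Submodule.span K (Set.range e)).map (F.iso.subtype x : V →ₗ[K] V)) = Submodule.span K (Set.range e)
    · have h1' := inf_eq_left.1 h1
      by_cases h2 : Submodule.span K (Set.range e) ⊓
        (Submodule.span K (Set.range e)).map (F.iso.subtype x : V →ₗ[K] V) = ⊥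
      · exact hperp _ hW' h1' h2
      · exact van_case2 (cfun_cl c) hcusp hψT hW₀ hW' h1' h2 hne
    · exact van_case1 (cfun_cl c) hcusp hψT hW₀ hW' h0 h1

end Frame

end CForm

end Cfsg.Agent.H477.HC
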