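import Cfsg.Agent.H477.HC.N3
import Cfsg.Agent.H477.HC.SpSix

/-!
# The norm-two induction: the sign of `GL₂(2)`, orders (hub H5, helper477)

`sgnGL` : the sign of `GL₂(2)`; `Frm.card_par` : the order of the parabolic subgroup; `Frm.exists_two` : the two
constituents.
-/

set_option autoImplicit false

open scoped ComplexConjugate
open Cfsg

namespace Cfsg.Agent.H477.HC

open Cfsg.Agent.OddOrderCharacters.Clifford Cfsg.Agent.Characters MulAction Module Cfsg.Agent.H53.HC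
open Cfsg.Agent.H749.Two

universe u v w x

/-! ### the sign of `GL₂(2)` -/

/-- the sign of a matrix -/
def sgM (A : Matrix (Fin 2) (Fin 2) (ZMod 2)) : ℤ := sg (A 0 0) (A 0 1) (A 1 0) (A 1 1)

theorem sgM_mul (A B : Matrix (Fin 2) (Fin 2) (ZMod 2)) : sgM (A * B) = sgM A * sgM B := by
  unfold sgM
  rw [← sg_mul]
  simp [Matrix.mul_apply, Fin.sum_univ_two]

theorem sgM_one : sgM 1 = 1 := by
  unfold sgM
  simp
  decide

/-- the sign of `GL₂(2)` -/
noncomputable def sgnGL : GL (Fin 2) (ZMod 2) →* ℂˣ :=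
  MonoidHom.toHomUnits
    { toFun := fun A => ((sgM (A : Matrix (Fin 2) (Fin 2) (ZMod 2)) : ℤ) : ℂ)
      map_one' := by rw [Units.val_one, sgM_one, Int.cast_one]
      map_mul' := fun A B => by rw [Units.val_mul, sgM_mul, Int.cast_mul] }

theorem sgnGL_val (A : GL (Fin 2) (ZMod 2)) :
    ((sgnGL A : ℂˣ) : ℂ) = ((sgM (A : Matrix (Fin 2) (Fin 2) (ZMod 2)) : ℤ) : ℂ) := rfl

theorem sgM_inv (A : GL (Fin 2) (ZMod 2)) :
    sgM (((A⁻¹ : GL (Fin 2) (ZMod 2)) : Matrix (Fin 2) (Fin 2) (ZMod 2)).transpose) =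
      sgM (A : Matrix (Fin 2) (Fin 2) (ZMod 2)) := by
  have h : (A : Matrix (Fin 2) (Fin 2) (ZMod 2)) *
      ((A⁻¹ : GL (Fin 2) (ZMod 2)) : Matrix (Fin 2) (Fin 2) (ZMod 2)) = 1 := by
    rw [← Units.val_mul, mul_inv_cancel, Units.val_one]
  have key : ∀ i l : Fin 2, (A : Matrix (Fin 2) (Fin 2) (ZMod 2)) i 0 *
      ((A⁻¹ : GL (Fin 2) (ZMod 2)) : Matrix (Fin 2) (Fin 2) (ZMod 2)) 0 l +
      (A : Matrix (Fin 2) (Fin 2) (ZMod 2)) i 1 *
      ((A⁻¹ : GL (Fin 2) (ZMod 2)) : Matrix (Fin 2) (Fin 2) (ZMod 2)) 1 l = if i = l then 1 else 0 := by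
    intro i l
    have h1 := congrFun (congrFun h i) l
    rw [Matrix.mul_apply, Fin.sum_univ_two, Matrix.one_apply] at h1
    exact h1
  exact (sg_inv _ _ _ _ _ _ _ _ (key 0 0) (key 0 1) (key 1 0) (key 1 1)).2

theorem sgnGL_iota {V : Type v} [AddCommGroup V] [Module (ZMod 2) V] (F : CForm (ZMod 2) V) (A : GL (Fin 2) (ZMod 2)) :
    sgnGL (F.iota 2 A) = sgnGL A := by
  apply Units.ext
  rw [sgnGL_val, sgnGL_val, ← sgM_inv A]
  congr 2
  have hσ : F.σ = RingHom.id _ := Subsingleton.elim _ _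
  ext i l
  change F.σ _ = _
  rw [hσ]
  rfl

theorem sgM_invol {A : Matrix (Fin 2) (Fin 2) (ZMod 2)} (h : A * A = 1) (h1 : A ≠ 1) : sgM A = -1 := by
  have key : ∀ i l, A i 0 * A 0 l + A i 1 * A 1 l = if i = l then 1 else 0 := by
    intro i l
    have h1 := congrFun (congrFun h i) l
    rw [Matrix.mul_apply, Fin.sum_univ_two, Matrix.one_apply] at h1
    exact h1
  refine sg_invol _ _ _ _ (key 0 0) (key 0 1) (key 1 0) (key 1 1) fun h2 => h1 ?_
  ext i l
  fin_cases i <;> fin_cases l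
  · exact h2.1
  · exact h2.2.1
  · exact h2.2.2.1
  · exact h2.2.2.2

theorem sgnGL_cusp : IsCusp (CForm.cfun sgnGL) := by
  intro D hD0 hD1 _
  classical
  obtain ⟨d, hd, hd0⟩ := (Submodule.ne_bot_iff _).1 hD0
  obtain ⟨φ, hφ0, hφ⟩ := Submodule.exists_dual_map_eq_bot_of_lt_top (lt_top_iff_ne_top.2 hD1) inferInstance
  have hφD : ∀ x ∈ D, φ x = 0 := by
    intro x hx
    have : φ x ∈ D.map φ := ⟨x, hx, rfl⟩
    rw [hφ] at this
    exact (Submodule.mem_bot _).1 this
  let b := Pi.basisFun (ZMod 2) (Fin 2)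
  let a : (Fin 2 → ZMod 2) →ₗ[ZMod 2] (Fin 2 → ZMod 2) := φ.smulRight d
  have ha1 : ∀ w, a w ∈ D := fun w => D.smul_mem _ hd
  have ha2 : ∀ w ∈ D, a w = 0 := fun w hw => by
    change φ w • d = 0
    rw [hφD w hw, zero_smul]
  let u₀ : radU D := ⟨oneAdd D a ha1 ha2, fun w => by
      rw [oneAdd_apply, add_sub_cancel_left]
      exact ha1 w, fun w hw => by
      rw [oneAdd_apply, ha2 w hw, add_zero]⟩
  have hcl : ∀ u : (Fin 2 → ZMod 2) ≃ₗ[ZMod 2] (Fin 2 → ZMod 2), cl (CForm.cfun sgnGL) u =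
      ((sgnGL (glE b u) : ℂˣ) : ℂ) := fun u => cl_eq (CForm.cfun_cl sgnGL) b u
  have hu₀ : ((sgnGL (glE b (u₀ : (Fin 2 → ZMod 2) ≃ₗ[ZMod 2] (Fin 2 → ZMod 2))) : ℂˣ) : ℂ) = -1 := by
    rw [sgnGL_val, sgM_invol]
    · simp
    · have h2 : (u₀ : (Fin 2 → ZMod 2) ≃ₗ[ZMod 2] (Fin 2 → ZMod 2)) * u₀ = 1 := by
        apply LinearEquiv.ext
        intro w
        change (u₀ : (Fin 2 → ZMod 2) ≃ₗ[ZMod 2] _) ((u₀ : (Fin 2 → ZMod 2) ≃ₗ[ZMod 2] _) w) = w
        have e1 : ∀ w, (u₀ : (Fin 2 → ZMod 2) ≃ₗ[ZMod 2] _) w = w + φ w • d := fun w => rfl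
        rw [e1, e1, map_add, map_smul, hφD d hd, smul_zero, add_zero, add_assoc, ← add_smul]
        have : φ w + φ w = 0 := by
          have : ∀ t : ZMod 2, t + t = 0 := by decide
          exact this _
        rw [this, zero_smul, add_zero]
      rw [← Units.val_mul, ← map_mul, h2, map_one, Units.val_one]
    · intro h3
      have h4 : glE b (u₀ : (Fin 2 → ZMod 2) ≃ₗ[ZMod 2] (Fin 2 → ZMod 2)) = 1 := Units.ext h3
      have h5 : (u₀ : (Fin 2 → ZMod 2) ≃ₗ[ZMod 2] (Fin 2 → ZMod 2)) = 1 := (glE b).injective (by rw [h4, map_one])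
      apply hφ0
      ext w
      have h6 : (u₀ : (Fin 2 → ZMod 2) ≃ₗ[ZMod 2] _) (Pi.single w 1) = Pi.single w 1 + φ (Pi.single w 1) • d := rfl
      rw [h5] at h6
      have h7 : φ (Pi.single w 1) • d = 0 := (add_eq_left.1 h6.symm)
      rcases smul_eq_zero.1 h7 with h8 | h8
      · simpa using h8
      · exact absurd h8 hd0
  have h1 : ∑ u : radU D, cl (CForm.cfun sgnGL) (u : (Fin 2 → ZMod 2) ≃ₗ[ZMod 2] _) =
      -∑ u : radU D, cl (CForm.cfun sgnGL) (u : (Fin 2 → ZMod 2) ≃ₗ[ZMod 2] _) := by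
    rw [← Finset.sum_neg_distrib, ← Equiv.sum_comp (Equiv.mulLeft u₀)]
    refine Finset.sum_congr rfl fun u _ => ?_
    rw [hcl, hcl, Equiv.coe_mulLeft, Subgroup.coe_mul, map_mul, map_mul, Units.val_mul, hu₀, neg_one_mul]
  have h2 : (2 : ℂ) * ∑ u : radU D, cl (CForm.cfun sgnGL) (u : (Fin 2 → ZMod 2) ≃ₗ[ZMod 2] _) = 0 := by
    rw [two_mul]
    nth_rw 1 [h1]
    exact neg_add_cancel _
  exact (mul_eq_zero.1 h2).resolve_left two_ne_zero

/-! ### orders -/

namespace CForm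

section

variable {K : Type u} [Field K] {V : Type v} [AddCommGroup V] [Module K V] {F : CForm K V}
  {X : Type w} [AddCommGroup X] [Module K X] {F' : CForm K X} {k : ℕ} {e f : Fin k → V} {j : X →ₗ[K] V}

theorem index_stab [FiniteDimensional K V] [Finite V] {W₀ : Submodule K V} (hW₀ : W₀ ∈ F.Om k) :
    (stabW F.iso.subtype W₀).index = Nat.card (F.Om k) := by
  have := finite_iso F
  have h1 := F.card_iso_eq hW₀
  have h2 := (stabW F.iso.subtype W₀).index_mul_card
  rw [h1] at h2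
  exact Nat.eq_of_mul_eq_mul_right Nat.card_pos h2

/-- **the order of the parabolic subgroup** -/
theorem Frm.card_par [FiniteDimensional K V] [FiniteDimensional K X] [Finite V] (h : Frm F F' e f j)
    (hσ : F.σ = F'.σ) : Nat.card (stabW F.iso.subtype (Submodule.span K (Set.range e))) =
      Nat.card (Us F e) * (Nat.card (GL (Fin k) K) * Nat.card F'.iso) := by
  classical
  have := finite_iso F
  have hcmp := h.cmp hσ
  obtain ⟨ρ, hρ1, hρ2, hρ3⟩ := hcmp.exists_rho
  let f₃ : stabW F.iso.subtype (Submodule.span K (Set.range e)) →*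
      ((Submodule.span K (Set.range e)) ≃ₗ[K] (Submodule.span K (Set.range e))) × F'.iso :=
    (resHom F.iso.subtype (Submodule.span K (Set.range e))).prod ρ
  have hf₃ : Function.Surjective f₃ := by
    rintro ⟨a, b⟩
    obtain ⟨g, hg, hg'⟩ := hρ3 a b
    refine ⟨g, Prod.ext ?_ hg⟩
    ext w
    exact hg' w
  have hker : ∀ g : stabW F.iso.subtype (Submodule.span K (Set.range e)), g ∈ f₃.ker ↔ (g : F.iso) ∈ Us F e := by
    intro g
    constructor
    · intro hg
      have h1 : resHom F.iso.subtype (Submodule.span K (Set.range e)) g = 1 :=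
        congrArg Prod.fst (MonoidHom.mem_ker.1 hg)
      have h2 : ρ g = 1 := congrArg Prod.snd (MonoidHom.mem_ker.1 hg)
      have h1' : ∀ w ∈ Submodule.span K (Set.range e), ((g : F.iso) : V ≃ₗ[K] V) w = w := by
        intro w hw
        have := congrArg (fun a : (Submodule.span K (Set.range e)) ≃ₗ[K] (Submodule.span K (Set.range e)) =>
          ((a ⟨w, hw⟩ : Submodule.span K (Set.range e)) : V)) h1
        exact this
      refine ⟨fun i => h1' _ (Submodule.subset_span ⟨i, rfl⟩), fun v hv => ?_⟩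
      have hv' : v ∈ F.perp (Submodule.span K (Set.range e)) := by
        intro w hw
        obtain ⟨c, rfl⟩ := (Submodule.mem_span_range_iff_exists_fun K).1 hw
        rw [B_sum_right]
        exact Finset.sum_eq_zero fun i _ => by rw [hv, mul_zero]
      obtain ⟨w, hw, x, rfl⟩ := hcmp.j2 v hv'
      have h4 := hρ1 g x
      rw [h2] at h4
      rw [map_add, h1' w hw, add_sub_add_left_eq_sub]
      exact h4
    · intro hg
      refine MonoidHom.mem_ker.2 (Prod.ext ?_ ?_)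
      · exact res_Us hg
      · exact hρ2 g (h.Us_TT hg)
  have hc : Nat.card f₃.ker = Nat.card (Us F e) := by
    exact Nat.card_congr
      { toFun := fun g => ⟨((g : stabW F.iso.subtype (Submodule.span K (Set.range e))) : F.iso), (hker g).1 g.2⟩
        invFun := fun u => ⟨⟨u, Us_le u.2⟩, (hker _).2 u.2⟩
        left_inv := fun g => rfl
        right_inv := fun u => rfl }
  have e3 : Nat.card ((Submodule.span K (Set.range e)) ≃ₗ[K] (Submodule.span K (Set.range e))) =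
      Nat.card (GL (Fin k) K) :=
    Nat.card_congr (glE (finBasisOfFinrankEq K _ h.mem_Om.2)).toEquiv
  rw [Subgroup.card_eq_card_quotient_mul_card_subgroup f₃.ker, mul_comm, hc,
    Nat.card_congr (QuotientGroup.quotientKerEquivOfSurjective f₃ hf₃).toEquiv, Nat.card_prod, e3]

omit [Field K] in
theorem isIrr_linear {H : Type*} [Group H] (c : H →* ℂˣ) : IsIrrCharacter H (fun A => ((c A : ℂˣ) : ℂ)) := by
  let ρ : Representation ℂ H ℂ :=
    { toFun := fun A => ((c A : ℂˣ) : ℂ) • (1 : ℂ →ₗ[ℂ] ℂ)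
      map_one' := by rw [map_one, Units.val_one, one_smul]
      map_mul' := fun A B => by rw [map_mul, Units.val_mul, smul_mul_smul_comm, one_mul] }
  have h1 : ρ.character = fun A => ((c A : ℂˣ) : ℂ) := by
    funext A
    change LinearMap.trace ℂ ℂ (((c A : ℂˣ) : ℂ) • (1 : ℂ →ₗ[ℂ] ℂ)) = _
    rw [map_smul]
    simp
  rw [← h1]
  exact Core.isIrrCharacter_of_rep ρ (Core.isIrr_of_finrank_one (by simp) ρ)

theorem isIrr_cfun (c : GL (Fin k) K →* ℂˣ) : IsIrrCharacter _ (cfun c) := isIrr_linear c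

/-- **the two constituents** -/
theorem Frm.exists_two [FiniteDimensional K V] [FiniteDimensional K X] [Finite V] [Finite K] (h : Frm F F' e f j)
    (hσ : F.σ = F'.σ) (hk : 0 < k) (hε : F.ε = 1) {c : GL (Fin k) K →* ℂˣ} (hc : ∀ A, c (F.iota k A) = c A)
    (hcusp : IsCusp (cfun c)) (hcq : ∀ A, ∃ q : ℚ, ((c A : ℂˣ) : ℂ) = q)
    {ψ₀ : F'.iso → ℂ} (hψ : IsIrrCharacter _ ψ₀) {n₀ : ℕ} (hψ1 : ψ₀ 1 = n₀) (hψq : ∀ g, ∃ q : ℚ, ψ₀ g = q)
    {p N : ℕ} (hp : p.Prime) (hN : Nat.card (Us F e) = p ^ N)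
    (hperp : ∀ pr : stabW F.iso.subtype (Submodule.span K (Set.range e)) →* F'.iso,
      (∀ (g : stabW F.iso.subtype (Submodule.span K (Set.range e))) y,
        ((g : F.iso) : V ≃ₗ[K] V) (j y) - j ((pr g : X ≃ₗ[K] X) y) ∈ Submodule.span K (Set.range e)) →
      (∀ g : stabW F.iso.subtype (Submodule.span K (Set.range e)),
        (g : F.iso) ∈ F.TT (Submodule.span K (Set.range e)) → pr g = 1) →
      ∀ W' ∈ F.Om k, Submodule.span K (Set.range e) ≤ F.perp W' → Submodule.span K (Set.range e) ⊓ W' = ⊥ →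
      F.Van (cfun c) (psf F (Submodule.span K (Set.range e)) (ψ₀ ∘ pr)) (Submodule.span K (Set.range e)) W') :
    ∃ (b d : ℕ) (χ₁ χ₂ : F.iso → ℂ), IsIrrCharacter F.iso χ₁ ∧ IsIrrCharacter F.iso χ₂ ∧
      χ₁ 1 = ((p ^ b * d : ℕ) : ℂ) ∧ χ₂ 1 = (d : ℂ) ∧ (p ^ b + 1) * d = Nat.card (F.Om k) * n₀ ∧ b ≤ N ∧
      (b ≠ 0 → Even (b + N)) := by
  classical
  have := finite_iso F
  let _ : Fintype F.iso := Fintype.ofFinite _
  let _ : Fintype (stabW F.iso.subtype (Submodule.span K (Set.range e))) := Fintype.ofFinite _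
  let _ : Fintype (Us F e) := Fintype.ofFinite _
  obtain ⟨w, hw1, hw2, hw3⟩ := h.exists_w
  obtain ⟨pr, hρ1, hρ2, hρ3⟩ := (h.cmp hσ).exists_rho
  obtain ⟨m, ρ₀, hρ₀, rfl⟩ := id hψ
  let b : Basis (Fin k) K (Submodule.span K (Set.range e)) := finBasisOfFinrankEq K _ h.mem_Om.2
  have hn := h.hn hσ hk hε hw1 hw2 hw3 b hc hcusp hρ1 hρ2 ρ₀ (hperp pr hρ1 hρ2)
  have hchar := crep_char b c pr ρ₀
  have hsurj : Function.Surjective pr := fun b => by
    obtain ⟨g, hg, -⟩ := hρ3 1 b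
    exact ⟨g, hg⟩
  have hcl : IsClassFunction (stabW F.iso.subtype (Submodule.span K (Set.range e))) (ρ₀.character ∘ pr) :=
    Core.isCharacter_isClassFunction (Core.isCharacter_comp pr (Core.isCharacter_of_rep ρ₀))
  obtain ⟨W₁, hW₁, hopp⟩ := F.exists_opp h.mem_Om
  have hirr : IsIrrCharacter _ (crep b c pr ρ₀).character := by
    have h1 : (crep b c pr ρ₀).character = fun g : stabW F.iso.subtype (Submodule.span K (Set.range e)) =>
        flagTerm F.iso.subtype (cfun c) g (Submodule.span K (Set.range e)) *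
          psf F (Submodule.span K (Set.range e)) (ρ₀.character ∘ pr) g (Submodule.span K (Set.range e)) := by
      funext g
      rw [hchar, psf_self hcl]
    rw [h1]
    refine F.isIrr_stab ?_ (fun W hWk g hg => ?_) h.mem_Om hW₁ hopp ?_
    · exact isIrr_cfun c
    · obtain ⟨x, hx⟩ := F.trans_Om h.mem_Om hWk
      have h1 := TT_conj hx hg
      have h2 : x⁻¹ * 1 * x ∈ stabW F.iso.subtype (Submodule.span K (Set.range e)) := by
        rw [mul_one, inv_mul_cancel]; exact Subgroup.one_mem _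
      rw [psf_eq hcl hx h1.1, psf_eq hcl hx h2, Function.comp_apply, hρ2 _ h1, Function.comp_apply]
      congr 1
      have : (⟨x⁻¹ * 1 * x, h2⟩ : stabW F.iso.subtype (Submodule.span K (Set.range e))) = 1 := by
        apply Subtype.ext
        change x⁻¹ * 1 * x = 1
        group
      rw [this, map_one]
    · have : (fun g : stabW F.iso.subtype (Submodule.span K (Set.range e)) =>
          psf F (Submodule.span K (Set.range e)) (ρ₀.character ∘ pr) g (Submodule.span K (Set.range e))) =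
          ρ₀.character ∘ pr := by
        funext g
        exact psf_self hcl g
      rw [this]
      exact Core.isIrr_comp pr hsurj hψ
  have hq : ∀ g, ∃ q : ℚ, (crep b c pr ρ₀).character g = q := by
    intro g
    obtain ⟨q₁, h1⟩ := hcq (glE b (resHom F.iso.subtype (Submodule.span K (Set.range e)) g))
    obtain ⟨q₂, h2⟩ := hψq (pr g)
    refine ⟨q₁ * q₂, ?_⟩
    rw [hchar, flagTerm_cfun b, h1, Function.comp_apply, h2]
    push_cast
    rfl
  have hD : ((stabW F.iso.subtype (Submodule.span K (Set.range e))).index : ℂ) * (crep b c pr ρ₀).character 1 =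
      ((Nat.card (F.Om k) * n₀ : ℕ) : ℂ) := by
    rw [index_stab h.mem_Om, hchar, flagTerm_cfun b, Function.comp_apply, map_one pr, hψ1, map_one, map_one, map_one,
      Units.val_one, one_mul]
    push_cast
    rfl
  obtain ⟨b', d, χ₁, χ₂, i1, i2, -, c1, c2, h1, h2, h3, -⟩ := hn.two_pow hirr hp hN hq hD
  exact ⟨b', d, χ₁, χ₂, i1, i2, c1, c2, h1, h2, h3⟩

end

end CForm

end Cfsg.Agent.H477.HC
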