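import Cfsg.Agent.H477.HC.N2b
import Cfsg.Agent.Characters.GaloisBasic

/-!
# Norm `2`: congruences for the parameter (hub H5, helper477)

`sum_fix` : a sum invariant under a permutation of prime order; `HN.A_mod` : the parameter `A` modulo a prime `r`,
from the fixed pairs of an element of order `r`; `HN.two_pow'` : the degrees together with the parameter.
-/

set_option autoImplicit false
set_option linter.unusedSectionVars false

open scoped ComplexConjugate
open Cfsg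

namespace Cfsg.Agent.H477.HC

open Cfsg.Agent.OddOrderCharacters.Clifford Cfsg.Agent.Characters Module

universe u v

/-- **a sum invariant under a permutation of prime order** -/
theorem sum_fix {S : Type*} [Fintype S] [DecidableEq S] {r : ℕ} [hr : Fact r.Prime] (σ : Equiv.Perm S) (hσ : σ ^ r = 1) (F : S → ℂ)
    (hF : ∀ s, F (σ s) = F s) (hint : ∀ s, IsIntegral ℤ (F s)) :
    ∃ c : ℂ, IsIntegral ℤ c ∧ ∑ s, F s = ∑ s ∈ Finset.univ.filter (fun s => σ s = s), F s + r * c := by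
  classical
  have key : ∀ v : ℂ, ∃ k : ℤ, ((Finset.univ.filter (fun s => F s = v)).card : ℤ) =
      ((Finset.univ.filter (fun s => σ s = s ∧ F s = v)).card : ℤ) + r * k := by
    intro v
    let τ : Equiv.Perm {s // F s = v} := σ.subtypePerm (fun s => by rw [hF])
    have hτ : (⇑τ)^[r ^ 1] = id := by
      have h2 : τ ^ r = 1 := by
        rw [Equiv.Perm.subtypePerm_pow]
        ext s
        simp [hσ]
      rw [pow_one, ← Equiv.Perm.coe_pow, h2]
      rfl
    have h1 := Equiv.Perm.card_fixedPoints_modEq (p := r) (n := 1) hτ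
    have e1 : Fintype.card {s // F s = v} = (Finset.univ.filter (fun s => F s = v)).card := Fintype.card_subtype _
    have e2 : Fintype.card (Function.fixedPoints τ) =
        (Finset.univ.filter (fun s => σ s = s ∧ F s = v)).card := by
      rw [← Fintype.card_subtype]
      refine Fintype.card_congr
        { toFun := fun x => ⟨(x.1 : S), ⟨congrArg Subtype.val x.2, x.1.2⟩⟩
          invFun := fun x => ⟨⟨x.1, x.2.2⟩, Subtype.ext x.2.1⟩
          left_inv := fun x => rfl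
          right_inv := fun x => rfl }
    rw [e1, e2] at h1
    obtain ⟨k, hk⟩ := (Nat.modEq_iff_dvd.1 h1.symm)
    exact ⟨k, by linarith⟩
  choose k hk using key
  have e1 : ∑ s, F s = ∑ v ∈ Finset.univ.image F, ((Finset.univ.filter (fun s => F s = v)).card : ℂ) * v := by
    rw [← Finset.sum_fiberwise_of_maps_to (g := F) (t := Finset.univ.image F)
      (fun s _ => Finset.mem_image_of_mem _ (Finset.mem_univ _))]
    refine Finset.sum_congr rfl fun v _ => ?_
    rw [Finset.sum_congr rfl (fun s hs => (Finset.mem_filter.1 hs).2), Finset.sum_const, nsmul_eq_mul]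
  have e2 : ∑ s ∈ Finset.univ.filter (fun s => σ s = s), F s =
      ∑ v ∈ Finset.univ.image F, ((Finset.univ.filter (fun s => σ s = s ∧ F s = v)).card : ℂ) * v := by
    rw [← Finset.sum_fiberwise_of_maps_to (g := F) (t := Finset.univ.image F)
      (fun s _ => Finset.mem_image_of_mem _ (Finset.mem_univ _))]
    refine Finset.sum_congr rfl fun v _ => ?_
    rw [Finset.sum_congr rfl (fun s hs => (Finset.mem_filter.1 hs).2), Finset.sum_const, nsmul_eq_mul,
      Finset.filter_filter]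
  refine ⟨∑ v ∈ Finset.univ.image F, (k v : ℂ) * v, ?_, ?_⟩
  · refine IsIntegral.sum _ fun v hv => ?_
    obtain ⟨s, -, rfl⟩ := Finset.mem_image.1 hv
    exact IsIntegral.mul (isIntegral_algebraMap (x := k (F s)) (R := ℤ) (A := ℂ)) (hint s)
  · rw [e1, e2, Finset.mul_sum, ← Finset.sum_add_distrib]
    refine Finset.sum_congr rfl fun v _ => ?_
    have : ((Finset.univ.filter (fun s => F s = v)).card : ℂ) =
        ((Finset.univ.filter (fun s => σ s = s ∧ F s = v)).card : ℂ) + r * k v := by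
      exact_mod_cast hk v
    rw [this]
    ring

section Machine

variable {G : Type u} [Group G] [Fintype G] {P : Subgroup G} [Fintype P] {M : Type v} [AddCommGroup M] [Module ℂ M]
  {ρ : Representation ℂ P M} {U : Subgroup G} {w : G}

/-- the value of `A` -/
theorem HN.A_apply (h : HN P U w ρ) [Fintype U] {A : ℂ}
    (hTT : (Top U w * Ep P ρ) * (Top U w * Ep P ρ) = A • (Top U w * Ep P ρ) + (Nat.card U : ℂ) • Ep P ρ) (m : M) :
    A • m = ∑ x : U × U, fm P ρ m (w * x.1 * w * x.2 * w) := by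
  classical
  have hf := inV_fm (P := P) (ρ := ρ) m
  have h1 := congrFun (LinearMap.congr_fun hTT (fm P ρ m)) w
  change Top U w (Ep P ρ (Top U w (Ep P ρ (fm P ρ m)))) w = A • Top U w (Ep P ρ (fm P ρ m)) w +
    (Nat.card U : ℂ) • Ep P ρ (fm P ρ m) w at h1
  rw [Ep_of_inV P ρ hf, Ep_of_inV P ρ (h.inV_Top hf), fm_not m h.wP, smul_zero, add_zero] at h1
  have h2 : Top U w (fm P ρ m) w = m := by
    rw [Top_apply, Finset.sum_eq_single (1 : U)]
    · obtain ⟨q, hq, hq1⟩ := h.ww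
      have e1 : w * ((1 : U) : G) * w = q := by
        rw [hq, OneMemClass.coe_one, mul_one]
      rw [e1, fm_of m q.2]
      have : (⟨(q : G), q.2⟩ : P)⁻¹ = q⁻¹ := rfl
      rw [this, map_inv_of_one hq1]
      rfl
    · intro u _ hu
      exact fm_not m fun h' => hu (Subtype.ext (h.opp u u.2 h'))
    · intro h'
      exact absurd (Finset.mem_univ _) h'
  rw [h2] at h1
  rw [← h1, Top_apply, Fintype.sum_prod_type]
  refine Finset.sum_congr rfl fun u _ => ?_
  rw [Top_apply]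

open Classical in
/-- the trace of `A` -/
theorem HN.A_trace (h : HN P U w ρ) [Fintype U] [FiniteDimensional ℂ M] {A : ℂ}
    (hTT : (Top U w * Ep P ρ) * (Top U w * Ep P ρ) = A • (Top U w * Ep P ρ) + (Nat.card U : ℂ) • Ep P ρ) :
    A * ρ.character 1 = ∑ x : U × U, extendByZero P ρ.character (w * x.1 * w * x.2 * w)⁻¹ := by
  have h1 : A • (1 : M →ₗ[ℂ] M) = ∑ x : U × U, (if hx : (w * x.1 * w * x.2 * w : G) ∈ P then
      ρ (⟨w * x.1 * w * x.2 * w, hx⟩ : P)⁻¹ else 0) := by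
    refine LinearMap.ext fun m => ?_
    rw [LinearMap.smul_apply, LinearMap.sum_apply]
    change A • m = _
    rw [h.A_apply hTT m]
    refine Finset.sum_congr rfl fun x _ => ?_
    by_cases hx : (w * x.1 * w * x.2 * w : G) ∈ P
    · rw [dif_pos hx, fm_of m hx]
    · rw [dif_neg hx, fm_not m hx, LinearMap.zero_apply]
  have h2 := congrArg (LinearMap.trace ℂ M) h1
  rw [map_smul, map_sum, smul_eq_mul] at h2
  have h3 : ρ.character 1 = LinearMap.trace ℂ M 1 := by
    unfold Representation.character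
    rw [map_one]
  rw [h3, h2]
  refine Finset.sum_congr rfl fun x _ => ?_
  by_cases hx : (w * x.1 * w * x.2 * w : G) ∈ P
  · rw [dif_pos hx, ext_apply_mem _ _ _ (P.inv_mem hx)]
    rfl
  · rw [dif_neg hx, ext_apply_not_mem _ _ _ (fun h' => hx (by simpa using P.inv_mem h')), map_zero]

open Classical in
/-- **`A` modulo a prime** -/
theorem HN.A_mod (h : HN P U w ρ) [Fintype U] [FiniteDimensional ℂ M] {A : ℂ}
    (hTT : (Top U w * Ep P ρ) * (Top U w * Ep P ρ) = A • (Top U w * Ep P ρ) + (Nat.card U : ℂ) • Ep P ρ)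
    {r : ℕ} (hr : r.Prime) {t t₁ : G} (ht : t ∈ P) (ht₁ : t₁ ∈ P) (hr1 : t ^ r = 1) (hr2 : t₁ ^ r = 1)
    (e1 : t * w = w * t₁) (e2 : t₁ * w = w * t) :
    ∃ c : ℂ, IsIntegral ℤ c ∧ A * ρ.character 1 =
      ∑ x ∈ Finset.univ.filter (fun x : U × U => t₁ * x.1 = x.1 * t₁ ∧ t * x.2 = x.2 * t),
        extendByZero P ρ.character (w * x.1 * w * x.2 * w)⁻¹ + r * c := by
  have : Fact r.Prime := ⟨hr⟩
  have hρ : ρ ⟨t₁, ht₁⟩ = ρ ⟨t, ht⟩ := by
    obtain ⟨u, hu, p', e, e'⟩ := h.big ⟨t, ht⟩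
    have h1 : u * w * p' = 1 * w * (⟨t₁, ht₁⟩ : P) := by
      rw [← e]
      change t * w = 1 * w * t₁
      rw [one_mul, e1]
    obtain ⟨-, h2⟩ := h.inj hu U.one_mem p'.2 (⟨t₁, ht₁⟩ : P).2 h1
    rw [← e']
    congr 1
    exact (Subtype.ext h2).symm
  let cj : G → G → G := fun a b => a * b * a⁻¹
  have hcj : ∀ {a : G}, a ∈ P → ∀ b ∈ U, a * b * a⁻¹ ∈ U := fun {a} ha b hb => h.nor a ha b hb
  -- conjugation as a permutation of `U`
  let γ : P →* Equiv.Perm U :=
    { toFun := fun a =>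
        { toFun := fun b => ⟨a * b * (a : G)⁻¹, h.nor a a.2 b b.2⟩
          invFun := fun b => ⟨(a : G)⁻¹ * b * a, by
            have := h.nor (a : G)⁻¹ (P.inv_mem a.2) b b.2
            rwa [inv_inv] at this⟩
          left_inv := fun b => by
            apply Subtype.ext
            change (a : G)⁻¹ * (a * b * (a : G)⁻¹) * a = b
            group
          right_inv := fun b => by
            apply Subtype.ext
            change (a : G) * ((a : G)⁻¹ * b * a) * (a : G)⁻¹ = b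
            group }
      map_one' := by
        ext b
        change (1 : G) * b * (1 : G)⁻¹ = b
        group
      map_mul' := fun a a' => by
        ext b
        change ((a : G) * a') * b * ((a : G) * a')⁻¹ = a * (a' * b * (a' : G)⁻¹) * (a : G)⁻¹
        group }
  have hγ : ∀ (a : P) (b : U), ((γ a b : U) : G) = a * b * (a : G)⁻¹ := fun _ _ => rfl
  let σ : Equiv.Perm (U × U) := Equiv.prodCongr (γ ⟨t₁, ht₁⟩) (γ ⟨t, ht⟩)
  have hσ1 : ∀ n : ℕ, ∀ x : U × U, (σ ^ n) x = ((γ ⟨t₁, ht₁⟩ ^ n) x.1, (γ ⟨t, ht⟩ ^ n) x.2) := by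
    intro n
    induction n with
    | zero => intro x; rfl
    | succ n ih =>
      intro x
      rw [pow_succ', Equiv.Perm.mul_apply, ih, pow_succ', pow_succ', Equiv.Perm.mul_apply, Equiv.Perm.mul_apply]
      rfl
  have hσ : σ ^ r = 1 := by
    apply Equiv.ext
    intro x
    rw [hσ1, ← map_pow, ← map_pow]
    have a1 : (⟨t₁, ht₁⟩ : P) ^ r = 1 := Subtype.ext hr2
    have a2 : (⟨t, ht⟩ : P) ^ r = 1 := Subtype.ext hr1
    rw [a1, a2, map_one]
    rfl
  obtain ⟨c, hc, hsum⟩ := sum_fix (r := r) σ hσ (fun x : U × U => extendByZero P ρ.character (w * x.1 * w * x.2 * w)⁻¹)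
    (fun x => by
      have e3 : w * ((σ x).1 : G) * w * ((σ x).2 : G) * w = t * (w * x.1 * w * x.2 * w) * t₁⁻¹ := by
        have b1 : ((σ x).1 : G) = t₁ * x.1 * t₁⁻¹ := rfl
        have b2 : ((σ x).2 : G) = t * x.2 * t⁻¹ := rfl
        have b3 : t₁⁻¹ * w * t = w := by
          rw [mul_assoc, ← e2]; group
        have b4 : t⁻¹ * w = w * t₁⁻¹ := by
          rw [inv_mul_eq_iff_eq_mul, ← mul_assoc, e1]; group
        rw [b1, b2]
        calc w * (t₁ * x.1 * t₁⁻¹) * w * (t * x.2 * t⁻¹) * w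
            = (w * t₁) * x.1 * (t₁⁻¹ * w * t) * x.2 * (t⁻¹ * w) := by group
          _ = (t * w) * x.1 * w * x.2 * (w * t₁⁻¹) := by rw [b3, b4, ← e1]
          _ = _ := by group
      change extendByZero P ρ.character (w * ((σ x).1 : G) * w * ((σ x).2 : G) * w)⁻¹ = _
      rw [e3]
      by_cases hx : (w * x.1 * w * x.2 * w : G) ∈ P
      · have hx' : t * (w * x.1 * w * x.2 * w) * t₁⁻¹ ∈ P := P.mul_mem (P.mul_mem ht hx) (P.inv_mem ht₁)
        rw [ext_apply_mem _ _ _ (P.inv_mem hx), ext_apply_mem _ _ _ (P.inv_mem hx')]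
        have a1 : (⟨(t * (w * x.1 * w * x.2 * w) * t₁⁻¹)⁻¹, P.inv_mem hx'⟩ : P) =
            ⟨t₁, ht₁⟩ * ⟨(w * x.1 * w * x.2 * w)⁻¹, P.inv_mem hx⟩ * (⟨t, ht⟩ : P)⁻¹ := by
          apply Subtype.ext
          change (t * (w * x.1 * w * x.2 * w) * t₁⁻¹)⁻¹ = t₁ * (w * x.1 * w * x.2 * w)⁻¹ * t⁻¹
          group
        rw [a1]
        unfold Representation.character
        have a2 : ∀ a b c : P, ρ (a * b * c) = ρ a * ρ b * ρ c := fun a b c => by rw [map_mul, map_mul]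
        rw [a2, hρ, LinearMap.trace_mul_comm, ← mul_assoc, ← map_mul ρ (⟨t, ht⟩ : P)⁻¹, inv_mul_cancel,
          map_one, one_mul]
      · rw [ext_apply_not_mem P ρ.character (w * x.1 * w * x.2 * w)⁻¹ (fun h' => hx (by simpa using P.inv_mem h')),
          ext_apply_not_mem]
        intro h'
        apply hx
        have h2 := P.mul_mem (P.mul_mem (P.inv_mem ht) (P.inv_mem h')) ht₁
        have e : t⁻¹ * ((t * (w * x.1 * w * x.2 * w) * t₁⁻¹)⁻¹)⁻¹ * t₁ = w * x.1 * w * x.2 * w := by group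
        rwa [e] at h2)
    (fun x => by
      by_cases hx : (w * x.1 * w * x.2 * w : G)⁻¹ ∈ P
      · rw [ext_apply_mem _ _ _ hx]
        exact GaloisBasic.isIntegral_apply (Core.isCharacter_of_rep ρ) _
      · rw [ext_apply_not_mem _ _ _ hx]
        exact isIntegral_zero)
  refine ⟨c, hc, ?_⟩
  rw [h.A_trace hTT, hsum]
  congr 2
  ext x
  simp only [Finset.mem_filter, Finset.mem_univ, true_and]
  constructor
  · intro hx
    have a1 : t₁ * (x.1 : G) * t₁⁻¹ = x.1 := congrArg (fun y : U × U => (y.1 : G)) hx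
    have a2 : t * (x.2 : G) * t⁻¹ = x.2 := congrArg (fun y : U × U => (y.2 : G)) hx
    exact ⟨by rw [← mul_inv_eq_iff_eq_mul]; exact a1, by rw [← mul_inv_eq_iff_eq_mul]; exact a2⟩
  · rintro ⟨a1, a2⟩
    refine Prod.ext (Subtype.ext ?_) (Subtype.ext ?_)
    · change t₁ * (x.1 : G) * t₁⁻¹ = x.1
      rw [a1]; group
    · change t * (x.2 : G) * t⁻¹ = x.2
      rw [a2]; group

/-- **`A` modulo a prime** -/
theorem HN.A_mod' (h : HN P U w ρ) [Fintype U] [FiniteDimensional ℂ M] {A : ℂ}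
    (hTT : (Top U w * Ep P ρ) * (Top U w * Ep P ρ) = A • (Top U w * Ep P ρ) + (Nat.card U : ℂ) • Ep P ρ)
    {r : ℕ} (hr : r.Prime) {t t₁ : G} (ht : t ∈ P) (ht₁ : t₁ ∈ P) (hr1 : t ^ r = 1) (hr2 : t₁ ^ r = 1)
    (e1 : t * w = w * t₁) (e2 : t₁ * w = w * t) (S : Finset (U × U))
    (hS : ∀ x : U × U, x ∈ S ↔ t₁ * x.1 = x.1 * t₁ ∧ t * x.2 = x.2 * t) :
    ∃ c : ℂ, IsIntegral ℤ c ∧ A * ρ.character 1 =
      ∑ x ∈ S, extendByZero P ρ.character (w * x.1 * w * x.2 * w)⁻¹ + r * c := by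
  classical
  obtain ⟨c, hc, h1⟩ := h.A_mod hTT hr ht ht₁ hr1 hr2 e1 e2
  refine ⟨c, hc, ?_⟩
  rw [h1]
  congr 2
  ext x
  rw [hS, Finset.mem_filter]
  exact ⟨fun h => h.2, fun h => ⟨Finset.mem_univ _, h⟩⟩

/-- **the degrees** -/
theorem HN.two_pow' (h : HN P U w ρ) [Fintype U] [FiniteDimensional ℂ M] (hirr : IsIrrCharacter P ρ.character)
    {p N : ℕ} (hp : p.Prime) (hN : Nat.card U = p ^ N) (hρ : ∀ x, ∃ q : ℚ, ρ.character x = q) {D : ℕ}
    (hD : (P.index : ℂ) * ρ.character 1 = D) :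
    ∃ (A : ℤ) (b d : ℕ) (χ₁ χ₂ : G → ℂ), (IsIrrCharacter G χ₁ ∧ IsIrrCharacter G χ₂ ∧
      χ₁ + χ₂ = indFun P ρ.character ∧
      χ₁ 1 = ((p ^ b * d : ℕ) : ℂ) ∧ χ₂ 1 = (d : ℂ) ∧ (p ^ b + 1) * d = D ∧ b ≤ N ∧ (b ≠ 0 → Even (b + N))) ∧
      (∀ z : P, (∀ g : G, g * z = z * g) → ρ z = 1 → χ₁ z = χ₁ 1 ∧ χ₂ z = χ₂ 1) ∧
      (Top U w * Ep P ρ) * (Top U w * Ep P ρ) = (A : ℂ) • (Top U w * Ep P ρ) + (Nat.card U : ℂ) • Ep P ρ ∧
      A ^ 2 + 2 * p ^ N = p ^ (N + b) + p ^ (N - b) ∧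
      ∀ x : G, (∀ g : G, ∀ u ∈ U, ∀ p ∈ P, g⁻¹ * x * g ≠ u * w * p) → χ₁ x = (p : ℂ) ^ b * χ₂ x := by
  classical
  obtain ⟨A, hA⟩ := h.quad hirr
  obtain ⟨q, hq⟩ := h.A_rat hirr hρ hA
  obtain ⟨lam, mu, χ₁, χ₂, ⟨i1, i2, e1, e2, n1, n2, hs, hd, hz⟩, htr⟩ := h.two' hirr hA
  obtain ⟨B, hB⟩ := int_of_rat (z := A) (by rw [← e1]; exact n1.add n2) hq
  obtain ⟨d₁, hd₁, c1⟩ := Core.isIrr_apply_one i1
  obtain ⟨d₂, hd₂, c2⟩ := Core.isIrr_apply_one i2
  have hx0 : ∀ x : G, (∀ g : G, ∀ u ∈ U, ∀ p ∈ P, g⁻¹ * x * g ≠ u * w * p) → lam * χ₁ x + mu * χ₂ x = 0 :=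
    fun x hx => by rw [htr, h.trace_Lt_Top hx]
  rw [hN] at e2
  rw [c1, c2] at hd
  have hsum : d₁ + d₂ = D := by
    have h1 := congrFun hs 1
    rw [Pi.add_apply, Cfsg.Agent.H53.HC.indFun_one, hD, c1, c2] at h1
    exact_mod_cast h1
  obtain ⟨i, hi, l1, l2, l3⟩ := ratio_pow hp n1 n2 e2 hd hd₁ hd₂
  have hBA : (B : ℂ) ^ 2 + 2 * (p : ℂ) ^ N = (p : ℂ) ^ i + (p : ℂ) ^ (2 * N - i) := by
    rw [← hB, ← e1]
    push_cast at l1 l2 e2
    rw [← l1, ← l2]
    linear_combination 2 * e2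
  have hp0 : 0 < p := hp.pos
  have hpc : (p : ℂ) ≠ 0 := Nat.cast_ne_zero.2 hp.ne_zero
  have hlam : lam ≠ 0 := by
    rintro rfl
    rw [zero_mul] at e2
    have : ((p ^ N : ℕ) : ℂ) = 0 := neg_eq_zero.1 e2.symm
    push_cast at this
    exact pow_ne_zero _ hpc this
  have hmu : mu ≠ 0 := by
    rintro rfl
    rw [mul_zero] at e2
    have : ((p ^ N : ℕ) : ℂ) = 0 := neg_eq_zero.1 e2.symm
    push_cast at this
    exact pow_ne_zero _ hpc this
  have hc1 : (d₁ : ℂ) ≠ 0 := by exact_mod_cast hd₁.ne'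
  have hc2 : (d₂ : ℂ) ≠ 0 := by exact_mod_cast hd₂.ne'
  rw [hq] at e1
  rcases Nat.lt_or_ge N i with hi' | hi'
  · have h1 : p ^ (i - N) * d₁ = d₂ := by
      have h2 : p ^ N * (p ^ (i - N) * d₁) = p ^ N * d₂ := by
        rw [← mul_assoc, ← pow_add, Nat.add_sub_cancel' hi'.le, l3]
      exact Nat.eq_of_mul_eq_mul_left (Nat.pos_of_ne_zero (pow_ne_zero _ hp.ne_zero)) h2
    refine ⟨B, i - N, d₁, χ₂, χ₁, ⟨i2, i1, by rw [add_comm]; exact hs, by rw [c2, h1], c1, ?_, by omega, fun _ => ?_⟩,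
      fun z hz' hz1 => (hz z hz' hz1).symm, by rw [← hB]; exact hA, ?_, fun x hx => ?_⟩
    · rw [add_mul, one_mul, h1, ← hsum]; ring
    · rw [Nat.sub_add_cancel hi'.le]
      exact parity hp l1 l2 hi hi'.ne' e1
    · have h3 : N + (i - N) = i := by omega
      have h4 : N - (i - N) = 2 * N - i := by omega
      rw [h3, h4]
      exact_mod_cast hBA
    · have h5 := hx0 x hx
      have h6 : (d₂ : ℂ) = (p : ℂ) ^ (i - N) * d₁ := by rw [← h1]; push_cast; ring
      rw [h6] at hd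
      have h7 : lam = -(mu * (p : ℂ) ^ (i - N)) := by
        apply mul_right_cancel₀ hc1
        linear_combination hd
      rw [h7] at h5
      apply mul_left_cancel₀ hmu
      linear_combination h5
  · have h1 : d₁ = p ^ (N - i) * d₂ := by
      have h2 : p ^ i * d₁ = p ^ i * (p ^ (N - i) * d₂) := by
        rw [← mul_assoc, ← pow_add, Nat.add_sub_cancel' hi', l3]
      exact Nat.eq_of_mul_eq_mul_left (Nat.pos_of_ne_zero (pow_ne_zero _ hp.ne_zero)) h2
    refine ⟨B, N - i, d₂, χ₁, χ₂, ⟨i1, i2, hs, by rw [c1, h1], c2, ?_, by omega, fun h0 => ?_⟩, hz,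
      by rw [← hB]; exact hA, ?_, fun x hx => ?_⟩
    · rw [add_mul, one_mul, ← h1, hsum]
    · have h3 : Even i := parity hp l1 l2 hi (by omega) e1
      obtain ⟨k, hk⟩ := h3
      exact ⟨N - k, by omega⟩
    · have h3 : N + (N - i) = 2 * N - i := by omega
      have h4 : N - (N - i) = i := by omega
      rw [h3, h4, add_comm ((p : ℤ) ^ (2 * N - i))]
      exact_mod_cast hBA
    · have h5 := hx0 x hx
      have h6 : (d₁ : ℂ) = (p : ℂ) ^ (N - i) * d₂ := by rw [h1]; push_cast; ring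
      rw [h6] at hd
      have h7 : mu = -(lam * (p : ℂ) ^ (N - i)) := by
        apply mul_right_cancel₀ hc2
        linear_combination hd
      rw [h7] at h5
      apply mul_left_cancel₀ hlam
      linear_combination h5

end Machine

end Cfsg.Agent.H477.HC
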