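import Cfsg.Agent.H477.HC.N5
import Cfsg.Agent.H477.HC.N6

/-!
# The norm-two induction for a frame, with the parameter (hub H5, helper477)
-/

set_option autoImplicit false

open scoped ComplexConjugate
open Cfsg

namespace Cfsg.Agent.H477.HC

open Cfsg.Agent.OddOrderCharacters.Clifford Cfsg.Agent.Characters MulAction Module Cfsg.Agent.H53.HC
open Cfsg.Agent.H749.Two

universe u v w x

namespace CForm

section

variable {K : Type u} [Field K] {V : Type v} [AddCommGroup V] [Module K V] {F : CForm K V}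
  {X : Type w} [AddCommGroup X] [Module K X] {F' : CForm K X} {k : ℕ} {e f : Fin k → V} {j : X →ₗ[K] V}

theorem Frm.w_sq [FiniteDimensional K V] (h : Frm F F' e f j) (hε : F.ε = 1)
    {w : F.iso} (hw1 : ∀ i, (w : V ≃ₗ[K] V) (e i) = f i) (hw2 : ∀ i, (w : V ≃ₗ[K] V) (f i) = F.ε • e i)
    (hw3 : ∀ v, (∀ i, F.B v (e i) = 0) → (∀ i, F.B v (f i) = 0) → (w : V ≃ₗ[K] V) v = v) : w * w = 1 := by
  apply Subtype.ext
  apply LinearEquiv.ext
  intro v
  change ((w * w : F.iso) : V ≃ₗ[K] V) v = v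
  have a1 : ∀ l, F.B (∑ i, F.B v (f i) • e i) (e l) = 0 := fun l => by
    rw [B_sum_left]; exact Finset.sum_eq_zero fun i _ => by rw [h.hee, mul_zero]
  have a2 : ∀ l, F.B (∑ i, F.B v (f i) • e i) (f l) = F.B v (f l) := fun l => by
    rw [B_sum_left]; simp only [h.hef]; rw [sum_delta (fun i => F.B v (f i)) l]
  have a3 : ∀ l, F.B (∑ i, F.B v (e i) • f i) (f l) = 0 := fun l => by
    rw [B_sum_left]; exact Finset.sum_eq_zero fun i _ => by rw [h.hff, mul_zero]
  have a4 : ∀ l, F.B (∑ i, F.B v (e i) • f i) (e l) = F.B v (e l) := fun l => by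
    rw [B_sum_left]; simp only [h.hfe, hε]; rw [sum_delta (fun i => F.B v (e i)) l]
  have e0 : v = (v - ∑ i, F.B v (f i) • e i - ∑ i, F.B v (e i) • f i) +
    (∑ i, F.B v (f i) • e i + ∑ i, F.B v (e i) • f i) := by abel
  have hz : (w : V ≃ₗ[K] V) (v - ∑ i, F.B v (f i) • e i - ∑ i, F.B v (e i) • f i) =
      v - ∑ i, F.B v (f i) • e i - ∑ i, F.B v (e i) • f i :=
    hw3 _ (fun l => by rw [F.B_sub_left, F.B_sub_left, a1, a4]; ring)
      (fun l => by rw [F.B_sub_left, F.B_sub_left, a2, a3]; ring)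
  have he : (w : V ≃ₗ[K] V) (∑ i, F.B v (f i) • e i) = ∑ i, F.B v (f i) • f i := by
    rw [map_sum]; exact Finset.sum_congr rfl fun i _ => by rw [map_smul, hw1]
  have hf : (w : V ≃ₗ[K] V) (∑ i, F.B v (e i) • f i) = ∑ i, F.B v (e i) • e i := by
    rw [map_sum]; exact Finset.sum_congr rfl fun i _ => by rw [map_smul, hw2, hε, one_smul]
  have he' : (w : V ≃ₗ[K] V) (∑ i, F.B v (e i) • e i) = ∑ i, F.B v (e i) • f i := by
    rw [map_sum]; exact Finset.sum_congr rfl fun i _ => by rw [map_smul, hw1]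
  have hf' : (w : V ≃ₗ[K] V) (∑ i, F.B v (f i) • f i) = ∑ i, F.B v (f i) • e i := by
    rw [map_sum]; exact Finset.sum_congr rfl fun i _ => by rw [map_smul, hw2, hε, one_smul]
  rw [mul_apply']
  conv_lhs => rw [e0, map_add, map_add, hz, map_add, map_add, hz, he, hf, hf', he']
  exact e0.symm

/-- **the data of the norm-two induction** -/
theorem Frm.two_data [FiniteDimensional K V] [FiniteDimensional K X] [Finite V] [Finite K] (h : Frm F F' e f j)
    (hσ : F.σ = F'.σ) (hk : 0 < k) (hε : F.ε = 1)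
    [Fintype F.iso] [Fintype (stabW F.iso.subtype (Submodule.span K (Set.range e)))] [Fintype (Us F e)]
    {w : F.iso} (hw1 : ∀ i, (w : V ≃ₗ[K] V) (e i) = f i) (hw2 : ∀ i, (w : V ≃ₗ[K] V) (f i) = F.ε • e i)
    (hw3 : ∀ v, (∀ i, F.B v (e i) = 0) → (∀ i, F.B v (f i) = 0) → (w : V ≃ₗ[K] V) v = v)
    (b : Basis (Fin k) K (Submodule.span K (Set.range e)))
    {c : GL (Fin k) K →* ℂˣ} (hc : ∀ A, c (F.iota k A) = c A) (hcusp : IsCusp (cfun c))
    (hcq : ∀ A, ∃ q : ℚ, ((c A : ℂˣ) : ℂ) = q)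
    {pr : stabW F.iso.subtype (Submodule.span K (Set.range e)) →* F'.iso}
    (hρ1 : ∀ (g : stabW F.iso.subtype (Submodule.span K (Set.range e))) y,
      ((g : F.iso) : V ≃ₗ[K] V) (j y) - j ((pr g : X ≃ₗ[K] X) y) ∈ Submodule.span K (Set.range e))
    (hρ2 : ∀ g : stabW F.iso.subtype (Submodule.span K (Set.range e)),
      (g : F.iso) ∈ F.TT (Submodule.span K (Set.range e)) → pr g = 1)
    (hsurj : Function.Surjective pr)
    {M : Type x} [AddCommGroup M] [Module ℂ M] [FiniteDimensional ℂ M] (ρ₀ : Representation ℂ F'.iso M)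
    (hψ : IsIrrCharacter _ ρ₀.character) {n₀ : ℕ} (hψ1 : ρ₀.character 1 = n₀)
    (hψq : ∀ g, ∃ q : ℚ, ρ₀.character g = q)
    (hperp : ∀ W' ∈ F.Om k, Submodule.span K (Set.range e) ≤ F.perp W' → Submodule.span K (Set.range e) ⊓ W' = ⊥ →
      F.Van (cfun c) (psf F (Submodule.span K (Set.range e)) (ρ₀.character ∘ pr)) (Submodule.span K (Set.range e)) W')
    {p N : ℕ} (hp : p.Prime) (hN : Nat.card (Us F e) = p ^ N) :
    HN (stabW F.iso.subtype (Submodule.span K (Set.range e))) (Us F e) w (crep b c pr ρ₀) ∧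
    ∃ (A : ℤ) (b' d : ℕ) (χ₁ χ₂ : F.iso → ℂ), (IsIrrCharacter F.iso χ₁ ∧ IsIrrCharacter F.iso χ₂ ∧
      χ₁ + χ₂ = indFun (stabW F.iso.subtype (Submodule.span K (Set.range e))) (crep b c pr ρ₀).character ∧
      χ₁ 1 = ((p ^ b' * d : ℕ) : ℂ) ∧ χ₂ 1 = (d : ℂ) ∧ (p ^ b' + 1) * d = Nat.card (F.Om k) * n₀ ∧
      b' ≤ N ∧ (b' ≠ 0 → Even (b' + N))) ∧
      (∀ z : stabW F.iso.subtype (Submodule.span K (Set.range e)), (∀ g : F.iso, g * z = z * g) →
        crep b c pr ρ₀ z = 1 → χ₁ z = χ₁ 1 ∧ χ₂ z = χ₂ 1) ∧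
      (Top (Us F e) w * Ep (stabW F.iso.subtype (Submodule.span K (Set.range e))) (crep b c pr ρ₀)) *
        (Top (Us F e) w * Ep (stabW F.iso.subtype (Submodule.span K (Set.range e))) (crep b c pr ρ₀)) =
        (A : ℂ) • (Top (Us F e) w * Ep (stabW F.iso.subtype (Submodule.span K (Set.range e))) (crep b c pr ρ₀)) +
        (Nat.card (Us F e) : ℂ) • Ep (stabW F.iso.subtype (Submodule.span K (Set.range e))) (crep b c pr ρ₀) ∧
      A ^ 2 + 2 * p ^ N = p ^ (N + b') + p ^ (N - b') ∧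
      ∀ x : F.iso, (∀ g : F.iso, ∀ u ∈ Us F e, ∀ p ∈ stabW F.iso.subtype (Submodule.span K (Set.range e)),
        g⁻¹ * x * g ≠ u * w * p) → χ₁ x = (p : ℂ) ^ b' * χ₂ x := by
  classical
  have hn := h.hn hσ hk hε hw1 hw2 hw3 b hc hcusp hρ1 hρ2 ρ₀ hperp
  have hchar := crep_char b c pr ρ₀
  have hcl : IsClassFunction (stabW F.iso.subtype (Submodule.span K (Set.range e))) (ρ₀.character ∘ pr) :=
    Core.isCharacter_isClassFunction (Core.isCharacter_comp pr (Core.isCharacter_of_rep ρ₀))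
  obtain ⟨W₁, hW₁, hopp⟩ := F.exists_opp h.mem_Om
  have hirr : IsIrrCharacter _ (crep b c pr ρ₀).character := by
    have h1 : (crep b c pr ρ₀).character = fun g : stabW F.iso.subtype (Submodule.span K (Set.range e)) =>
        flagTerm F.iso.subtype (cfun c) g (Submodule.span K (Set.range e)) *
          psf F (Submodule.span K (Set.range e)) (ρ₀.character ∘ pr) g (Submodule.span K (Set.range e)) := by
      funext g
      rw [hchar, psf_self hcl]
    rw [h1]
    refine F.isIrr_stab ?_ (fun W hWk g hg => ?_) h.mem_Om hW₁ hopp ?_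
    · exact isIrr_cfun c
    · obtain ⟨x, hx⟩ := F.trans_Om h.mem_Om hWk
      have h1 := TT_conj hx hg
      have h2 : x⁻¹ * 1 * x ∈ stabW F.iso.subtype (Submodule.span K (Set.range e)) := by
        rw [mul_one, inv_mul_cancel]; exact Subgroup.one_mem _
      rw [psf_eq hcl hx h1.1, psf_eq hcl hx h2, Function.comp_apply, hρ2 _ h1, Function.comp_apply]
      congr 1
      have : (⟨x⁻¹ * 1 * x, h2⟩ : stabW F.iso.subtype (Submodule.span K (Set.range e))) = 1 := by
        apply Subtype.ext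
        change x⁻¹ * 1 * x = 1
        group
      rw [this, map_one]
    · have : (fun g : stabW F.iso.subtype (Submodule.span K (Set.range e)) =>
          psf F (Submodule.span K (Set.range e)) (ρ₀.character ∘ pr) g (Submodule.span K (Set.range e))) =
          ρ₀.character ∘ pr := by
        funext g
        exact psf_self hcl g
      rw [this]
      exact Core.isIrr_comp pr hsurj hψ
  have hq : ∀ g, ∃ q : ℚ, (crep b c pr ρ₀).character g = q := by
    intro g
    obtain ⟨q₁, h1⟩ := hcq (glE b (resHom F.iso.subtype (Submodule.span K (Set.range e)) g))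
    obtain ⟨q₂, h2⟩ := hψq (pr g)
    refine ⟨q₁ * q₂, ?_⟩
    rw [hchar, flagTerm_cfun b, h1, Function.comp_apply, h2]
    push_cast
    rfl
  have hD : ((stabW F.iso.subtype (Submodule.span K (Set.range e))).index : ℂ) * (crep b c pr ρ₀).character 1 =
      ((Nat.card (F.Om k) * n₀ : ℕ) : ℂ) := by
    rw [index_stab h.mem_Om, hchar, flagTerm_cfun b, Function.comp_apply, map_one pr, hψ1, map_one, map_one, map_one,
      Units.val_one, one_mul]
    push_cast
    rfl
  exact ⟨hn, hn.two_pow' hirr hp hN hq hD⟩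

end

end CForm

end Cfsg.Agent.H477.HC
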