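import Cfsg.Agent.H477.HC.Adj

/-!
# Two primes different from the characteristic are adjacent (hub H5, helper477)

`np_sp`, `np_odd`, `np_plus`, `np_minus`, apart from small cases.
-/

set_option autoImplicit false

open scoped ComplexConjugate
open Cfsg

namespace Cfsg.Agent.H477.HC

open Cfsg.Agent.Characters Module Cfsg.Agent.H53.HC Cfsg.Agent.H671.H5

universe u v w

section

variable (K : Type u) [Field K] [Finite K] {p : ℕ} [Fact p.Prime] [CharP K p]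

omit [Finite K] in
theorem ne_card [Finite K] {r : ℕ} (hr : r.Prime) (hrp : r ≠ p) : ¬ r ∣ Nat.card K := by
  obtain ⟨s, hs⟩ := card_pow K p
  rw [hs]; intro h
  exact hrp ((Nat.prime_dvd_prime_iff_eq hr (Fact.out : p.Prime)).1 (hr.dvd_of_dvd_pow h))

/-- removing the power of `p` -/
theorem rm_p {r e M d : ℕ} (hr : r.Prime) (hrp : r ≠ p) (h : r ∣ M) (h' : M ∣ p ^ e * d) : r ∣ d := by
  have := prime_pow_dvd (t := 1) hr (Fact.out : p.Prime) hrp (by rw [pow_one]; exact h.trans h')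
  rwa [pow_one] at this

theorem sp_prod {m r : ℕ} (hr : r.Prime) (hrp : r ≠ p) (hd : r ∣ Nat.card (PSp m K)) :
    r ∣ ∏ i ∈ Finset.range m, (Nat.card K ^ (2 * (i + 1)) - 1) := by
  have hd1 : r ∣ Nat.card (Matrix.symplecticGroup (Fin m) K) := hd.trans (Subgroup.card_quotient_dvd_card _)
  rw [Nat.card_congr (isoSp m K).toEquiv, card_spF] at hd1
  exact (hr.dvd_mul.1 hd1).resolve_left fun h => ne_card K (p := p) hr hrp (hr.dvd_of_dvd_pow h)

/-- the top character of `PSp` -/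
theorem sp_ch_top {m : ℕ} (hm : 2 ≤ m) (h1 : m = 2 → 4 ≤ Nat.card K) :
    ∃ d, Ch (PSp m K) d ∧ ∀ r : ℕ, r.Prime → r ≠ p → r ∣ P1 (Nat.card K) m → r ∣ d := by
  have hq2 : 2 ≤ Nat.card K := Finite.one_lt_card
  obtain ⟨c, hc⟩ := exists_cus_sq K rfl m (by omega) (fun h => by
    by_contra h'
    have := h1 (by omega)
    omega) (fun h => by
    by_contra h'
    have := h1 (by omega)
    omega) (fun h => by omega)
  obtain ⟨χ, hχ, hχ1⟩ := psp_char (k := m) (n := 0) hc (one_pow 2) (neg_one_sq)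
  obtain ⟨e, he⟩ := psp_dvd_top K (p := p) (m := m) (by omega)
  exact ⟨_, ⟨χ, hχ, hχ1⟩, fun r hr hrp h => rm_p (p := p) hr hrp h he⟩

/-- the second character of `PSp` -/
theorem sp_ch_two {m : ℕ} (hm3 : 3 ≤ m) (h2 : Nat.card K = 2 → 4 ≤ m) (h3 : Nat.card K = 3 → 4 ≤ m) :
    ∃ d, Ch (PSp m K) d ∧ ∀ r : ℕ, r.Prime → r ≠ p → r ∣ P2 (Nat.card K) m → r ∣ d := by
  have hq2 : 2 ≤ Nat.card K := Finite.one_lt_card
  obtain ⟨c, hc⟩ := exists_cus_sq K rfl (m - 1) (by omega) (fun h => by have := h2 h; omega)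
    (fun h => by have := h3 h; omega) (fun h => by omega)
  obtain ⟨χ, hχ, hχ1⟩ := psp_char (k := m - 1) (n := 1) hc (one_pow 2) (neg_one_sq)
  obtain ⟨e, he⟩ := bc_key hm3 hq2 (psp_dvd K (p := p) (k := m - 1) (n := 1) (by omega))
  have hm1 : m - 1 + 1 = m := by omega
  refine ⟨dg (CForm.spF K (m - 1 + 1)) (m - 1), ?_, fun r hr hrp h => rm_p (p := p) hr hrp h he⟩
  have h5 : Ch (PSp (m - 1 + 1) K) (dg (CForm.spF K (m - 1 + 1)) (m - 1)) := ⟨χ, hχ, hχ1⟩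
  generalize dg (CForm.spF K (m - 1 + 1)) (m - 1) = D at h5
  rwa [hm1] at h5

/-- **`PSp`** -/
theorem np_sp {m : ℕ} (hm : 2 ≤ m) (h1 : m = 2 → 4 ≤ Nat.card K) {r s : ℕ} (hr : r.Prime) (hs : s.Prime)
    (hrp : r ≠ p) (hsp : s ≠ p) (hrs : r ≠ s) (hd : r ∣ Nat.card (PSp m K)) (hd' : s ∣ Nat.card (PSp m K))
    (h2 : m = 3 → Nat.card K = 2 → r ≠ 7 ∧ s ≠ 7) (h3 : m = 3 → Nat.card K = 3 → r ≠ 13 ∧ s ≠ 13) :
    Adj r s (PSp m K) := by
  rcases bc_cases hm hr hs (sp_prod K (p := p) hr hrp hd) (sp_prod K (p := p) hs hsp hd') with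
    ⟨h4, h5⟩ | ⟨h4, h5, h6, h7, h8⟩
  · obtain ⟨d, hd1, hd2⟩ := sp_ch_top K (p := p) hm h1
    exact adj_of_ch hd1 hr hs hrs (hd2 r hr hrp h4) (hd2 s hs hsp h5)
  · have h7' : ∀ {r : ℕ}, r.Prime → m = 3 → Nat.card K = 2 → r ∣ Nat.card K ^ m - 1 → r = 7 := by
      intro r hr hm3 hq h
      rw [hm3, hq] at h
      exact (Nat.prime_dvd_prime_iff_eq hr (by norm_num)).1 (by norm_num at h; exact h)
    have h13 : ∀ {r : ℕ}, r.Prime → m = 3 → Nat.card K = 3 → r ∣ Nat.card K ^ m - 1 → ¬ r ∣ P1 (Nat.card K) m →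
        r = 13 := by
      intro r hr hm3 hq h h'
      rw [hm3, hq] at h h'
      have h5 : r ∣ 2 * 13 := by norm_num at h; exact h
      rcases hr.dvd_mul.1 h5 with h6 | h6
      · exfalso
        have h7 : r = 2 := (Nat.prime_dvd_prime_iff_eq hr Nat.prime_two).1 h6
        apply h'
        rw [h7]
        exact Dvd.dvd.mul_right (by norm_num) _
      · exact (Nat.prime_dvd_prime_iff_eq hr (by norm_num)).1 h6
    obtain ⟨d, hd1, hd2⟩ := sp_ch_two K (p := p) h5 (fun hq => by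
      by_contra h
      have hm3 : m = 3 := by omega
      obtain ⟨h9, h10⟩ := h2 hm3 hq
      rcases h8 with h8 | h8
      · exact h9 (h7' hr hm3 hq h8.1)
      · exact h10 (h7' hs hm3 hq h8.1)) (fun hq => by
      by_contra h
      have hm3 : m = 3 := by omega
      obtain ⟨h9, h10⟩ := h3 hm3 hq
      rcases h8 with h8 | h8
      · exact h9 (h13 hr hm3 hq h8.1 h8.2)
      · exact h10 (h13 hs hm3 hq h8.1 h8.2))
    exact adj_of_ch hd1 hr hs hrs (hd2 r hr hrp h6) (hd2 s hs hsp h7)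

/-! ### odd dimension -/

include p in
theorem odd_ch {m k n : ℕ} (hkn : k + n = m) (ho : Odd (Nat.card K)) (h2 : (2 : K) ≠ 0) (hm : 3 ≤ m) (hk : 2 ≤ k) :
    ∃ e, Ch (POmega K (quadFormOdd m K)) e ∧ (∀ t a, t.Prime → t ≠ 2 → t ^ a ∣ dg (CForm.oddF K (k + n) h2) k → t ^ a ∣ e) ∧
      ∀ a, 2 ^ (a + 3) ∣ dg (CForm.oddF K (k + n) h2) k → 2 ^ a ∣ e := by
  subst hkn
  have hq3 : 3 ≤ Nat.card K := by
    have : 1 < Nat.card K := Finite.one_lt_card
    rcases ho with ⟨j, hj⟩; omega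
  obtain ⟨hidx, hcen⟩ := odd_idx K (p := p) ho hm
  obtain ⟨c, hc⟩ := exists_cus_one (K := K) rfl k (by omega) (by
    have : Nat.card K ^ 2 ≤ Nat.card K ^ k := Nat.pow_le_pow_right (by omega) hk
    nlinarith) (by rintro ⟨h3, -⟩; omega)
  obtain ⟨⟨W₀, hW₀⟩, -⟩ := CForm.oddF_frame (K := K) (p := p) h2 k n
  exact om_ch (CForm.oddF K (k + n) h2) (odd_hB K (k + n) h2) hW₀ hc (fun z hz => ⟨1, one_pow 1, fun v => by
    rw [hcen z hz]
    change (1 : Matrix _ _ K).mulVec v = _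
    rw [Matrix.one_mulVec, Units.val_one, one_smul]⟩) (by
      change (Omega K (quadFormOdd (k + n) K)).index ∣ 8
      rw [hidx]; norm_num)

theorem odd_prod {m r : ℕ} (ho : Odd (Nat.card K)) (hr : r.Prime) (hrp : r ≠ p) (hr2 : r ≠ 2)
    (hd : r ∣ Nat.card (POmega K (quadFormOdd m K))) :
    r ∣ ∏ i ∈ Finset.range m, (Nat.card K ^ (2 * (i + 1)) - 1) := by
  have h2 := two_ne_zero_of_odd (K := K) (p := p) ho
  have hd1 : r ∣ Nat.card (isometryGroup K (quadFormOdd m K)) :=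
    hd.trans ((Subgroup.card_quotient_dvd_card _).trans (Subgroup.card_subgroup_dvd_card _))
  have hd2 : r ∣ Nat.card (CForm.oddF K m h2).iso := by
    rwa [← Nat.card_congr (isoQuad (CForm.oddF K m h2) (odd_hB K m h2)).toEquiv]
  rw [card_oddF K h2 ho] at hd2
  rcases hr.dvd_mul.1 hd2 with h | h
  · rcases hr.dvd_mul.1 h with h' | h'
    · exact absurd ((Nat.prime_dvd_prime_iff_eq hr Nat.prime_two).1 h') hr2
    · exact absurd (hr.dvd_of_dvd_pow h') (ne_card K (p := p) hr hrp)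
  · exact h

end

/-- powers of two: `q² - 1`, `q⁴ - 1` -/
theorem two_pow_sq {q : ℕ} (hq : Odd q) : 2 ^ 3 ∣ q ^ 2 - 1 := by
  have : 8 ∣ q ^ 2 - 1 := Nat.eight_dvd_sq_sub_one_of_odd hq
  simpa using this

theorem two_pow_four {q : ℕ} (hq : Odd q) : 2 ^ 4 ∣ q ^ 4 - 1 := by
  have h1 : q ^ 4 - 1 = (q ^ 2 + 1) * (q ^ 2 - 1) := sq_sub q 2
  rw [h1, show (2 : ℕ) ^ 4 = 2 * 2 ^ 3 by norm_num]
  exact Nat.mul_dvd_mul (hq.pow (n := 2)).add_one.two_dvd (two_pow_sq hq)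

theorem two_P1 {q m : ℕ} (hq : Odd q) (hm : 3 ≤ m) : 2 ^ 7 ∣ P1 q m := by
  refine Dvd.dvd.mul_left ?_ _
  rw [← Finset.prod_range_mul_prod_Ico _ (show 2 ≤ m - 1 by omega), Finset.prod_range_succ, Finset.prod_range_one]
  refine Dvd.dvd.mul_right ?_ _
  rw [show (2 : ℕ) ^ 7 = 2 ^ 3 * 2 ^ 4 by norm_num]
  exact Nat.mul_dvd_mul (two_pow_sq hq) (two_pow_four hq)

theorem two_P2 {q m : ℕ} (hq : Odd q) : 2 ^ 4 ∣ P2 q m := by
  unfold P2
  refine Dvd.dvd.mul_right ?_ _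
  rw [show (2 : ℕ) ^ 4 = 2 * 2 ^ 3 by norm_num]
  refine Nat.mul_dvd_mul (hq.pow (n := m - 1)).add_one.two_dvd ?_
  exact (two_pow_sq hq).trans (pow_sub_one_dvd q ⟨m, rfl⟩)

section

variable (K : Type u) [Field K] [Finite K] {p : ℕ} [Fact p.Prime] [CharP K p]

/-- **`Ω_{2m+1}(q)`** -/
theorem np_odd {m : ℕ} (ho : Odd (Nat.card K)) (hm : 3 ≤ m) {r s : ℕ} (hr : r.Prime) (hs : s.Prime)
    (hrp : r ≠ p) (hsp : s ≠ p) (hrs : r ≠ s) (hd : r ∣ Nat.card (POmega K (quadFormOdd m K)))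
    (hd' : s ∣ Nat.card (POmega K (quadFormOdd m K))) : Adj r s (POmega K (quadFormOdd m K)) := by
  have hp : p.Prime := Fact.out
  have h2 := two_ne_zero_of_odd (K := K) (p := p) ho
  have hp2 : p ≠ 2 := char_ne_two_of_odd (K := K) ho
  have hq2 : 2 ≤ Nat.card K := Finite.one_lt_card
  have hpr : ∀ {r : ℕ}, r.Prime → r ≠ p → r ∣ Nat.card (POmega K (quadFormOdd m K)) →
      r ∣ ∏ i ∈ Finset.range m, (Nat.card K ^ (2 * (i + 1)) - 1) := by
    intro r hr hrp hd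
    by_cases hr2 : r = 2
    · subst hr2
      exact dvd_prod_idx (i := 0) (Finset.mem_range.2 (by omega))
        ((dvd_pow_self 2 (by norm_num : 3 ≠ 0)).trans (two_pow_sq ho))
    · exact odd_prod K (p := p) ho hr hrp hr2 hd
  have key : ∀ (k n M : ℕ) (hkn : k + n = m) (hk : 2 ≤ k) (hM : ∃ e, M ∣ p ^ e * dg (CForm.oddF K (k + n) h2) k)
      (h16 : 2 ^ 4 ∣ M) (h5 : r ∣ M) (h6 : s ∣ M), Adj r s (POmega K (quadFormOdd m K)) := by
    intro k n M hkn hk hM h16 h5 h6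
    obtain ⟨e, he⟩ := hM
    obtain ⟨d, hd1, hd2, hd3⟩ := odd_ch K (p := p) hkn ho h2 hm hk
    have h7 : ∀ r : ℕ, r.Prime → r ≠ p → r ∣ M → r ∣ d := by
      intro r hr hrp h
      by_cases hr2 : r = 2
      · have := hd3 1 (prime_pow_dvd Nat.prime_two hp hp2.symm (h16.trans he))
        rwa [hr2, ← pow_one 2]
      · have := hd2 r 1 hr hr2 (by rw [pow_one]; exact rm_p (p := p) hr hrp h he)
        rwa [pow_one] at this
    exact adj_of_ch hd1 hr hs hrs (h7 r hr hrp h5) (h7 s hs hsp h6)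
  rcases bc_cases (by omega) hr hs (hpr hr hrp hd) (hpr hs hsp hd') with ⟨h4, h5⟩ | ⟨h4, h5, h6, h7, -⟩
  · exact key m 0 _ (Nat.add_zero m) (by omega) (odd_dvd_top K h2 ho (p := p) (m := m) (by omega))
      ((pow_dvd_pow 2 (by norm_num)).trans (two_P1 ho hm)) h4 h5
  · exact key (m - 1) 1 _ (by omega) (by omega) (bc_key h5 hq2 (odd_dvd K h2 ho (p := p) (k := m - 1) (n := 1) (by omega)))
      (two_P2 ho) h6 h7

end

end Cfsg.Agent.H477.HC
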