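import Cfsg.Agent.H477.HC.Trans

/-!
# Siegel transformations and transitivity on pairs of points (hub H5, helper477)

`exists_siegel` : `v ↦ v + B(v,e) y + (t B(v,e) - ε⁻¹ B(v,y)) e`;
`trans_hyp` : an isometry fixing `e` and moving a hyperbolic partner of `e` to another one;
`Pt` : the points, `trans_opp`, `trans_rel`.
-/

set_option autoImplicit false

open Cfsg

namespace Cfsg.Agent.H477.HC

open Module Cfsg.Agent.H53.HC

universe u v w

namespace CForm

variable {K : Type u} [Field K] {V : Type v} [AddCommGroup V] [Module K V] (F : CForm K V)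

theorem T_norm {e f : V} (he : F.Sing e) (hf : F.Sing f) (hef : F.B e f = 1) (a x : K) :
    F.T (a * F.σ a * x) = a * F.σ a * F.T x := by
  have h1 : F.Q (x • e + f) = F.T x := by
    rw [F.Q_add, F.Q_smul, he.1, hf.1, F.B_smul_left, hef, mul_one, mul_zero, zero_add, zero_add]
  have h2 := F.Q_smul a (x • e + f)
  rw [h1, smul_add, F.Q_add, F.Q_smul a (x • e), F.Q_smul x, he.1, F.Q_smul a f, hf.1, F.B_smul_left, F.B_smul_left,
    F.B_smul_right, hef] at h2
  have e1 : a * (x * (F.σ a * 1)) = a * F.σ a * x := by ring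
  rw [e1] at h2
  simpa using h2

/-- **Siegel transformations** -/
theorem exists_siegel [FiniteDimensional K V] {e f y : V} (he : F.Sing e) (hf : F.Sing f) (hef : F.B e f = 1)
    (hye : F.B y e = 0) {t : K} (h1 : F.σ t + F.B y y + t * F.ε = 0) (h2 : F.Q y + F.T (F.σ t) = 0) :
    ∃ g : F.iso, ∀ v, (g : V ≃ₗ[K] V) v = v + F.B v e • y + (t * F.B v e - F.ε⁻¹ * F.B v y) • e := by
  have hey := F.B_eq_zero hye
  let L : V →ₗ[K] V :=
    { toFun := fun v => v + F.B v e • y + (t * F.B v e - F.ε⁻¹ * F.B v y) • e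
      map_add' := fun x z => by
        rw [F.B_add_left, F.B_add_left]
        module
      map_smul' := fun a x => by
        rw [F.B_smul_left, F.B_smul_left, RingHom.id_apply]
        module }
  refine F.exists_iso L (fun u v => ?_) (fun v => ?_)
  · change F.B (u + F.B u e • y + (t * F.B u e - F.ε⁻¹ * F.B u y) • e)
      (v + F.B v e • y + (t * F.B v e - F.ε⁻¹ * F.B v y) • e) = F.B u v
    simp only [F.B_add_left, F.B_add_right, F.B_smul_left, F.B_smul_right, hye, hey, he.2, map_mul, map_sub, F.σεi]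
    rw [F.B_symm e v, F.B_symm y v]
    have h3 : F.B y y = - F.σ t - t * F.ε := by linear_combination h1
    rw [h3]
    have := F.ε_ne
    field_simp
    ring
  · change F.Q (v + F.B v e • y + (t * F.B v e - F.ε⁻¹ * F.B v y) • e) = F.Q v
    have e1 : v + F.B v e • y + (t * F.B v e - F.ε⁻¹ * F.B v y) • e =
        v + (F.B v e • y + (t * F.B v e - F.ε⁻¹ * F.B v y) • e) := by module
    rw [e1, F.Q_add, F.Q_add, F.Q_smul, F.Q_smul, he.1]
    simp only [F.B_add_right, F.B_smul_right, F.B_smul_left, hye, mul_zero, T_zero, add_zero, map_sub, map_mul, F.σεi]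
    have h3 : F.σ (F.B v e) * F.B v y + (F.σ t * F.σ (F.B v e) - F.ε * F.σ (F.B v y)) * F.B v e =
        (F.σ (F.B v e) * F.B v y - F.ε * F.σ (F.σ (F.B v e) * F.B v y)) + F.B v e * F.σ (F.B v e) * F.σ t := by
      rw [map_mul, F.σσ]; ring
    rw [h3, F.T_add, F.T_sub, F.T_symm, sub_self, zero_add, F.T_norm he hf hef]
    linear_combination (F.B v e * F.σ (F.B v e)) * h2

/-- **transitivity on the hyperbolic partners** -/
theorem trans_hyp [FiniteDimensional K V] {e f f' : V} (he : F.Sing e) (hf : F.Sing f) (hf' : F.Sing f')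
    (hef : F.B e f = 1) (hef' : F.B e f' = 1) :
    ∃ g : F.iso, (g : V ≃ₗ[K] V) e = e ∧ (g : V ≃ₗ[K] V) f = f' := by
  have hfe : F.B f e = F.ε := by rw [F.B_symm, hef, map_one, mul_one]
  have hfe' : F.B f' e = F.ε := by rw [F.B_symm, hef', map_one, mul_one]
  obtain ⟨c, hc⟩ : ∃ c, c = F.B f' f := ⟨_, rfl⟩
  obtain ⟨x, hx⟩ : ∃ x, x = f' - f - c • e := ⟨_, rfl⟩
  have hf'x : f' = x + (f + c • e) := by rw [hx]; abel
  have hxe : F.B x e = 0 := by
    rw [hx, F.B_sub_left, F.B_sub_left, F.B_smul_left, he.2, hfe, hfe']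
    ring
  have hxf : F.B x f = 0 := by
    rw [hx, F.B_sub_left, F.B_sub_left, F.B_smul_left, hef, hf.2, ← hc]
    ring
  have hex := F.B_eq_zero hxe
  have hfx := F.B_eq_zero hxf
  have hε := F.ε_ne
  have hσε : F.σ F.ε⁻¹ = F.ε := F.σεi
  -- singularity of `f'`
  have q1 : F.B x x + (c + F.σ c * F.ε) = 0 := by
    have h := hf'.2
    rw [hf'x] at h
    simp only [F.B_add_left, F.B_add_right, F.B_smul_left, F.B_smul_right, hxe, hxf, hex, hfx, hf.2, he.2, hef, hfe,
      mul_zero, zero_add, add_zero, mul_one] at h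
    linear_combination h
  have q2 : F.Q x + F.T (F.σ c * F.ε) = 0 := by
    have h := hf'.1
    rw [hf'x, F.Q_add, F.Q_add, F.Q_smul, hf.1, he.1, F.B_add_right, F.B_smul_right, F.B_smul_right, hxf, hxe, hfe,
      mul_zero, mul_zero, add_zero, F.T_zero, zero_add] at h
    linear_combination h
  obtain ⟨g, hg⟩ := F.exists_siegel he hf hef (y := F.ε⁻¹ • x) (t := c * F.ε⁻¹)
    (by rw [F.B_smul_left, hxe, mul_zero])
    (by
      rw [F.B_smul_left, F.B_smul_right, map_mul, hσε]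
      have : F.ε⁻¹ * (F.ε * F.B x x) = F.B x x := by rw [← mul_assoc, inv_mul_cancel₀ hε, one_mul]
      rw [this, mul_assoc c, inv_mul_cancel₀ hε, mul_one]
      linear_combination q1)
    (by
      rw [F.Q_smul, hσε, inv_mul_cancel₀ hε, one_mul, map_mul, hσε]
      exact q2)
  refine ⟨g, ?_, ?_⟩
  · rw [hg, he.2, F.B_smul_right, hex]
    simp
  · rw [hg, hfe, F.B_smul_right, hfx, mul_zero, mul_zero, sub_zero, smul_smul, mul_inv_cancel₀ hε, one_smul,
      mul_assoc, inv_mul_cancel₀ hε, mul_one, hf'x]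
    abel

/-! ### points -/

/-- the points of the polar space -/
def Pt : Type v := {W : Submodule K V // W ∈ F.Om 1}

instance ptAct : MulAction F.iso F.Pt where
  smul g x := ⟨x.1.map (F.iso.subtype g : V →ₗ[K] V), F.Om_map g x.1 x.2⟩
  one_smul x := by
    apply Subtype.ext
    change x.1.map (LinearMap.id : V →ₗ[K] V) = x.1
    exact Submodule.map_id _
  mul_smul g h x := by
    apply Subtype.ext
    change x.1.map ((F.iso.subtype (g * h) : V ≃ₗ[K] V) : V →ₗ[K] V) = (x.1.map _).map _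
    rw [← Submodule.map_comp]
    rfl

theorem smul_val (g : F.iso) (x : F.Pt) : (g • x).1 = x.1.map (F.iso.subtype g : V →ₗ[K] V) := rfl

theorem sing_smul {v : V} (hv : F.Sing v) (a : K) : F.Sing (a • v) :=
  ⟨by rw [F.Q_smul, hv.1, mul_zero], by rw [F.B_smul_left, F.B_smul_right, hv.2, mul_zero, mul_zero]⟩

theorem TS_span_singleton {v : V} (hv : F.Sing v) : F.TS (Submodule.span K {v}) := by
  refine ⟨fun w hw => ?_, fun w hw w' hw' => ?_⟩
  · obtain ⟨a, rfl⟩ := Submodule.mem_span_singleton.1 hw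
    exact (F.sing_smul hv a).1
  · obtain ⟨a, rfl⟩ := Submodule.mem_span_singleton.1 hw
    obtain ⟨b, rfl⟩ := Submodule.mem_span_singleton.1 hw'
    rw [F.B_smul_left, F.B_smul_right, hv.2, mul_zero, mul_zero]

/-- the point of a singular vector -/
def pt (v : V) (h0 : v ≠ 0) (hv : F.Sing v) : F.Pt :=
  ⟨Submodule.span K {v}, F.TS_span_singleton hv, finrank_span_singleton h0⟩

theorem exists_pt (x : F.Pt) : ∃ (v : V) (h0 : v ≠ 0) (hv : F.Sing v), x = F.pt v h0 hv := by
  obtain ⟨W, hW, hW1⟩ := x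
  obtain ⟨v, hv0, hv⟩ := finrank_eq_one_iff'.1 hW1
  have h0 : (v : V) ≠ 0 := fun h => hv0 (Subtype.ext h)
  refine ⟨v, h0, hW.sing v.2, ?_⟩
  apply Subtype.ext
  change W = Submodule.span K {(v : V)}
  apply le_antisymm
  · intro w hw
    obtain ⟨c, hc⟩ := hv ⟨w, hw⟩
    exact Submodule.mem_span_singleton.2 ⟨c, congrArg Subtype.val hc⟩
  · rw [Submodule.span_singleton_le_iff_mem]
    exact v.2

theorem sing_map (g : F.iso) {v : V} (hv : F.Sing v) : F.Sing ((g : V ≃ₗ[K] V) v) :=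
  ⟨(F.iso_Q g v).trans hv.1, (F.iso_B g v v).trans hv.2⟩

theorem map_ne (g : F.iso) {v : V} (h0 : v ≠ 0) : (g : V ≃ₗ[K] V) v ≠ 0 := (LinearEquiv.map_ne_zero_iff _).2 h0

theorem smul_pt (g : F.iso) {v : V} (h0 : v ≠ 0) (hv : F.Sing v) :
    g • F.pt v h0 hv = F.pt ((g : V ≃ₗ[K] V) v) (F.map_ne g h0) (F.sing_map g hv) := by
  apply Subtype.ext
  rw [smul_val]
  change (Submodule.span K {v}).map (F.iso.subtype g : V →ₗ[K] V) = Submodule.span K {(g : V ≃ₗ[K] V) v}
  rw [Submodule.map_span, Set.image_singleton]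
  rfl

theorem pt_eq_iff {v w : V} {h0 : v ≠ 0} {hv : F.Sing v} {h0' : w ≠ 0} {hw : F.Sing w} :
    F.pt v h0 hv = F.pt w h0' hw ↔ ∃ c : K, c ≠ 0 ∧ v = c • w := by
  constructor
  · intro he
    have h1 : v ∈ Submodule.span K {w} := by
      rw [← show Submodule.span K {v} = Submodule.span K {w} from congrArg Subtype.val he]
      exact Submodule.mem_span_singleton_self v
    obtain ⟨c, hc⟩ := Submodule.mem_span_singleton.1 h1
    refine ⟨c, ?_, hc.symm⟩
    rintro rfl
    rw [zero_smul] at hc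
    exact h0 hc.symm
  · rintro ⟨c, hc, rfl⟩
    apply Subtype.ext
    exact Submodule.span_singleton_smul_eq (IsUnit.mk0 c hc) w

/-- perpendicular -/
def Perp (x y : F.Pt) : Prop := ∀ u ∈ x.1, ∀ v ∈ y.1, F.B u v = 0

theorem perp_pt {v w : V} {h0 : v ≠ 0} {hv : F.Sing v} {h0' : w ≠ 0} {hw : F.Sing w} :
    F.Perp (F.pt v h0 hv) (F.pt w h0' hw) ↔ F.B v w = 0 := by
  constructor
  · intro h
    exact h v (Submodule.mem_span_singleton_self v) w (Submodule.mem_span_singleton_self w)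
  · intro h u hu z hz
    obtain ⟨a, rfl⟩ := Submodule.mem_span_singleton.1 hu
    obtain ⟨b, rfl⟩ := Submodule.mem_span_singleton.1 hz
    rw [F.B_smul_left, F.B_smul_right, h, mul_zero, mul_zero]

theorem Perp.symm {F : CForm K V} {x y : F.Pt} (h : F.Perp x y) : F.Perp y x := fun u hu v hv => F.B_eq_zero (h v hv u hu)

theorem perp_self (x : F.Pt) : F.Perp x x := x.2.1.2

theorem perp_smul (g : F.iso) {x y : F.Pt} (h : F.Perp x y) : F.Perp (g • x) (g • y) := by
  rintro _ ⟨u, hu, rfl⟩ _ ⟨v, hv, rfl⟩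
  exact (F.iso_B g u v).trans (h u hu v hv)

/-- perpendicular and distinct -/
def Rel (x y : F.Pt) : Prop := x ≠ y ∧ F.Perp x y

/-- opposite points: normalised vectors -/
theorem exists_hyp_pt {x y : F.Pt} (h : ¬ F.Perp x y) : ∃ (e f : V) (he0 : e ≠ 0) (he : F.Sing e) (hf0 : f ≠ 0)
    (hf : F.Sing f), x = F.pt e he0 he ∧ y = F.pt f hf0 hf ∧ F.B e f = 1 := by
  obtain ⟨v, h0, hv, rfl⟩ := F.exists_pt x
  obtain ⟨w, h0', hw, rfl⟩ := F.exists_pt y
  rw [perp_pt] at h
  have h1 : (F.B v w)⁻¹ ≠ 0 := inv_ne_zero h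
  refine ⟨(F.B v w)⁻¹ • v, w, smul_ne_zero h1 h0, F.sing_smul hv _, h0', hw, ?_, rfl, ?_⟩
  · rw [pt_eq_iff]
    exact ⟨F.B v w, h, by rw [smul_smul, mul_inv_cancel₀ h, one_smul]⟩
  · rw [F.B_smul_left, inv_mul_cancel₀ h]

/-- **transitivity on the opposite pairs** -/
theorem trans_opp [FiniteDimensional K V] {x y x' y' : F.Pt} (h : ¬ F.Perp x y) (h' : ¬ F.Perp x' y') :
    ∃ g : F.iso, g • x = x' ∧ g • y = y' := by
  obtain ⟨g, hg⟩ := F.trans_Om x.2 x'.2
  have hg' : g • x = x' := Subtype.ext hg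
  have h2 : ¬ F.Perp x' (g • y) := by
    intro h3
    apply h
    have h4 := F.perp_smul g⁻¹ h3
    rwa [← hg', inv_smul_smul, inv_smul_smul] at h4
  obtain ⟨e, f, he0, he, hf0, hf, h5, h6, h7⟩ := F.exists_hyp_pt h2
  obtain ⟨e', f', he0', he', hf0', hf', h5', h6', h7'⟩ := F.exists_hyp_pt h'
  obtain ⟨c, hc, hce⟩ := (F.pt_eq_iff).1 (h5.symm.trans h5')
  -- `e = c e'`
  have hsc : F.σ c ≠ 0 := by rwa [Ne, map_eq_zero]
  obtain ⟨k, hk, hk'⟩ := F.trans_hyp he hf (F.sing_smul hf' (F.σ c)⁻¹) h7 (by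
    rw [hce, F.B_smul_left, F.B_smul_right, h7', map_inv₀, F.σσ, mul_one, mul_inv_cancel₀ hc])
  refine ⟨k * g, ?_, ?_⟩
  · rw [mul_smul, hg', h5, smul_pt]
    exact F.pt_eq_iff.2 ⟨1, one_ne_zero, by rw [one_smul, hk]⟩
  · rw [mul_smul, h6, smul_pt, h6']
    exact F.pt_eq_iff.2 ⟨(F.σ c)⁻¹, inv_ne_zero hsc, hk'⟩

/-- **transitivity on the perpendicular pairs** -/
theorem trans_rel [FiniteDimensional K V] {x y x' y' : F.Pt} (h : F.Rel x y) (h' : F.Rel x' y') :
    ∃ g : F.iso, g • x = x' ∧ g • y = y' := by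
  classical
  have key : ∀ {x y : F.Pt}, F.Rel x y → ∃ (v : Fin 2 → V) (h0 : ∀ i, v i ≠ 0) (hv : ∀ i, F.Sing (v i)),
      LinearIndependent K v ∧ Submodule.span K (Set.range v) ∈ F.Om 2 ∧ x = F.pt (v 0) (h0 0) (hv 0) ∧
        y = F.pt (v 1) (h0 1) (hv 1) := by
    rintro x y ⟨hne, hp⟩
    obtain ⟨v, h0, hv, rfl⟩ := F.exists_pt x
    obtain ⟨w, h0', hw, rfl⟩ := F.exists_pt y
    rw [perp_pt] at hp
    have hwv := F.B_eq_zero hp
    have hli : LinearIndependent K ![v, w] := by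
      rw [LinearIndependent.pair_iff' h0]
      intro a ha
      apply hne
      rw [pt_eq_iff]
      have ha0 : a ≠ 0 := by
        rintro rfl
        rw [zero_smul] at ha
        exact h0' ha.symm
      exact ⟨a⁻¹, inv_ne_zero ha0, by rw [← ha, smul_smul, inv_mul_cancel₀ ha0, one_smul]⟩
    refine ⟨![v, w], fun i => ?_, fun i => ?_, hli, ⟨F.TS_span (fun i j => ?_) (fun i => ?_), ?_⟩, rfl, rfl⟩
    · fin_cases i
      · exact h0
      · exact h0'
    · fin_cases i
      · exact hv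
      · exact hw
    · fin_cases i <;> fin_cases j
      · exact hv.2
      · exact hp
      · exact hwv
      · exact hw.2
    · fin_cases i
      · exact hv.1
      · exact hw.1
    · rw [finrank_span_eq_card hli, Fintype.card_fin]
  obtain ⟨v, v0, vs, vli, vO, rfl, rfl⟩ := key h
  obtain ⟨w, w0, ws, wli, wO, rfl, rfl⟩ := key h'
  obtain ⟨g, hg⟩ := F.trans_Om vO wO
  -- the two bases of the plane
  have hgv : LinearIndependent K (fun i => (g : V ≃ₗ[K] V) (v i)) :=
    vli.map' ((g : V ≃ₗ[K] V) : V →ₗ[K] V) (LinearEquiv.ker _)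
  have hmem : ∀ i, (g : V ≃ₗ[K] V) (v i) ∈ Submodule.span K (Set.range w) := by
    intro i
    rw [← hg]
    exact ⟨v i, Submodule.subset_span ⟨i, rfl⟩, rfl⟩
  have hspan : Submodule.span K (Set.range fun i => (g : V ≃ₗ[K] V) (v i)) = Submodule.span K (Set.range w) := by
    apply Submodule.eq_of_le_of_finrank_eq
    · rw [Submodule.span_le]
      rintro _ ⟨i, rfl⟩
      exact hmem i
    · rw [finrank_span_eq_card hgv, finrank_span_eq_card wli]
  let b1 : Basis (Fin 2) K (Submodule.span K (Set.range w)) := (Basis.span hgv).map (LinearEquiv.ofEq _ _ hspan)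
  let b2 : Basis (Fin 2) K (Submodule.span K (Set.range w)) := Basis.span wli
  have hb1 : ∀ i, ((b1 i : Submodule.span K (Set.range w)) : V) = (g : V ≃ₗ[K] V) (v i) := by
    intro i
    change ((LinearEquiv.ofEq _ _ hspan ((Basis.span hgv) i) : Submodule.span K (Set.range w)) : V) = _
    rw [LinearEquiv.coe_ofEq_apply, Basis.span_apply]
  have hb2 : ∀ i, ((b2 i : Submodule.span K (Set.range w)) : V) = w i := fun i => by
    change ((Basis.span wli) i : V) = _
    rw [Basis.span_apply]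
  obtain ⟨k, hk⟩ := F.exists_levi' wO.1 (b1.equiv b2 (Equiv.refl _))
  have hk' : ∀ i, (k : V ≃ₗ[K] V) ((g : V ≃ₗ[K] V) (v i)) = w i := by
    intro i
    rw [← hb1, hk, Basis.equiv_apply, Equiv.refl_apply, hb2]
  refine ⟨k * g, ?_, ?_⟩
  · rw [mul_smul, smul_pt, smul_pt]
    exact F.pt_eq_iff.2 ⟨1, one_ne_zero, by rw [one_smul, hk']⟩
  · rw [mul_smul, smul_pt, smul_pt]
    exact F.pt_eq_iff.2 ⟨1, one_ne_zero, by rw [one_smul, hk']⟩

end CForm

end Cfsg.Agent.H477.HC
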